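/-
Principal block of a Sylow subgroup of prime order: the characters outside average to zero over the regular part of
the centraliser.
-/
import Cfsg.Agent.Lib.SimpleM22.SelfCentral
import Cfsg.Agent.Lib.SimpleM11.RankThree

set_option autoImplicit false
set_option linter.style.haveILetI false
set_option linter.unusedSectionVars false

namespace CfsgSimpleM23

open Cfsg CfsgLib.CharTheory CfsgLib.Blocks CfsgSimpleM11 CfsgSimpleM22
open CfsgLib.SmallSylow (inIdx)
open CfsgLib.CharTheory.SmallDegree (Setup Compl cen)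
open scoped ComplexConjugate

universe u
variable {G : Type u} [Group G] [Fintype G] {p : ℕ} [Fact p.Prime]

/-- The regular part of the centraliser of a Sylow subgroup of prime order. -/
structure Reg (P : Sylow p G) (H : Subgroup G) : Prop where
  le : H ≤ Subgroup.centralizer ((P : Subgroup G) : Set G)
  card : p * Nat.card H = Nat.card (Subgroup.centralizer ((P : Subgroup G) : Set G))
  regular : ∀ h ∈ H, ¬ p ∣ orderOf h
  mem : ∀ c ∈ Subgroup.centralizer ((P : Subgroup G) : Set G), ¬ p ∣ orderOf c → c ∈ H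

theorem exists_reg (P : Sylow p G) (hP : Nat.card P = p) : ∃ H, Reg P H := by
  classical
  have hp := (Fact.out : p.Prime)
  have h := CfsgLib.Blocks.DefectOne.setup_sylow P hP
  obtain ⟨H, hH⟩ := CfsgLib.Blocks.DefectOne.exists_Compl h
  have hcard : p * Nat.card H = Nat.card (cen (P : Subgroup G)) := by
    rw [← hH.card, show Nat.card (P : Subgroup G) = p from hP]
  have hpH : ¬ p ∣ Nat.card H := fun hd => h.sylow (by
    have h1 : p * p ∣ Nat.card (P : Subgroup G) * (P : Subgroup G).index := by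
      rw [Subgroup.card_mul_index]
      exact (Nat.mul_dvd_mul_left p hd).trans (hcard ▸ Subgroup.card_subgroup_dvd_card _)
    rw [show Nat.card (P : Subgroup G) = p from hP] at h1
    exact Nat.dvd_of_mul_dvd_mul_left hp.pos h1)
  have hreg : ∀ y ∈ H, ¬ p ∣ orderOf y := fun y hy hd =>
    hpH (hd.trans (Subgroup.orderOf_dvd_natCard H hy))
  refine ⟨H, hH.le, hcard, hreg, fun c hc hcr => ?_⟩
  obtain ⟨x, hx, y, hy, rfl⟩ := hH.prod c hc
  suffices hx1 : x = 1 by rwa [hx1, one_mul]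
  have hcomm : Commute x y := Subgroup.mem_centralizer_iff.1 (hH.le hy) x hx
  have h1 : x ^ orderOf (x * y) * y ^ orderOf (x * y) = 1 := by rw [← hcomm.mul_pow, pow_orderOf_eq_one]
  have h2 : x ^ orderOf (x * y) = 1 := by
    rw [← Subgroup.mem_bot, ← hH.inf]
    exact ⟨Subgroup.pow_mem _ hx _, (mul_eq_one_iff_eq_inv.1 h1) ▸ H.inv_mem (H.pow_mem hy _)⟩
  rcases (Nat.dvd_prime hp).1 (hP ▸ Subgroup.orderOf_dvd_natCard (P : Subgroup G) hx) with e | e
  · exact orderOf_eq_one_iff.1 e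
  · exact absurd (e ▸ orderOf_dvd_of_pow_eq_one h2) hcr

variable (P : Sylow p G) (H : Subgroup G) [Fintype H] {x : G}

/-- The average over the regular part. -/
noncomputable def avg (χ : IrrCharacter G) (x : G) : ℂ :=
  (∑ h : H, (χ : G → ℂ) (x * h)) / (Nat.card H : ℂ)

variable {P H}

theorem pow_val_ne_one {x : G} (hx : orderOf x = p) {i : ZMod p} (hi : i ≠ 0) : x ^ i.val ≠ 1 := fun e => by
  have h := orderOf_dvd_of_pow_eq_one e
  rw [hx] at h
  have h2 := ZMod.val_lt i
  exact hi ((ZMod.val_eq_zero i).1 (Nat.eq_zero_of_dvd_of_lt h h2))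

/-- The multiplicity of a linear character of the Sylow subgroup among the vectors fixed by the regular part. -/
theorem exists_avg_mult (χ : IrrCharacter G) (hx : x ^ p = 1) (hxH : ∀ h ∈ H, Commute x h)
    (ψ : AddChar (ZMod p) ℂ) : ∃ m : ℕ, ∑ i : ZMod p, ψ i * avg H χ (x ^ i.val) = (p : ℂ) * m := by
  classical
  obtain ⟨d, ρ, -, hρ⟩ := χ.2
  let φ : Multiplicative (ZMod p) × H →* G :=
    { toFun := fun a => x ^ (Multiplicative.toAdd a.1).val * (a.2 : G)
      map_one' := by simp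
      map_mul' := fun a b => by
        have e : x ^ (Multiplicative.toAdd (a.1 * b.1)).val =
            x ^ (Multiplicative.toAdd a.1).val * x ^ (Multiplicative.toAdd b.1).val := by
          rw [toAdd_mul, ← pow_add]
          exact pow_eq_pow_of_modEq (by rw [ZMod.val_add]; exact Nat.mod_modEq _ _) hx
        rw [Prod.fst_mul, Prod.snd_mul, e, Subgroup.coe_mul]
        exact Commute.mul_mul_mul_comm ((hxH _ a.2.2).pow_left _) _ _ }
  let l : Multiplicative (ZMod p) × H →* ℂ :=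
    { toFun := fun a => ψ (Multiplicative.toAdd a.1)
      map_one' := by simp
      map_mul' := fun a b => by rw [Prod.fst_mul, toAdd_mul, AddChar.map_add_eq_mul] }
  let σ : Representation ℂ (Multiplicative (ZMod p) × H) (Fin d → ℂ) :=
    { toFun := fun a => l a • ρ (φ a)
      map_one' := by rw [map_one, map_one, map_one, one_smul]
      map_mul' := fun a b => by rw [map_mul, map_mul, map_mul, smul_mul_smul_comm] }
  haveI : Invertible (Nat.card (Multiplicative (ZMod p) × H) : ℂ) :=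
    invertibleOfNonzero (Nat.cast_ne_zero.2 Nat.card_pos.ne')
  have h := σ.card_inv_mul_sum_char_eq_finrank
  refine ⟨Module.finrank ℂ σ.invariants, ?_⟩
  rw [inv_mul_eq_iff_eq_mul₀ (Nat.cast_ne_zero.2 Nat.card_pos.ne')] at h
  have hc : (Nat.card (Multiplicative (ZMod p) × H) : ℂ) = (p : ℂ) * (Nat.card H : ℂ) := by
    rw [Nat.card_prod, Nat.card_congr Multiplicative.toAdd, Nat.card_zmod, Nat.cast_mul]
  rw [hc] at h
  have hH0 : (Nat.card H : ℂ) ≠ 0 := Nat.cast_ne_zero.2 Nat.card_pos.ne'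
  simp only [avg]
  rw [Finset.sum_congr rfl fun i _ => (mul_div_assoc (ψ i) (∑ y : H, (χ : G → ℂ) (x ^ i.val * y)) _).symm,
    ← Finset.sum_div, div_eq_iff hH0, mul_right_comm, ← h, Fintype.sum_prod_type]
  refine Fintype.sum_equiv Multiplicative.ofAdd _ _ fun i => ?_
  rw [Finset.mul_sum]
  refine Finset.sum_congr rfl fun y _ => ?_
  show _ = LinearMap.trace ℂ _ (l _ • ρ (φ _))
  rw [map_smul, smul_eq_mul, ← hρ]
  rfl

/-- Parseval's identity. -/
theorem parseval (T : ZMod p → ℂ) (m : AddChar (ZMod p) ℂ → ℕ)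
    (hm : ∀ ψ : AddChar (ZMod p) ℂ, ∑ i, ψ i * T i = (p : ℂ) * m ψ) :
    ∑ i, ‖T i‖ ^ 2 = (p : ℝ) * ∑ ψ, (m ψ : ℝ) ^ 2 := by
  classical
  have hp0 : (p : ℂ) ≠ 0 := Nat.cast_ne_zero.2 (Fact.out : p.Prime).ne_zero
  have key : ∀ i i' : ZMod p, ∑ ψ : AddChar (ZMod p) ℂ, ψ i * conj (ψ i') = if i = i' then (p : ℂ) else 0 := by
    intro i i'
    simp only [← AddChar.map_neg_eq_conj, ← AddChar.map_add_eq_mul]
    rw [AddChar.sum_apply_eq_ite]
    simp only [ZMod.card, ← sub_eq_add_neg, sub_eq_zero]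
  have h1 : ∑ ψ : AddChar (ZMod p) ℂ, ((p : ℂ) * m ψ) * conj ((p : ℂ) * m ψ) =
      (p : ℂ) * ∑ i, T i * conj (T i) := by
    calc ∑ ψ : AddChar (ZMod p) ℂ, ((p : ℂ) * m ψ) * conj ((p : ℂ) * m ψ)
        = ∑ ψ : AddChar (ZMod p) ℂ, ∑ i, ∑ i', (ψ i * conj (ψ i')) * (T i * conj (T i')) :=
          Finset.sum_congr rfl fun ψ _ => by
            rw [← hm, map_sum, Finset.sum_mul_sum]
            exact Finset.sum_congr rfl fun i _ => Finset.sum_congr rfl fun i' _ => by rw [map_mul]; ring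
      _ = ∑ i, ∑ i', (∑ ψ : AddChar (ZMod p) ℂ, ψ i * conj (ψ i')) * (T i * conj (T i')) := by
          rw [Finset.sum_comm]
          refine Finset.sum_congr rfl fun i _ => ?_
          rw [Finset.sum_comm]
          exact Finset.sum_congr rfl fun i' _ => (Finset.sum_mul ..).symm
      _ = (p : ℂ) * ∑ i, T i * conj (T i) := by simp [key, ite_mul, Finset.mul_sum]
  simp only [Complex.mul_conj', ← Complex.ofReal_pow, norm_mul, Complex.norm_natCast] at h1
  have h2 : ∑ ψ : AddChar (ZMod p) ℂ, ((p : ℝ) * m ψ) ^ 2 = (p : ℝ) * ∑ i, ‖T i‖ ^ 2 := by exact_mod_cast h1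
  have hp0' : (p : ℝ) ≠ 0 := Nat.cast_ne_zero.2 (Fact.out : p.Prime).ne_zero
  apply mul_left_cancel₀ hp0'
  rw [← h2, ← mul_assoc, Finset.mul_sum]
  exact Finset.sum_congr rfl fun ψ _ => by ring

variable (hR : Reg P H) (hP : Nat.card P = p) (hx : x ∈ (P : Subgroup G)) (hx1 : x ≠ 1)

include hR hP hx hx1 in
/-- Column orthogonality for the averages. -/
theorem sum_avg_sq : ∑ χ : IrrCharacter G, avg H χ x * conj (avg H χ x) = (p : ℂ) := by
  classical
  have hp := (Fact.out : p.Prime)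
  set C := Subgroup.centralizer ((P : Subgroup G) : Set G) with hC
  haveI := Fintype.ofFinite C
  have hxo := CfsgLib.SmallSylow.orderOf_mem P hP hx hx1
  have hcomm : ∀ h ∈ H, Commute x h := fun h hh => Subgroup.mem_centralizer_iff.1 (hR.le hh) x hx
  have hcen : ∀ g : G, g * x = x * g → g ∈ C := fun g hg => by
    rw [hC, ← (CfsgLib.Blocks.DefectOne.setup_sylow P hP).star x hx hx1]
    exact Subgroup.mem_centralizer_singleton_iff.2 hg
  have hH0 : (Nat.card H : ℂ) ≠ 0 := Nat.cast_ne_zero.2 Nat.card_pos.ne'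
  -- a conjugator fixes the singular part
  have hkey : ∀ (g : G) (h h' : H), g * (x * h) * g⁻¹ = x * h' → g * x * g⁻¹ = x := by
    intro g h h' e
    have hco : Nat.Coprime p (Nat.card H) := by
      refine hp.coprime_iff_not_dvd.2 fun hd => ?_
      obtain ⟨y, hy⟩ := exists_prime_orderOf_dvd_card' p hd
      exact hR.regular y y.2 (by rw [Subgroup.orderOf_coe, hy])
    obtain ⟨m, hm1, hm2⟩ := Nat.chineseRemainder hco 1 0
    have hpow : ∀ y : H, (x * y) ^ m = x := fun y => by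
      rw [(hcomm y y.2).mul_pow]
      have e1 : x ^ m = x := by
        rw [pow_eq_pow_of_modEq hm1 (by rw [← hxo, pow_orderOf_eq_one]), pow_one]
      have e2 : (y : G) ^ m = 1 := orderOf_dvd_iff_pow_eq_one.1
        ((Subgroup.orderOf_dvd_natCard H y.2).trans (Nat.modEq_zero_iff_dvd.1 hm2))
      rw [e1, e2, mul_one]
    have := congrArg (· ^ m) e
    simp only [conj_pow, hpow] at this
    exact this
  -- the fibres
  have hfib : ∀ h h' : H, (if IsConj (x * (h : G)) (x * h') then (cc (x * (h : G)) : ℂ) else 0) =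
      ((Finset.univ.filter fun c : C => (c : G) * h * (c : G)⁻¹ = h').card : ℂ) := by
    intro h h'
    have hiff : ∀ g : G, g * (x * h) * g⁻¹ = x * h' ↔ g ∈ C ∧ g * h * g⁻¹ = h' := fun g => by
      constructor
      · intro e
        have e1 := hkey g h h' e
        refine ⟨hcen g (mul_inv_eq_iff_eq_mul.1 e1), mul_left_cancel (a := x) ?_⟩
        calc x * (g * h * g⁻¹) = (g * x * g⁻¹) * (g * h * g⁻¹) := by rw [e1]
          _ = g * (x * h) * g⁻¹ := by group
          _ = x * h' := e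
      · rintro ⟨hg, e⟩
        have e1 : g * x * g⁻¹ = x := mul_inv_eq_iff_eq_mul.2 (Subgroup.mem_centralizer_iff.1 hg x hx).symm
        calc g * (x * h) * g⁻¹ = (g * x * g⁻¹) * (g * h * g⁻¹) := by group
          _ = x * h' := by rw [e1, e]
    split_ifs with hc
    · obtain ⟨g0, hg0⟩ := isConj_iff.1 hc
      rw [Nat.cast_inj, cc, ← Fintype.card_subtype, ← Nat.card_eq_fintype_card]
      refine Nat.card_congr
        { toFun := fun y => ⟨⟨g0 * y.1, ((hiff _).1 ?_).1⟩, ((hiff _).1 ?_).2⟩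
          invFun := fun c => ⟨g0⁻¹ * (c.1 : G), Subgroup.mem_centralizer_singleton_iff.2 ?_⟩
          left_inv := fun y => Subtype.ext (inv_mul_cancel_left _ _)
          right_inv := fun c => Subtype.ext (Subtype.ext (mul_inv_cancel_left _ _)) }
      iterate 2
        have hy : y.1 * (x * h) = (x * h) * y.1 := Subgroup.mem_centralizer_singleton_iff.1 y.2
        calc g0 * y.1 * (x * h) * (g0 * y.1)⁻¹ = g0 * (y.1 * (x * h) * y.1⁻¹) * g0⁻¹ := by group
          _ = x * h' := by rw [mul_inv_eq_iff_eq_mul.2 hy, hg0]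
      have e := (hiff c.1).2 ⟨c.1.2, c.2⟩
      rw [← hg0] at e
      have : (g0⁻¹ * (c.1 : G)) * (x * h) * (g0⁻¹ * (c.1 : G))⁻¹ = x * h := by
        calc (g0⁻¹ * (c.1 : G)) * (x * h) * (g0⁻¹ * (c.1 : G))⁻¹
            = g0⁻¹ * ((c.1 : G) * (x * h) * (c.1 : G)⁻¹) * g0 := by group
          _ = x * h := by rw [e]; group
      exact mul_inv_eq_iff_eq_mul.1 this
    · rw [Finset.card_eq_zero.2 (Finset.filter_eq_empty_iff.2 fun (c : C) _ e =>
        hc (isConj_iff.2 ⟨(c : G), (hiff c).2 ⟨c.2, e⟩⟩)), Nat.cast_zero]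
  -- the normal subgroup
  have hconj : ∀ (c : C) (h : H), (c : G) * h * (c : G)⁻¹ ∈ H := fun c h =>
    hR.mem _ (Subgroup.mul_mem _ (Subgroup.mul_mem _ c.2 (hR.le h.2)) (Subgroup.inv_mem _ c.2)) (by
      rw [show (c : G) * h * (c : G)⁻¹ = MulAut.conj (c : G) (h : G) from rfl, MulEquiv.orderOf_eq]
      exact hR.regular h h.2)
  have hinner : ∀ h : H, ∑ h' : H, ((Finset.univ.filter fun c : C => (c : G) * h * (c : G)⁻¹ = h').card : ℂ) =
      (p : ℂ) * (Nat.card H : ℂ) := fun h => by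
    rw [← Nat.cast_sum, ← Nat.cast_mul, hR.card, Nat.cast_inj, Nat.card_eq_fintype_card, ← Finset.card_univ]
    convert (Finset.card_eq_sum_card_fiberwise (f := fun c : C => (⟨_, hconj c h⟩ : H))
      (fun c _ => Finset.mem_univ _)).symm using 3 with h' _
    simp [Subtype.ext_iff]
  calc ∑ χ : IrrCharacter G, avg H χ x * conj (avg H χ x)
      = (∑ h : H, ∑ h' : H, ∑ χ : IrrCharacter G, (χ : G → ℂ) (x * h) * conj ((χ : G → ℂ) (x * h'))) /
          ((Nat.card H : ℂ) * (Nat.card H : ℂ)) := by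
        simp only [avg, map_div₀, map_sum, map_natCast, div_mul_div_comm, Finset.sum_mul_sum, ← Finset.sum_div]
        rw [Finset.sum_comm]
        simp only [Finset.sum_comm (γ := IrrCharacter G)]
    _ = (∑ h : H, ∑ h' : H, ((Finset.univ.filter fun c : C => (c : G) * h * (c : G)⁻¹ = h').card : ℂ)) /
          ((Nat.card H : ℂ) * (Nat.card H : ℂ)) := by
        simp only [sum_irr_mul_conj, ← hfib]
    _ = (p : ℂ) := by
        simp only [hinner, Finset.sum_const, Finset.card_univ, ← Nat.card_eq_fintype_card, nsmul_eq_mul]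
        field_simp

/-- The least sum of squares. -/
theorem bound_sq {ι : Type*} (s : Finset ι) (a : ι → ℤ) (A m : ℤ) (hA : ∑ j ∈ s, a j = A) :
    2 * m * A - (s.card : ℤ) * m ^ 2 + |A - (s.card : ℤ) * m| ≤ ∑ j ∈ s, a j ^ 2 := by
  have h1 : |∑ j ∈ s, (a j - m)| ≤ ∑ j ∈ s, (a j - m) ^ 2 :=
    (Finset.abs_sum_le_sum_abs _ _).trans (Finset.sum_le_sum fun j _ => by
      rcases eq_or_ne (a j - m) 0 with e | e
      · simp [e]
      · nlinarith [abs_pos.2 e, sq_abs (a j - m)])
  have h2 : ∑ j ∈ s, (a j - m) = A - (s.card : ℤ) * m := by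
    rw [Finset.sum_sub_distrib, hA, Finset.sum_const, nsmul_eq_mul]
  have h3 : ∑ j ∈ s, (a j - m) ^ 2 = (∑ j ∈ s, a j ^ 2) - 2 * m * A + (s.card : ℤ) * m ^ 2 := by
    simp only [sub_sq, Finset.sum_add_distrib, Finset.sum_sub_distrib, Finset.sum_const, nsmul_eq_mul]
    rw [← hA, Finset.mul_sum, show ∑ j ∈ s, 2 * a j * m = ∑ j ∈ s, 2 * m * a j from
      Finset.sum_congr rfl fun j _ => by ring]
  rw [h2, h3] at h1
  linarith

include hR hP hx hx1 in
/-- The characters outside the principal block average to zero. -/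
theorem avg_outside (B : BL P) {χ : IrrCharacter G} (hχ : χ ∉ B.chars) : avg H χ x = 0 := by
  classical
  have hp := (Fact.out : p.Prime)
  have hxo := CfsgLib.SmallSylow.orderOf_mem P hP hx hx1
  have hxp : x ^ p = 1 := by rw [← hxo, pow_orderOf_eq_one]
  have hcomm : ∀ h ∈ H, Commute x h := fun h hh => Subgroup.mem_centralizer_iff.1 (hR.le hh) x hx
  have hH0 : (Nat.card H : ℂ) ≠ 0 := Nat.cast_ne_zero.2 Nat.card_pos.ne'
  have hin : ∀ i : ZMod p, x ^ i.val ∈ (P : Subgroup G) := fun i => Subgroup.pow_mem _ hx _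
  set N : IrrCharacter G → ℝ := fun χ => ∑ i ∈ Finset.univ.erase (0 : ZMod p), ‖avg H χ (x ^ i.val)‖ ^ 2 with hN
  have hpc : ((Finset.univ.erase (0 : ZMod p)).card : ℝ) = (p : ℝ) - 1 := by
    rw [Finset.card_erase_of_mem (Finset.mem_univ _), Finset.card_univ, ZMod.card, Nat.cast_sub hp.one_le,
      Nat.cast_one]
  have hxs : ∀ χ ∈ triv G :: B.xs, N χ = (p : ℝ) - 1 := fun χ hχ => by
    rw [hN, ← hpc]
    simp only
    rw [Finset.sum_congr rfl (g := fun _ => (1 : ℝ)) (fun i hi => ?_), Finset.sum_const, nsmul_eq_mul, mul_one]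
    have hi1 := pow_val_ne_one hxo (Finset.ne_of_mem_erase hi)
    obtain ⟨s, hs, hv⟩ : ∃ s : ℤ, (s = 1 ∨ s = -1) ∧ ∀ h : H, (χ : G → ℂ) (x ^ i.val * h) = (s : ℂ) := by
      rcases List.mem_cons.1 hχ with e | h
      · exact ⟨1, Or.inl rfl, fun h => by rw [e, triv_apply, Int.cast_one]⟩
      · exact ⟨_, sgn_sign p _, fun y => B.valX χ h _ (hin i) hi1 y (hR.le y.2) (hR.regular y y.2)⟩
    have : avg H χ (x ^ i.val) = (s : ℂ) := by
      simp only [avg, hv, Finset.sum_const, Finset.card_univ, ← Nat.card_eq_fintype_card, nsmul_eq_mul]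
      field_simp
    rw [this, Complex.norm_intCast, sq_abs]
    rcases hs with rfl | rfl <;> norm_num
  obtain ⟨η0, hη0⟩ := B.exists_eta
  set σ : ℤ := sgE p (inIdx P) B.f with hσ
  set t := B.ys.length with ht
  have hnd : B.ys.Nodup := (List.nodup_append.1 (List.nodup_cons.1 B.nodup).2).2.1
  have hsum1 : ∀ i : ZMod p, i ≠ 0 → ∑ η ∈ B.ys.toFinset, avg H η (x ^ i.val) = (σ : ℂ) := fun i hi => by
    simp only [avg]
    rw [← Finset.sum_div, Finset.sum_comm, div_eq_iff hH0, Finset.sum_congr rfl (g := fun _ => (σ : ℂ)) (fun y _ => by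
      rw [List.sum_toFinset _ hnd]; exact B.sumY _ (hin i) (pow_val_ne_one hxo hi) y (hR.le y.2) (hR.regular y y.2)),
      Finset.sum_const, Finset.card_univ, ← Nat.card_eq_fintype_card, nsmul_eq_mul]
    ring
  choose a ha using fun (η : IrrCharacter G) (ψ : AddChar (ZMod p) ℂ) => exists_avg_mult (H := H) η hxp hcomm ψ
  obtain ⟨F, hF⟩ : ∃ F : ℕ, avg H η0 1 = (F : ℂ) := by
    obtain ⟨m, hm⟩ := exists_fix_mult H η0
    refine ⟨m, ?_⟩
    simp only [avg, one_mul, hm]
    field_simp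
  have hzero : ∀ η ∈ B.ys.toFinset, avg H η (x ^ (0 : ZMod p).val) = (F : ℂ) := fun η hη => by
    rw [ZMod.val_zero, pow_zero, ← hF]
    simp only [avg, one_mul]
    congr 1
    exact Finset.sum_congr rfl fun y _ => B.agree η (List.mem_toFinset.1 hη) η0 hη0 y (hR.regular y y.2)
  -- the sums of the multiplicities
  have hA : ∀ ψ : AddChar (ZMod p) ℂ, (p : ℤ) * ∑ η ∈ B.ys.toFinset, (a η ψ : ℤ) =
      (t : ℤ) * F + σ * ((if ψ = 0 then (p : ℤ) else 0) - 1) := fun ψ => by
    have e : ((p : ℤ) * ∑ η ∈ B.ys.toFinset, (a η ψ : ℤ) : ℂ) =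
        ((t : ℤ) * F + σ * ((if ψ = 0 then (p : ℤ) else 0) - 1) : ℤ) := by
      push_cast
      rw [Finset.mul_sum, Finset.sum_congr rfl fun η _ => (ha η ψ).symm, Finset.sum_comm,
        ← Finset.add_sum_erase _ _ (Finset.mem_univ (0 : ZMod p)),
        Finset.sum_congr rfl fun η hη => by rw [hzero η hη],
        Finset.sum_congr rfl (g := fun i => ψ i * (σ : ℂ)) (fun i hi => by
          rw [← Finset.mul_sum, hsum1 i (Finset.ne_of_mem_erase hi)])]
      rw [Finset.sum_const, List.toFinset_card_of_nodup hnd, AddChar.map_zero_eq_one, one_mul, nsmul_eq_mul,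
        ← Finset.sum_mul, ← ht]
      have hψ := Finset.add_sum_erase _ (fun i => ψ i) (Finset.mem_univ (0 : ZMod p))
      rw [AddChar.sum_eq_ite] at hψ
      simp only [AddChar.map_zero_eq_one, ZMod.card] at hψ
      rw [show ∑ i ∈ Finset.univ.erase (0 : ZMod p), ψ i = (if ψ = 0 then (p : ℂ) else 0) - 1 by
        rw [← hψ]; ring]
      split_ifs <;> push_cast <;> ring
    exact_mod_cast e
  obtain ⟨ψ1, hψ1⟩ : ∃ ψ : AddChar (ZMod p) ℂ, ψ ≠ 0 := by
    refine Fintype.exists_ne_of_one_lt_card ?_ 0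
    rw [AddChar.card_eq, ZMod.card]
    exact hp.one_lt
  set M := ∑ η ∈ B.ys.toFinset, (a η ψ1 : ℤ) with hMdef
  have hM : (p : ℤ) * M = (t : ℤ) * F - σ := by rw [hMdef, hA, if_neg hψ1]; ring
  have hpe : (t : ℤ) * (inIdx P : ℤ) = (p : ℤ) - 1 := by
    have h := B.len_ys
    rw [← ht] at h
    have h' : ((t * inIdx P : ℕ) : ℤ) = ((p - 1 : ℕ) : ℤ) := by rw [h]
    rw [Nat.cast_sub hp.one_le] at h'
    push_cast at h'
    linarith
  set m : ℤ := (F : ℤ) - (inIdx P : ℤ) * M with hmdef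
  have hMm : M = (t : ℤ) * m - σ := by rw [hmdef]; linear_combination hM + M * hpe
  have hFm : (F : ℤ) = (p : ℤ) * m - σ * (inIdx P : ℤ) := by
    have := hMm
    rw [hmdef]
    linear_combination (inIdx P : ℤ) * hM + (F : ℤ) * hpe
  have hσ2 : σ = 1 ∨ σ = -1 := sgE_sign p _ _
  have hcount : ∀ ψ : AddChar (ZMod p) ℂ, (t : ℤ) * m ^ 2 + (if ψ = 0 then 0 else 1 - 2 * σ * m) ≤
      ∑ η ∈ B.ys.toFinset, (a η ψ : ℤ) ^ 2 := fun ψ => by
    have hb := fun A (hA' : ∑ η ∈ B.ys.toFinset, (a η ψ : ℤ) = A) => bound_sq _ (fun η => (a η ψ : ℤ)) A m hA'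
    rw [List.toFinset_card_of_nodup hnd, ← ht] at hb
    have hA' := hA ψ
    have hp0 : (p : ℤ) ≠ 0 := by exact_mod_cast hp.ne_zero
    split_ifs at hA' ⊢ with h
    · have e : ∑ η ∈ B.ys.toFinset, (a η ψ : ℤ) = (t : ℤ) * m := by
        apply mul_left_cancel₀ hp0
        rw [hA']
        linear_combination (p : ℤ) * hMm - hM
      have := hb _ e
      rw [sub_self, abs_zero] at this
      linarith
    · have e : ∑ η ∈ B.ys.toFinset, (a η ψ : ℤ) = (t : ℤ) * m - σ := by
        apply mul_left_cancel₀ hp0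
        rw [hA']
        linear_combination (p : ℤ) * hMm - hM
      have := hb _ e
      have e1 : |(t : ℤ) * m - σ - (t : ℤ) * m| = 1 := by
        rw [show (t : ℤ) * m - σ - (t : ℤ) * m = -σ by ring, abs_neg]
        rcases hσ2 with e | e <;> rw [e] <;> norm_num
      rw [e1] at this
      linarith
  have hys : ((p : ℝ) - 1) * ((p : ℝ) - inIdx P) ≤ ∑ η ∈ B.ys.toFinset, N η := by
    have hall : ∀ η ∈ B.ys.toFinset, N η = (p : ℝ) * ∑ ψ, (a η ψ : ℝ) ^ 2 - (F : ℝ) ^ 2 := fun η hη => by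
      rw [← parseval (fun i => avg H η (x ^ i.val)) (a η) (ha η),
        ← Finset.add_sum_erase _ _ (Finset.mem_univ (0 : ZMod p)), hzero η hη, Complex.norm_natCast]
      simp only [hN]
      ring
    rw [Finset.sum_congr rfl hall, Finset.sum_sub_distrib, ← Finset.mul_sum, Finset.sum_comm,
      Finset.sum_const, List.toFinset_card_of_nodup hnd, ← ht, nsmul_eq_mul]
    have hc := Finset.sum_le_sum (s := (Finset.univ : Finset (AddChar (ZMod p) ℂ))) fun ψ _ => hcount ψ
    rw [Finset.sum_add_distrib, Finset.sum_const, Finset.card_univ, AddChar.card_eq, ZMod.card,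
      Finset.sum_ite, Finset.sum_const_zero, zero_add, Finset.sum_const, Finset.filter_ne',
      Finset.card_erase_of_mem (Finset.mem_univ _), Finset.card_univ, AddChar.card_eq, ZMod.card,
      nsmul_eq_mul, nsmul_eq_mul, Nat.cast_sub hp.one_le] at hc
    have hc' := mul_le_mul_of_nonneg_left hc (Int.natCast_nonneg p)
    have hfin : ((p : ℤ) - 1) * ((p : ℤ) - inIdx P) ≤
        (p : ℤ) * ∑ ψ, ∑ η ∈ B.ys.toFinset, (a η ψ : ℤ) ^ 2 - (t : ℤ) * (F : ℤ) ^ 2 := by
      refine le_trans (le_of_eq ?_) (sub_le_sub_right hc' _)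
      rw [hFm]
      push_cast
      have hσσ : σ * σ = 1 := by rcases hσ2 with e | e <;> rw [e] <;> norm_num
      linear_combination ((inIdx P : ℤ) * (t : ℤ)) * (inIdx P : ℤ) * hσσ + (inIdx P : ℤ) * hpe -
        (2 * σ * (p : ℤ) * m) * hpe
    exact_mod_cast hfin
  -- the total
  have htot : ∑ χ : IrrCharacter G, N χ = ((p : ℝ) - 1) * p := by
    rw [hN]
    simp only
    rw [Finset.sum_comm, ← hpc, Finset.sum_congr rfl (g := fun _ => (p : ℝ)) (fun i hi => ?_), Finset.sum_const,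
      nsmul_eq_mul]
    have h := sum_avg_sq (H := H) hR hP (hin i) (pow_val_ne_one hxo (Finset.ne_of_mem_erase hi))
    simp only [Complex.mul_conj', ← Complex.ofReal_pow, ← Complex.ofReal_sum] at h
    exact_mod_cast h
  have hzeroN : N χ = 0 := by
    refine le_antisymm ?_ (Finset.sum_nonneg fun _ _ => sq_nonneg _)
    have hχ' : χ ∉ B.chars.toFinset := fun h => hχ (List.mem_toFinset.1 h)
    have hle : N χ + ∑ ψ ∈ B.chars.toFinset, N ψ ≤ ∑ ψ : IrrCharacter G, N ψ := by
      rw [← Finset.sum_insert hχ']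
      exact Finset.sum_le_sum_of_subset_of_nonneg (Finset.subset_univ _)
        fun _ _ _ => Finset.sum_nonneg fun _ _ => sq_nonneg _
    have hsplit : ∑ ψ ∈ B.chars.toFinset, N ψ = (inIdx P : ℝ) * ((p : ℝ) - 1) + ∑ η ∈ B.ys.toFinset, N η := by
      rw [BL.chars, List.sum_toFinset _ B.nodup, List.map_cons, List.sum_cons, List.map_append, List.sum_append,
        ← List.sum_toFinset _ hnd, List.map_congr_left fun ψ h => hxs ψ (List.mem_cons_of_mem _ h),
        List.map_const', List.sum_replicate, hxs _ List.mem_cons_self, nsmul_eq_mul]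
      have : (B.xs.length : ℝ) + 1 = (inIdx P : ℝ) := by exact_mod_cast B.len_xs
      rw [← this]
      ring
    nlinarith [htot, hys, hle, hsplit]
  have hone : (1 : ZMod p) ≠ 0 := one_ne_zero
  have h1 := (Finset.sum_eq_zero_iff_of_nonneg fun _ _ => sq_nonneg _).1 hzeroN (1 : ZMod p)
    (Finset.mem_erase.2 ⟨hone, Finset.mem_univ _⟩)
  rw [ZMod.val_one, pow_one, pow_eq_zero_iff two_ne_zero, norm_eq_zero] at h1
  exact h1

end CfsgSimpleM23
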