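/-
Searches over degrees and values for a simple group of order 10200960.
-/
import Cfsg.Agent.Lib.SimpleM22.Exclude

set_option autoImplicit false

namespace CfsgSimpleM23

open CfsgSimpleM22 (sgn sgE multis Slot sols sumX)

/-- The divisors of the products of a list of prime powers. -/
def divsOf : List (List ℕ) → List ℕ
  | [] => [1]
  | l :: r => l.flatMap fun a => (divsOf r).map fun b => a * b

/-- The prime power divisors of `10200960`. -/
def ppows : List (List ℕ) := [[1, 2, 4, 8, 16, 32, 64, 128], [1, 3, 9], [1, 5], [1, 7], [1, 11], [1, 23]]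

/-- The divisors of `10200960`. -/
def divs : List ℕ := divsOf ppows

theorem mem_divs {d : ℕ} (h : d ∣ 10200960) : d ∈ divs := by
  have key : ∀ {m : ℕ}, 0 < m → ∀ {a : ℕ}, a ∣ m → a ∈ (List.range (m + 1)).filter (fun a => m % a == 0) :=
    fun hm a ha => List.mem_filter.2 ⟨List.mem_range.2 (Nat.lt_succ_of_le (Nat.le_of_dvd hm ha)),
      beq_iff_eq.2 (Nat.mod_eq_zero_of_dvd ha)⟩
  obtain ⟨a, r1, ha, h1, rfl⟩ := Nat.dvd_mul.1 (show d ∣ 128 * 79695 from h)
  obtain ⟨b, r2, hb, h2, rfl⟩ := Nat.dvd_mul.1 (show r1 ∣ 9 * 8855 from h1)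
  obtain ⟨c, r3, hc, h3, rfl⟩ := Nat.dvd_mul.1 (show r2 ∣ 5 * 1771 from h2)
  obtain ⟨e, r4, he, h4, rfl⟩ := Nat.dvd_mul.1 (show r3 ∣ 7 * 253 from h3)
  obtain ⟨f, r, hf, hr, rfl⟩ := Nat.dvd_mul.1 (show r4 ∣ 11 * 23 from h4)
  simp only [divs, ppows, divsOf, List.mem_flatMap, List.mem_map]
  refine ⟨a, ?_, b * (c * (e * (f * (r * 1)))), ⟨b, ?_, c * (e * (f * (r * 1))), ⟨c, ?_, e * (f * (r * 1)),
    ⟨e, ?_, f * (r * 1), ⟨f, ?_, r * 1, ⟨r, ?_, 1, by simp, rfl⟩, rfl⟩, rfl⟩, rfl⟩, rfl⟩, by simp [mul_assoc]⟩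
  exacts [(show (List.range 129).filter (fun a => 128 % a == 0) = [1, 2, 4, 8, 16, 32, 64, 128] by decide +kernel) ▸
      key (m := 128) (by norm_num) ha,
    (show (List.range 10).filter (fun a => 9 % a == 0) = [1, 3, 9] by decide +kernel) ▸
      key (m := 9) (by norm_num) hb,
    (show (List.range 6).filter (fun a => 5 % a == 0) = [1, 5] by decide +kernel) ▸
      key (m := 5) (by norm_num) hc,
    (show (List.range 8).filter (fun a => 7 % a == 0) = [1, 7] by decide +kernel) ▸
      key (m := 7) (by norm_num) he,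
    (show (List.range 12).filter (fun a => 11 % a == 0) = [1, 11] by decide +kernel) ▸
      key (m := 11) (by norm_num) hf,
    (show (List.range 24).filter (fun a => 23 % a == 0) = [1, 23] by decide +kernel) ▸
      key (m := 23) (by norm_num) hr]

/-- The possible degrees. -/
def degs : List ℕ := divs.filter fun d => decide (2 ≤ d) && decide (d ≤ 3193)

theorem mem_degs {d : ℕ} (h : d ∣ 10200960) (h2 : 2 ≤ d) (h3 : d ≤ 3193) : d ∈ degs :=
  List.mem_filter.2 ⟨mem_divs h, by simp [h2, h3]⟩

/-- The possible inertial indices, numbers of Sylow subgroups and orders of their regular centralisers. -/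
def options (p : ℕ) : List (ℕ × ℕ × ℕ) :=
  (divs.filter fun n => (n % p == 1) && decide (1 < n) && (10200960 / p % n == 0)).flatMap fun n =>
    ((List.range p).filter fun e => decide (2 ≤ e) && ((p - 1) % e == 0) && (10200960 / p % (n * e) == 0)).map
      fun e => (e, n, 10200960 / p / (n * e))

theorem mem_options {p e n H : ℕ} (hp : 0 < p) (heq : 10200960 = p * H * e * n) (h2 : 2 ≤ e) (he : e ∣ p - 1)
    (hn : n % p = 1) (hn1 : 1 < n) : (e, n, H) ∈ options p := by
  have h1 : 10200960 / p = H * (n * e) := Nat.div_eq_of_eq_mul_right hp (by rw [heq]; ring)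
  have hp1 : 0 < p - 1 := by
    rcases Nat.eq_zero_or_pos (p - 1) with h | h
    · exfalso
      have : p = 1 := by omega
      rw [this, Nat.mod_one] at hn
      omega
    · exact h
  have hep : e < p := by
    have := Nat.le_of_dvd hp1 he
    omega
  refine List.mem_flatMap.2 ⟨n, List.mem_filter.2 ⟨mem_divs (Dvd.intro_left _ heq.symm), ?_⟩,
    List.mem_map.2 ⟨e, List.mem_filter.2 ⟨List.mem_range.2 hep, ?_⟩, ?_⟩⟩
  · simp only [Bool.and_eq_true, beq_iff_eq, decide_eq_true_eq]
    exact ⟨⟨hn, hn1⟩, Nat.mod_eq_zero_of_dvd ⟨H * e, by rw [h1]; ring⟩⟩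
  · simp only [Bool.and_eq_true, beq_iff_eq, decide_eq_true_eq]
    exact ⟨⟨h2, Nat.mod_eq_zero_of_dvd he⟩, Nat.mod_eq_zero_of_dvd (Dvd.intro_left H h1.symm)⟩
  · simp [h1, Nat.mul_div_cancel _ (Nat.mul_pos (by omega : 0 < n) (by omega : 0 < e))]

/-- The candidates for the degrees of the non-exceptional characters. -/
def candX (D : List ℕ) (p e n lo : ℕ) : List ℕ :=
  D.filter fun d => (e * n % d == 0) && decide (lo ≤ d) && ((d % p == 1) || (d % p == p - 1))

/-- The candidates for the degree of the exceptional characters. -/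
def candY (D : List ℕ) (p e n : ℕ) : List ℕ :=
  D.filter fun f => (e * n % f == 0) && ((f % p == e) || (f % p == p - e))

/-- The origin of the bit sets. -/
def off : ℕ := 131072

/-- One more summand. -/
def step (p : ℕ) (cx : List ℕ) (R : ℕ) : ℕ :=
  cx.foldl (fun acc d => Nat.lor acc (if d % p == 1 then R <<< d else R >>> d)) 0

/-- The signed sums of `k` candidates, as a bit set. -/
def reach (p : ℕ) (cx : List ℕ) : ℕ → ℕ
  | 0 => 1 <<< off
  | k + 1 => step p cx (reach p cx k)

theorem testBit_foldl (p R b : ℕ) : ∀ (cx : List ℕ) (acc : ℕ),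
    (acc.testBit b = true ∨ ∃ d ∈ cx, (if d % p == 1 then R <<< d else R >>> d).testBit b = true) →
    (cx.foldl (fun acc d => Nat.lor acc (if d % p == 1 then R <<< d else R >>> d)) acc).testBit b = true
  | [], acc, h => by
    rcases h with h | ⟨d, hd, -⟩
    · exact h
    · simp at hd
  | c :: r, acc, h => by
    rw [List.foldl_cons]
    refine testBit_foldl p R b r _ ?_
    rcases h with h | ⟨d, hd, hb⟩
    · exact Or.inl (by show Nat.testBit (acc ||| _) b = true; rw [Nat.testBit_lor, h, Bool.true_or])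
    · rcases List.mem_cons.1 hd with rfl | hd
      · exact Or.inl (by show Nat.testBit (acc ||| _) b = true; rw [Nat.testBit_lor, hb, Bool.or_true])
      · exact Or.inr ⟨d, hd, hb⟩

theorem mem_reach {p : ℕ} {cx : List ℕ} : ∀ {l : List ℕ}, (∀ d ∈ l, d ∈ cx) → (∀ d ∈ l, d ≤ 3193) →
    3193 * l.length ≤ off → ∃ b : ℕ, (b : ℤ) = (off : ℤ) + (sumX p l - 1) ∧ off ≤ b + 3193 * l.length ∧
      (reach p cx l.length).testBit b = true
  | [], _, _, _ => ⟨off, by simp [sumX], by simp, by simp [reach, Nat.testBit_shiftLeft]⟩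
  | d :: l, h, hd, hlen => by
    rw [List.length_cons] at hlen
    obtain ⟨b, hb, hlo, hbit⟩ := mem_reach (l := l) (fun a ha => h a (List.mem_cons_of_mem _ ha))
      (fun a ha => hd a (List.mem_cons_of_mem _ ha)) (by omega)
    have hd' := hd d List.mem_cons_self
    rw [List.length_cons, reach, step]
    by_cases e : d % p = 1
    · refine ⟨b + d, ?_, by omega, testBit_foldl _ _ _ _ _ (Or.inr ⟨d, h d List.mem_cons_self, ?_⟩)⟩
      · simp only [sumX, sgn, e, if_true, one_mul]
        push_cast
        linarith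
      · rw [if_pos (beq_iff_eq.2 e), Nat.testBit_shiftLeft]
        simp [hbit]
    · refine ⟨b - d, ?_, by omega, testBit_foldl _ _ _ _ _ (Or.inr ⟨d, h d List.mem_cons_self, ?_⟩)⟩
      · simp only [sumX, sgn, e, if_false]
        rw [Nat.cast_sub (by omega)]
        linarith
      · rw [if_neg (by simpa using e), Nat.testBit_shiftRight, Nat.add_sub_cancel' (by omega)]
        exact hbit

/-- A sign for the exceptional degree makes the degree relation possible. -/
def hits (R : ℕ) (p e f : ℕ) : Bool :=
  R.testBit ((off : ℤ) + (-1 - sgE p e f * (f : ℤ))).toNat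

/-- No degrees fit, the two kinds of characters having degrees in two lists. -/
def noDeg2 (D D' : List ℕ) (p e n lo : ℕ) : Bool :=
  let R := reach p (candX D p e n lo) (e - 1)
  (candY D' p e n).all fun f => !(hits R p e f)

/-- No degrees fit. -/
def noDeg (D : List ℕ) (p e n lo : ℕ) : Bool :=
  noDeg2 D D p e n lo

/-- The possible lists of degrees with that of the exceptional characters. -/
def degLists (D : List ℕ) (p e n lo : ℕ) : List (List ℕ × ℕ) :=
  (multis (candX D p e n lo) (e - 1)).flatMap fun l =>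
    ((candY D p e n).filter fun f => sumX p l + sgE p e f * (f : ℤ) == 0).map fun f => (l, f)

/-- A bound for the square root. -/
def bnd (C : ℕ) : ℕ :=
  if C ≤ 100 then 10 else if C ≤ 625 then 25 else if C ≤ 2025 then 45
  else if C ≤ 10000 then 100 else if C ≤ 40804 then 202 else 666

theorem le_bnd {C a : ℕ} (hC : C ≤ 443520) (h : a * a ≤ C) : a ≤ bnd C := by
  unfold bnd
  split_ifs <;> nlinarith

/-- The possible values congruent to `d` modulo `q` of a character of degree `d` at an element whose
centraliser has order `C`. -/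
def dom (q C d : ℕ) : List ℤ :=
  let b := min (bnd C) d
  ((List.range (2 * b / q + 1)).map fun i : ℕ => -(b : ℤ) + (((d + b) % q + q * i : ℕ) : ℤ)).filter
    fun v => decide (v.natAbs * v.natAbs ≤ C) && decide (v.natAbs < d) && (10200960 / C * v.natAbs % d == 0) &&
      decide (((v - (d : ℤ)) % (q : ℤ)) = 0)

/-- The slots of a column with given sets of values, one for each character. -/
def slotsP (p e t : ℕ) (ds : List (ℕ × List ℤ)) (dy : List ℤ) (f : ℕ) (quad : Bool) : List Slot :=
  (ds.map fun d => ⟨sgn p d.1, if quad then sgn p d.1 * ((10200960 / d.1 : ℕ) : ℤ) else 0, 1, d.2⟩) ++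
    [⟨sgE p e f, if quad then sgE p e f * ((10200960 / f : ℕ) : ℤ) else 0, t, dy⟩]

/-- The columns with values in given sets, one for each character, and bounded norm. -/
def rowsP (p e t : ℕ) (ds : List (ℕ × List ℤ)) (dy : List ℤ) (b : ℤ) (f : ℕ) (quad : Bool) : List (List ℤ) :=
  sols (slotsP p e t ds dy f quad) 1 (if quad then 10200960 else 0) b

/-- The slots of a column with given sets of values. -/
def slotsD (p e t : ℕ) (dm : ℕ → List ℤ) (dy : List ℤ) (l : List ℕ) (f : ℕ) (quad : Bool) : List Slot :=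
  slotsP p e t (l.map fun d => (d, dm d)) dy f quad

/-- The columns with given sets of values and bounded norm. -/
def rowsD (p e t : ℕ) (dm : ℕ → List ℤ) (dy : List ℤ) (b : ℤ) (l : List ℕ) (f : ℕ) (quad : Bool) : List (List ℤ) :=
  sols (slotsD p e t dm dy l f quad) 1 (if quad then 10200960 else 0) b

/-- The slots of a column: rational characters congruent modulo `q`, and the exceptional ones. -/
def slots (p e t q C : ℕ) (l : List ℕ) (f : ℕ) (quad : Bool) : List Slot :=
  slotsD p e t (dom q C) (dom 4 C f) l f quad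

/-- The columns at an involution. -/
def rows (p e t q C : ℕ) (l : List ℕ) (f : ℕ) (quad : Bool) : List (List ℤ) :=
  sols (slots p e t q C l f quad) 1 (if quad then 10200960 else 0) ((C : ℤ) - 1)

end CfsgSimpleM23
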