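/-
Sylow subgroups of prime order in a simple group of order 10200960: arithmetic and degrees.
-/
import Cfsg.Agent.Lib.SimpleM23.Chars
import Cfsg.Agent.Lib.SimpleM22.Columns
import Cfsg.Agent.Lib.SimpleM23.Search
import Cfsg.Agent.Lib.SimpleM23.Outside
import Cfsg.Agent.Lib.SmallSylow.Degrees

set_option autoImplicit false
set_option linter.style.haveILetI false
set_option linter.unusedSectionVars false

namespace CfsgSimpleM23

open Cfsg CfsgLib.CharTheory CfsgSimpleM11
open CfsgSimpleM22 (cc BL exists_BL sgn sgE sumX multis exists_mem_multis exists_map_perm sgn_sign sgE_sign sumX_perm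
  ival ival_spec ival_eq modEq_sgn not_dvd_two)
open scoped commutatorElement
open CfsgLib.SmallSylow (inIdx)

universe u
variable {G : Type u} [Group G] [Fintype G]

theorem two_le_dg (hG : IsM23 G) {χ : IrrCharacter G} (h : χ ≠ triv G) : 2 ≤ dg χ := by
  have := CfsgLib.Blocks.irr_charDegree_pos χ
  by_contra h'
  exact h (eq_triv_of_dg_one hG (by simp only [dg] at *; omega))

theorem dg_mem (hG : IsM23 G) {χ : IrrCharacter G} (h : χ ≠ triv G) : dg χ ∈ degs :=
  mem_degs (dg_dvd' hG χ) (two_le_dg hG h) (dg_le hG χ)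

theorem commutator_top (hG : IsM23 G) : commutator G = ⊤ := by
  rcases normal_cases hG (inferInstance : (commutator G).Normal) with h | h
  · exfalso
    obtain ⟨a, b, hab⟩ := exists_noncomm hG
    have hm : ⁅a, b⁆ ∈ commutator G :=
      Subgroup.commutator_mem_commutator (Subgroup.mem_top a) (Subgroup.mem_top b)
    rw [h, Subgroup.mem_bot, commutatorElement_eq_one_iff_mul_comm] at hm
    exact hab hm
  · exact h

variable {p : ℕ} [Fact p.Prime]

theorem two_le_e (hG : IsM23 G) (P : Sylow p G) (hP : Nat.card P = p) : 2 ≤ inIdx P :=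
  CfsgLib.SmallSylow.two_le_inIdx (commutator_top hG) P hP

/-- The arithmetic of a Sylow subgroup of prime order. -/
theorem mem_options_of (hG : IsM23 G) (hodd : p ≠ 2) (P : Sylow p G) (hP : Nat.card P = p) {H : Subgroup G}
    (hR : Reg P H) : (inIdx P, Nat.card (Sylow p G), Nat.card H) ∈ options p := by
  have hp := (Fact.out : p.Prime)
  obtain ⟨M, hM⟩ := CfsgLib.Blocks.exists_pModular hp
  obtain ⟨X, Y, δ, σ, D⟩ := CfsgLib.SmallSylow.exists_data hM hodd P hP
  refine mem_options hp.pos ?_ (two_le_e hG P hP) D.inIdx_dvd ?_ ?_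
  · have h := CfsgLib.SmallSylow.card_eq_mul P
    rw [card_eq hG, ← hR.card] at h
    exact h
  · have h1 : Nat.card (Sylow p G) % p = 1 % p := card_sylow_modEq_one p G
    rwa [Nat.mod_eq_of_lt hp.one_lt] at h1
  · refine Nat.lt_of_le_of_ne Nat.card_pos (Ne.symm (sylow_ne_one hG P ?_ ?_))
    · rw [show Nat.card (P : Subgroup G) = p from hP]; exact hp.one_lt
    · rw [show Nat.card (P : Subgroup G) = p from hP]
      have : p ∣ 10200960 := by
        rw [← card_eq hG, ← hP]; exact Subgroup.card_subgroup_dvd_card _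
      rcases (Nat.le_of_dvd (by norm_num) this).lt_or_eq with h | h
      · exact h
      · exfalso; rw [h] at hp; norm_num at hp

theorem dvd_two_mul (hodd : p ≠ 2) {v : ℤ} {d : ℕ} (h4 : v % 4 = (d : ℤ) % 4) (hp : (p : ℤ) ∣ v - d) :
    ((4 * p : ℕ) : ℤ) ∣ v - d := by
  have hd4 : (4 : ℤ) ∣ v - d := by omega
  push_cast
  refine IsCoprime.mul_dvd ?_ hd4 hp
  rw [Int.isCoprime_iff_nat_coprime]
  exact (((Nat.prime_two.coprime_iff_not_dvd).mpr fun h =>
    hodd ((Nat.prime_dvd_prime_iff_eq Nat.prime_two (Fact.out : p.Prime)).1 h).symm).pow_left 2)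

/-- A value at an involution centralising the Sylow subgroup is congruent to the degree modulo `4 p`. -/
theorem value_mod (hG : IsM23 G) (hodd : p ≠ 2) {P : Sylow p G} (hP : Nat.card P = p) (B : BL P) {t : G}
    (ht : orderOf t = 2) (htC : t ∈ Subgroup.centralizer ((P : Subgroup G) : Set G)) {χ : IrrCharacter G}
    (hχ : χ ∈ B.xs) {v : ℤ} (hv : (χ : G → ℂ) t = v) : ((4 * p : ℕ) : ℤ) ∣ v - dg χ := by
  obtain ⟨x, hx, hx1⟩ := CfsgLib.SmallSylow.exists_mem_ne P hP
  have hxo := CfsgLib.SmallSylow.orderOf_mem P hP hx hx1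
  have hcomm : Commute x t := Subgroup.mem_centralizer_iff.mp htC x hx
  have hz : ∃ c : ℤ, (χ : G → ℂ) (t ^ p) = c := by
    obtain ⟨k, -, hk, -⟩ := two_mults χ (t := t ^ p) (by
      rw [← pow_add, ← two_mul, pow_mul, ← ht, pow_orderOf_eq_one, one_pow])
    exact ⟨_, hk⟩
  have hxt := B.valX χ hχ x hx hx1 t htC (not_dvd_two hodd ht)
  have h1 := modEq_mul χ (by rw [← hxo, pow_orderOf_eq_one]) hcomm hz hxt hv
  obtain ⟨w, hw, h4, -⟩ := involution_int hG χ ht
  have : w = v := by exact_mod_cast hw.symm.trans hv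
  subst this
  exact dvd_two_mul hodd h4 (Int.modEq_iff_dvd.mp ((modEq_sgn (B.modX χ hχ)).trans h1))

theorem xs_ne_triv {P : Sylow p G} (B : BL P) {χ : IrrCharacter G} (h : χ ∈ B.xs) : χ ≠ triv G := B.xs_ne_triv h

/-- The least degree of a rational character of the block. -/
theorem lo_le (hG : IsM23 G) (hodd : p ≠ 2) {P : Sylow p G} (hP : Nat.card P = p) (B : BL P) {t : G}
    (ht : orderOf t = 2) (htC : t ∈ Subgroup.centralizer ((P : Subgroup G) : Set G)) {χ : IrrCharacter G}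
    (hχ : χ ∈ B.xs) : 2 * p ≤ dg χ := by
  obtain ⟨v, hv, -, hlo, -, hlt⟩ := involution_int hG χ ht
  obtain ⟨k, hk⟩ := value_mod hG hodd hP B ht htC hχ hv
  have h1 := hlt (B.xs_ne_triv hχ)
  push_cast at hk
  by_contra hcon
  have hk0 : k ≤ -1 := by nlinarith
  nlinarith

/-- The degree relation of the block. -/
theorem degree_rel {P : Sylow p G} (B : BL P) :
    sumX p (B.xs.map fun χ : IrrCharacter G => dg χ) + sgE p (inIdx P) B.f * (B.f : ℤ) = 0 := by
  obtain ⟨η, hη⟩ := B.exists_eta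
  have h := B.rel η hη 1 (by rw [orderOf_one]; exact (Fact.out : p.Prime).not_dvd_one)
  rw [← CfsgSimpleM22.sumX_eq p B.xs, irr_degree, show charDegree (η : G → ℂ) = B.f from B.degY η hη] at h
  exact_mod_cast h

/-- The degree lists of a block with degrees in a given list. -/
theorem exists_list {P : Sylow p G} (B : BL P) {D : List ℕ} (hD : ∀ χ : IrrCharacter G, χ ≠ triv G → dg χ ∈ D)
    {lo : ℕ} (hlo : ∀ χ ∈ B.xs, lo ≤ dg χ) :
    ∃ xs' : List (IrrCharacter G), xs'.Perm B.xs ∧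
      (xs'.map (fun χ : IrrCharacter G => dg χ), B.f) ∈ degLists D p (inIdx P) (Nat.card (Sylow p G)) lo := by
  obtain ⟨η, hη⟩ := B.exists_eta
  have hmem : ∀ d ∈ B.xs.map (fun χ : IrrCharacter G => dg χ),
      d ∈ candX D p (inIdx P) (Nat.card (Sylow p G)) lo := by
    intro d hd
    obtain ⟨χ, hχ, rfl⟩ := List.mem_map.1 hd
    simp only [candX, List.mem_filter, Bool.and_eq_true, Bool.or_eq_true, beq_iff_eq, decide_eq_true_eq]
    exact ⟨hD χ (B.xs_ne_triv hχ), ⟨Nat.mod_eq_zero_of_dvd (B.dvdX χ hχ), hlo χ hχ⟩, B.modX χ hχ⟩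
  obtain ⟨D', hD', hperm⟩ := exists_mem_multis hmem
  obtain ⟨xs', hxs', hmap⟩ := exists_map_perm (f := fun χ : IrrCharacter G => dg χ) hperm
  rw [List.length_map, show B.xs.length = inIdx P - 1 by have := B.len_xs; omega] at hD'
  refine ⟨xs', hxs', List.mem_flatMap.2 ⟨D', hD', List.mem_map.2 ⟨B.f, List.mem_filter.2 ⟨?_, ?_⟩, by rw [hmap]⟩⟩⟩
  · simp only [candY, List.mem_filter, Bool.and_eq_true, Bool.or_eq_true, beq_iff_eq]
    exact ⟨B.degY η hη ▸ hD η (B.ys_ne_triv hη), Nat.mod_eq_zero_of_dvd B.dvdY, B.modf⟩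
  · rw [sumX_perm p hperm, beq_iff_eq]
    exact degree_rel B

/-- No block when no degrees fit. -/
theorem false_of_noDeg2 (hG : IsM23 G) {P : Sylow p G} (B : BL P) {D D' : List ℕ}
    (hD : ∀ χ ∈ B.xs, dg χ ∈ D) (hD' : ∀ η ∈ B.ys, dg η ∈ D') {lo e n : ℕ} (he : inIdx P = e)
    (hn : Nat.card (Sylow p G) = n) (hlo : ∀ χ ∈ B.xs, lo ≤ dg χ) (he23 : e ≤ 23)
    (h : noDeg2 D D' p e n lo = true) : False := by
  subst he hn
  obtain ⟨η, hη⟩ := B.exists_eta
  set l := B.xs.map fun χ : IrrCharacter G => dg χ with hl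
  have hlen : l.length = inIdx P - 1 := by
    rw [hl, List.length_map]; have := B.len_xs; omega
  have hcx : ∀ d ∈ l, d ∈ candX D p (inIdx P) (Nat.card (Sylow p G)) lo := fun d hd => by
    obtain ⟨χ, hχ, rfl⟩ := List.mem_map.1 hd
    simp only [candX, List.mem_filter, Bool.and_eq_true, Bool.or_eq_true, beq_iff_eq, decide_eq_true_eq]
    exact ⟨hD χ hχ, ⟨Nat.mod_eq_zero_of_dvd (B.dvdX χ hχ), hlo χ hχ⟩, B.modX χ hχ⟩
  have hle : ∀ d ∈ l, d ≤ 3193 := fun d hd => by
    obtain ⟨χ, -, rfl⟩ := List.mem_map.1 hd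
    exact dg_le hG χ
  obtain ⟨b, hb, -, hbit⟩ := mem_reach (p := p) hcx hle (by rw [hlen, off]; omega)
  have hy : B.f ∈ candY D' p (inIdx P) (Nat.card (Sylow p G)) := by
    simp only [candY, List.mem_filter, Bool.and_eq_true, Bool.or_eq_true, beq_iff_eq]
    exact ⟨B.degY η hη ▸ hD' η hη, Nat.mod_eq_zero_of_dvd B.dvdY, B.modf⟩
  have h1 := List.all_eq_true.1 h _ hy
  rw [hlen] at hbit
  have e1 : ((off : ℤ) + (-1 - sgE p (inIdx P) B.f * (B.f : ℤ))).toNat = b := by
    have hrel : sumX p l + sgE p (inIdx P) B.f * (B.f : ℤ) = 0 := degree_rel B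
    omega
  rw [hits, e1, hbit] at h1
  exact Bool.false_ne_true h1

theorem false_of_noDeg (hG : IsM23 G) {P : Sylow p G} (B : BL P) {D : List ℕ}
    (hD : ∀ χ : IrrCharacter G, χ ≠ triv G → dg χ ∈ D) {lo e n : ℕ} (he : inIdx P = e)
    (hn : Nat.card (Sylow p G) = n) (hlo : ∀ χ ∈ B.xs, lo ≤ dg χ) (he23 : e ≤ 23)
    (h : noDeg D p e n lo = true) : False :=
  false_of_noDeg2 hG B (fun χ hχ => hD χ (B.xs_ne_triv hχ)) (fun η hη => hD η (B.ys_ne_triv hη)) he hn hlo he23 h

end CfsgSimpleM23
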