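/-
The column at an involution in the principal block of a Sylow subgroup of prime order.
-/
import Cfsg.Agent.Lib.SimpleM23.Setting

set_option autoImplicit false
set_option linter.style.haveILetI false
set_option linter.unusedSectionVars false

namespace CfsgSimpleM23

open Cfsg CfsgLib.CharTheory CfsgLib.Blocks CfsgSimpleM11
open CfsgSimpleM22 (cc BL sgn sgE sumX Slot sols mem_sols linSum quadSum normSum sgn_sign sgE_sign ival ival_spec
  ival_eq ival_triv not_dvd_two not_inverted)
open CfsgLib.SmallSylow (inIdx)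
open scoped ComplexConjugate

universe u
variable {G : Type u} [Group G] [Fintype G] {p : ℕ} [Fact p.Prime]

theorem ival_inv (hG : IsM23 G) (χ : IrrCharacter G) {t : G} (ht : orderOf t = 2) :
    (χ : G → ℂ) t = (ival χ t : ℂ) := by
  obtain ⟨v, hv, -⟩ := involution_int hG χ ht
  exact ival_spec hv

theorem cc_dvd (hG : IsM23 G) (g : G) : cc g ∣ 10200960 := card_eq hG ▸ Subgroup.card_subgroup_dvd_card _

theorem inv_ne_one {t : G} (ht : orderOf t = 2) : t ≠ 1 := fun e => by
  rw [e, orderOf_one] at ht; norm_num at ht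

theorem mem_dom {q C d : ℕ} {v : ℤ} (hq : 0 < q) (hC : C ≤ 443520) (hmod : (q : ℤ) ∣ v - d)
    (hsq : v * v ≤ (C : ℤ)) (hlt : v.natAbs < d) (hdvd : (d : ℤ) ∣ ((10200960 / C : ℕ) : ℤ) * v) :
    v ∈ dom q C d := by
  have hsq' : v.natAbs * v.natAbs ≤ C := by
    have : ((v.natAbs * v.natAbs : ℕ) : ℤ) ≤ (C : ℤ) := by rw [Int.natAbs_mul_self]; exact hsq
    exact_mod_cast this
  have hb : v.natAbs ≤ min (bnd C) d := le_min (le_bnd hC hsq') hlt.le
  rw [dom, List.mem_filter]
  refine ⟨List.mem_map.2 ?_, ?_⟩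
  · set b := min (bnd C) d with hbdef
    set K := (v + b).toNat with hK
    have hK' : (K : ℤ) = v + b := Int.toNat_of_nonneg (by omega)
    have hKle : K ≤ 2 * b := by omega
    have hKmod : K % q = (d + b) % q := by
      refine (Nat.modEq_iff_dvd.2 ?_ : K ≡ d + b [MOD q])
      push_cast
      rw [hK']
      exact dvd_sub_comm.1 (by rwa [show v + (b : ℤ) - ((d : ℤ) + b) = v - d by ring])
    refine ⟨K / q, List.mem_range.2 (Nat.lt_succ_of_le (Nat.div_le_div_right hKle)), ?_⟩
    rw [← hKmod, Nat.mod_add_div]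
    omega
  · simp only [Bool.and_eq_true, decide_eq_true_eq, beq_iff_eq]
    refine ⟨⟨⟨hsq', hlt⟩, Nat.mod_eq_zero_of_dvd ?_⟩, Int.emod_eq_zero_of_dvd hmod⟩
    have h := Int.natAbs_dvd_natAbs.2 hdvd
    rwa [Int.natAbs_natCast, Int.natAbs_mul, Int.natAbs_natCast] at h

theorem mem_dom_involution (hG : IsM23 G) {χ : IrrCharacter G} (hne : χ ≠ triv G) {t : G} (ht : orderOf t = 2)
    {q : ℕ} (hq : 0 < q) (hmod : (q : ℤ) ∣ ival χ t - dg χ) : ival χ t ∈ dom q (cc t) (dg χ) := by
  obtain ⟨w, hw, -, hlo, -, hlt⟩ := involution_int hG χ ht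
  have hv := ival_eq hw
  refine mem_dom hq (cent_le hG (inv_ne_one ht)) hmod ?_ ?_ (dg_dvd_index_mul hG χ (ival_inv hG χ ht))
  · have := norm_le (s := {χ}) (g := t) (fun _ => ival χ t) (by simp [ival_inv hG χ ht])
    simpa [pow_two] using this
  · have h1 := hlt hne
    have h2 : w ≠ -(dg χ : ℤ) := fun e => neg_degree_ne hG hne (inv_ne_one ht) (by rw [hw, e]; push_cast; ring)
    rw [hv]
    omega

section
variable {P : Sylow p G} {H : Subgroup G} [Fintype H] (hR : Reg P H) (hP : Nat.card P = p) (B : BL P) {x : G}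
  (hx : x ∈ (P : Subgroup G)) (hx1 : x ≠ 1)

/-- A pair of involutions with product in the coset inverts the generator. -/
theorem inverts_of_pair {s u a h : G} (hs : orderOf s = 2) (hu : orderOf u = 2)
    (ha : IsConj s a) (hb : IsConj u (a⁻¹ * (x * h))) (hxh : Commute x h) {m : ℕ} (hxm : x ^ m = x)
    (hhm : h ^ m = 1) : a * a = 1 ∧ a * x * a⁻¹ = x⁻¹ := by
  have e1 : a * a = 1 := by
    rw [← pow_two, ← (orderOf_of_isConj ha).trans hs, pow_orderOf_eq_one]
  have e2 : (a⁻¹ * (x * h)) * (a⁻¹ * (x * h)) = 1 := by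
    rw [← pow_two, ← (orderOf_of_isConj hb).trans hu, pow_orderOf_eq_one]
  refine ⟨e1, ?_⟩
  have e3 : a⁻¹ = a := inv_eq_of_mul_eq_one_left e1
  have e4 : a * (x * h) * a⁻¹ = (x * h)⁻¹ := by
    rw [e3] at e2 ⊢
    exact eq_inv_of_mul_eq_one_left (by rw [← e2]; group)
  have e5 := congrArg (· ^ m) e4
  simp only [conj_pow, inv_pow, hxh.mul_pow, hxm, hhm, mul_one] at e5
  exact e5

include hR hP hx in
theorem exists_exponent (h : H) : ∃ m : ℕ, x ^ m = x ∧ (h : G) ^ m = 1 := by
  have hp := (Fact.out : p.Prime)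
  have hco : Nat.Coprime p (Nat.card H) := by
    refine hp.coprime_iff_not_dvd.2 fun hd => ?_
    obtain ⟨y, hy⟩ := exists_prime_orderOf_dvd_card' p hd
    exact hR.regular y y.2 (by rw [Subgroup.orderOf_coe, hy])
  obtain ⟨m, hm1, hm2⟩ := Nat.chineseRemainder hco 1 0
  refine ⟨m, ?_, orderOf_dvd_iff_pow_eq_one.1
    ((Subgroup.orderOf_dvd_natCard H h.2).trans (Nat.modEq_zero_iff_dvd.1 hm2))⟩
  have hxp : x ^ p = 1 := by
    rw [← orderOf_dvd_iff_pow_eq_one, ← hP]
    exact Subgroup.orderOf_dvd_natCard _ hx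
  rw [pow_eq_pow_of_modEq hm1 hxp, pow_one]

include hR hP hx hx1 in
theorem pairCount_coset_zero (hodd : p ≠ 2) (he : inIdx P % 2 = 1) {s u : G} (hs : orderOf s = 2)
    (hu : orderOf u = 2) (h : H) : pairCount s u (x * h) = 0 := by
  rw [pairCount, Nat.card_eq_zero]
  refine Or.inl ⟨fun ⟨a, ha, hb⟩ => ?_⟩
  obtain ⟨m, hm1, hm2⟩ := exists_exponent hR hP hx h
  obtain ⟨e1, e2⟩ := inverts_of_pair hs hu ha hb (Subgroup.mem_centralizer_iff.1 (hR.le h.2) x hx) hm1 hm2
  exact not_inverted hodd hP he hx hx1 e1 e2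

include hR hP hx hx1 in
/-- Counting products in the coset. -/
theorem avg_count (hG : IsM23 G) {g k : G} (hg : ¬ p ∣ orderOf g) (hk : ¬ p ∣ orderOf k)
    {η : IrrCharacter G} (hη : η ∈ B.ys) :
    (∑ h : H, (pairCount g k (x * h) : ℂ)) * (cc g : ℂ) * (cc k : ℂ) = 10200960 * (Nat.card H : ℂ) * (1 +
      (B.xs.map fun χ : IrrCharacter G =>
        (sgn p (dg χ) : ℂ) * (χ : G → ℂ) g * (χ : G → ℂ) k / (dg χ : ℂ)).sum +
      (sgE p (inIdx P) B.f : ℂ) * (η : G → ℂ) g * (η : G → ℂ) k / (B.f : ℂ)) := by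
  classical
  have hH0 : (Nat.card H : ℂ) ≠ 0 := Nat.cast_ne_zero.2 Nat.card_pos.ne'
  have hm : ((Subgroup.centralizer ({g} : Set G)).index : ℂ) * (cc g : ℂ) = 10200960 := by
    rw [← Nat.cast_mul, Subgroup.index_mul_card, card_eq hG]; norm_num
  have hval : ∀ χ : IrrCharacter G, ∑ h : H, clv g χ * ((χ : G → ℂ) k * conj ((χ : G → ℂ) (x * h))) =
      ((Subgroup.centralizer ({g} : Set G)).index : ℂ) * ((χ : G → ℂ) g * (χ : G → ℂ) k / (dg χ : ℂ)) *
        ((Nat.card H : ℂ) * conj (avg H χ x)) := fun χ => by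
    rw [← Finset.mul_sum, ← Finset.mul_sum, ← map_sum, clv, centralChar, irr_degree, avg, map_div₀, map_natCast,
      mul_div_cancel₀ _ hH0]
    ring
  have H1 : (∑ h : H, (pairCount g k (x * h) : ℂ)) * (cc k : ℂ) = ∑ χ : IrrCharacter G,
      ((Subgroup.centralizer ({g} : Set G)).index : ℂ) * ((χ : G → ℂ) g * (χ : G → ℂ) k / (dg χ : ℂ)) *
        ((Nat.card H : ℂ) * conj (avg H χ x)) := by
    rw [Finset.sum_mul, Finset.sum_congr rfl fun (h : H) _ => pairCount_mul g k (x * h), Finset.sum_comm]
    exact Finset.sum_congr rfl fun χ _ => hval χ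
  rw [B.sum_split _ (fun χ hn => by rw [avg_outside hR hP hx hx1 B hn, map_zero, mul_zero, mul_zero])] at H1
  rw [mul_right_comm, H1, ← hm]
  have hx' : ∀ χ ∈ B.xs, avg H χ x = (sgn p (dg χ) : ℂ) := fun χ hχ => by
    simp only [avg, B.valX χ hχ x hx hx1 _ (hR.le (Subtype.prop _)) (hR.regular _ (Subtype.prop _)),
      Finset.sum_const, Finset.card_univ, ← Nat.card_eq_fintype_card, nsmul_eq_mul]
    field_simp
  have ht1 : avg H (triv G) x = 1 := by
    simp only [avg, triv_apply, Finset.sum_const, Finset.card_univ, ← Nat.card_eq_fintype_card, nsmul_eq_mul,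
      mul_one]
    field_simp
  have hs : (B.ys.map fun η' : IrrCharacter G => conj (avg H η' x)).sum = (sgE p (inIdx P) B.f : ℂ) := by
    have hnd : B.ys.Nodup := (List.nodup_append.1 (List.nodup_cons.1 B.nodup).2).2.1
    rw [← List.sum_toFinset _ hnd, ← map_sum]
    simp only [avg]
    rw [← Finset.sum_div, Finset.sum_comm, Finset.sum_congr rfl (g := fun _ => (sgE p (inIdx P) B.f : ℂ))
      (fun y _ => by rw [List.sum_toFinset _ hnd]; exact B.sumY x hx hx1 y (hR.le y.2) (hR.regular y y.2)),
      Finset.sum_const, Finset.card_univ, ← Nat.card_eq_fintype_card, nsmul_eq_mul, mul_div_cancel_left₀ _ hH0,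
      map_intCast]
  rw [List.map_congr_left (l := B.xs) (g := fun χ : IrrCharacter G =>
      ((Subgroup.centralizer ({g} : Set G)).index : ℂ) * (Nat.card H : ℂ) *
        ((sgn p (dg χ) : ℂ) * (χ : G → ℂ) g * (χ : G → ℂ) k / (dg χ : ℂ))) (fun χ hχ => by
        rw [hx' χ hχ, map_intCast]
        ring),
    List.map_congr_left (l := B.ys) (g := fun η' : IrrCharacter G =>
      ((Subgroup.centralizer ({g} : Set G)).index : ℂ) * (Nat.card H : ℂ) *
        ((η : G → ℂ) g * (η : G → ℂ) k / (B.f : ℂ)) * conj (avg H η' x)) (fun η' hη' => by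
        rw [B.agree η' hη' η hη g hg, B.agree η' hη' η hη k hk, show dg η' = B.f from B.degY η' hη']
        ring),
    List.sum_map_mul_left, List.sum_map_mul_left, hs, ht1, triv_apply, triv_apply, dg_triv]
  simp only [map_one, Nat.cast_one]
  ring

include hR hP hx hx1 in
/-- The row at an involution lies among those with values in given sets. -/
theorem row_memP (hG : IsM23 G) (hodd : p ≠ 2) {t : G} (ht : orderOf t = 2) {dm : IrrCharacter G → List ℤ} {dy : List ℤ}
    (hdm : ∀ χ ∈ B.xs, ival χ t ∈ dm χ) {bd : ℤ}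
    (hnorm : ((B.xs ++ B.ys).map fun χ : IrrCharacter G => ival χ t ^ 2).sum ≤ bd)
    (quad : Bool) (hquad : quad = true → inIdx P % 2 = 1)
    {xs' : List (IrrCharacter G)} (hxs : xs'.Perm B.xs) {η : IrrCharacter G} (hη : η ∈ B.ys) (hdy : ival η t ∈ dy) :
    (xs'.map fun χ : IrrCharacter G => ival χ t) ++ [ival η t] ∈
      rowsP p (inIdx P) B.ys.length (xs'.map fun χ : IrrCharacter G => (dg χ, dm χ)) dy bd B.f quad := by
  classical
  have hno : ¬ p ∣ orderOf t := not_dvd_two hodd ht
  rw [rowsP]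
  apply mem_sols
  · rw [slotsP, List.map_map]
    refine List.rel_append ?_ (List.Forall₂.cons ?_ List.Forall₂.nil)
    · rw [List.forall₂_map_left_iff, List.forall₂_map_right_iff, List.forall₂_same]
      exact fun χ hχ => hdm χ (hxs.subset hχ)
    · exact hdy
  · have h := B.rel _ hη t hno
    rw [ival_inv hG η ht, ← ((hxs.map fun χ : IrrCharacter G => (sgn p (dg χ) : ℂ) * (χ : G → ℂ) t)).sum_eq,
      List.map_congr_left fun χ _ => by rw [ival_inv hG χ ht]] at h
    have key : ∀ l : List (IrrCharacter G),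
        ((linSum (slotsP p (inIdx P) B.ys.length (l.map fun χ : IrrCharacter G => (dg χ, dm χ)) dy B.f quad)
          ((l.map fun χ : IrrCharacter G => ival χ t) ++ [ival η t]) : ℤ) : ℂ) =
          (l.map fun χ : IrrCharacter G => (sgn p (dg χ) : ℂ) * (ival χ t : ℂ)).sum +
            (sgE p (inIdx P) B.f : ℂ) * (ival η t : ℂ) := by
      intro l
      induction l with
      | nil => simp [slotsP, linSum]
      | cons χ r ih =>
        simp only [slotsP, List.map_cons, List.cons_append, linSum, List.sum_cons, Int.cast_add,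
          Int.cast_mul] at ih ⊢
        rw [ih]
        ring
    have : ((1 + linSum (slotsP p (inIdx P) B.ys.length (xs'.map fun χ : IrrCharacter G => (dg χ, dm χ)) dy B.f quad)
          ((xs'.map fun χ : IrrCharacter G => ival χ t) ++ [ival η t]) : ℤ) : ℂ) = ((0 : ℤ) : ℂ) := by
      rw [Int.cast_add, key, Int.cast_one, Int.cast_zero]
      linear_combination h
    exact_mod_cast this
  · cases quad with
    | false =>
      have key : ∀ (a : List (ℕ × List ℤ)) (b : List ℤ), quadSum (slotsP p (inIdx P) B.ys.length a dy B.f false) b = 0 := by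
        intro a
        induction a with
        | nil => intro b; rcases b with _ | ⟨x, _ | ⟨y, r⟩⟩ <;> simp [slotsP, quadSum]
        | cons d r ih =>
          intro b
          rcases b with _ | ⟨x, b⟩
          · simp [quadSum]
          · simp only [slotsP, List.map_cons, List.cons_append, quadSum, Bool.false_eq_true, if_false, zero_mul,
              zero_add] at ih ⊢
            exact ih b
      rw [key]
      simp
    | true =>
      have h := avg_count hR hP B hx hx1 hG hno hno hη
      rw [Finset.sum_eq_zero (fun y _ => by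
        rw [pairCount_coset_zero hR hP hx hx1 hodd (hquad rfl) ht ht y, Nat.cast_zero]),
        ← ((hxs.map fun χ : IrrCharacter G =>
          (sgn p (dg χ) : ℂ) * (χ : G → ℂ) t * (χ : G → ℂ) t / (dg χ : ℂ))).sum_eq, zero_mul, zero_mul,
        eq_comm, mul_eq_zero] at h
      have h' := h.resolve_left (mul_ne_zero (by norm_num) (Nat.cast_ne_zero.2 Nat.card_pos.ne'))
      have hdiv : ∀ χ : IrrCharacter G, (((10200960 / dg χ : ℕ) : ℤ) : ℂ) = 10200960 / (dg χ : ℂ) := fun χ => by
        rw [Int.cast_natCast, Nat.cast_div (dg_dvd' hG χ)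
          (by exact_mod_cast (CfsgLib.Blocks.irr_charDegree_pos χ).ne')]
        norm_num
      have key : ∀ l : List (IrrCharacter G),
          ((quadSum (slotsP p (inIdx P) B.ys.length (l.map fun χ : IrrCharacter G => (dg χ, dm χ)) dy B.f true)
            ((l.map fun χ : IrrCharacter G => ival χ t) ++ [ival η t]) : ℤ) : ℂ) =
            10200960 * ((l.map fun χ : IrrCharacter G =>
              (sgn p (dg χ) : ℂ) * (χ : G → ℂ) t * (χ : G → ℂ) t / (dg χ : ℂ)).sum +
            (sgE p (inIdx P) B.f : ℂ) * (η : G → ℂ) t * (η : G → ℂ) t / (B.f : ℂ)) := by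
        intro l
        induction l with
        | nil =>
          simp only [slotsP, List.map_nil, List.nil_append, quadSum, List.sum_nil, zero_add, add_zero, if_true,
            Int.cast_mul]
          rw [← B.degY _ hη, hdiv, ival_inv hG η ht]
          ring
        | cons χ r ih =>
          simp only [slotsP, List.map_cons, List.cons_append, quadSum, List.sum_cons, if_true, Int.cast_add,
            Int.cast_mul] at ih ⊢
          rw [ih, hdiv, ival_inv hG χ ht]
          ring
      have : ((10200960 + quadSum (slotsP p (inIdx P) B.ys.length (xs'.map fun χ : IrrCharacter G => (dg χ, dm χ)) dy B.f true)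
            ((xs'.map fun χ : IrrCharacter G => ival χ t) ++ [ival η t]) : ℤ) : ℂ) = ((0 : ℤ) : ℂ) := by
        rw [Int.cast_add, key, Int.cast_zero, Int.cast_ofNat]
        linear_combination (10200960 : ℂ) * h'
      simpa using (by exact_mod_cast this : (10200960 : ℤ) + quadSum (slotsP p (inIdx P) B.ys.length (xs'.map fun χ : IrrCharacter G => (dg χ, dm χ)) dy B.f true)
            ((xs'.map fun χ : IrrCharacter G => ival χ t) ++ [ival η t]) = 0)
  · have key : ∀ l : List (IrrCharacter G),
        normSum (slotsP p (inIdx P) B.ys.length (l.map fun χ : IrrCharacter G => (dg χ, dm χ)) dy B.f quad)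
          ((l.map fun χ : IrrCharacter G => ival χ t) ++ [ival η t]) =
          ((l ++ B.ys).map fun χ : IrrCharacter G => ival χ t ^ 2).sum := by
      intro l
      induction l with
      | nil =>
        simp only [slotsP, List.map_nil, List.nil_append, normSum, add_zero]
        rw [List.map_congr_left (g := fun _ => ival η t ^ 2) fun η' hη' => by
          have h := B.agree η' hη' η hη t hno
          rw [ival_inv hG η' ht, ival_inv hG η ht] at h
          rw [show ival η' t = ival η t by exact_mod_cast h]]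
        rw [List.map_const', List.sum_replicate, nsmul_eq_mul]
        simp only [pow_two]
      | cons χ r ih =>
        simp only [slotsP, List.map_cons, List.cons_append, normSum, List.sum_cons] at ih ⊢
        rw [ih]
        push_cast
        ring
    rw [key, ((hxs.append_right B.ys).map _).sum_eq]
    exact hnorm

include hR hP hx hx1 in
/-- The row at an involution lies among those with given sets of values. -/
theorem row_memD (hG : IsM23 G) (hodd : p ≠ 2) {t : G} (ht : orderOf t = 2) {dm : ℕ → List ℤ} {dy : List ℤ}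
    (hdm : ∀ χ ∈ B.xs, ival χ t ∈ dm (dg χ)) {bd : ℤ}
    (hnorm : ((B.xs ++ B.ys).map fun χ : IrrCharacter G => ival χ t ^ 2).sum ≤ bd)
    (quad : Bool) (hquad : quad = true → inIdx P % 2 = 1)
    {xs' : List (IrrCharacter G)} (hxs : xs'.Perm B.xs) {η : IrrCharacter G} (hη : η ∈ B.ys) (hdy : ival η t ∈ dy) :
    (xs'.map fun χ : IrrCharacter G => ival χ t) ++ [ival η t] ∈
      rowsD p (inIdx P) B.ys.length dm dy bd (xs'.map fun χ : IrrCharacter G => dg χ) B.f quad := by
  classical
  have h := row_memP hR hP B hx hx1 hG hodd ht (dm := fun χ => dm (dg χ)) hdm hnorm quad hquad hxs hη hdy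
  rw [rowsD, slotsD, List.map_map]
  exact h

include hR hP hx hx1 in
/-- The row at an involution lies among the listed ones. -/
theorem row_mem (hG : IsM23 G) (hodd : p ≠ 2) {t : G} (ht : orderOf t = 2) {q : ℕ} (hq : 0 < q)
    (hmod : ∀ χ ∈ B.xs, (q : ℤ) ∣ ival χ t - dg χ) (quad : Bool) (hquad : quad = true → inIdx P % 2 = 1)
    {xs' : List (IrrCharacter G)} (hxs : xs'.Perm B.xs) {η : IrrCharacter G} (hη : η ∈ B.ys) :
    (xs'.map fun χ : IrrCharacter G => ival χ t) ++ [ival η t] ∈
      rows p (inIdx P) B.ys.length q (cc t) (xs'.map fun χ : IrrCharacter G => dg χ) B.f quad := by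
  classical
  refine row_memD hR hP B hx hx1 hG hodd ht
    (fun χ hχ => mem_dom_involution hG (B.xs_ne_triv hχ) ht hq (hmod χ hχ)) ?_ quad hquad hxs hη ?_
  · have hb := norm_le (s := (triv G :: (B.xs ++ B.ys)).toFinset) (g := t) (fun χ => ival χ t)
      (fun χ _ => ival_inv hG χ ht)
    rw [List.sum_toFinset _ B.nodup, List.map_cons, List.sum_cons, ival_triv] at hb
    linarith
  · have h4 : ((4 : ℕ) : ℤ) ∣ ival η t - dg η := by
      obtain ⟨v, hv, h4, -⟩ := involution_int hG η ht
      rw [ival_eq hv]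
      push_cast
      omega
    have h := mem_dom_involution hG (B.ys_ne_triv hη) ht (q := 4) (by norm_num) h4
    rwa [B.degY _ hη] at h

end

end CfsgSimpleM23
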