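/-
Simple groups of order 10200960: the Sylow subgroups of order twenty-three are self-centralising.
-/
import Cfsg.Agent.Lib.SimpleM23.Column

set_option autoImplicit false
set_option linter.style.haveILetI false
set_option linter.unusedSectionVars false

namespace CfsgSimpleM23

open Cfsg CfsgLib.CharTheory CfsgSimpleM11
open CfsgSimpleM22 (cc BL exists_BL ival ival_eq)
open CfsgLib.SmallSylow (inIdx)

universe u
variable {G : Type u} [Group G] [Fintype G]

/-- The degrees of nontrivial characters allowed by the prime twenty-three. -/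
def degs23 : List ℕ :=
  degs.filter fun d => (d % 23 == 0) || ((443520 % d == 0) && [1, 11, 12, 22].contains (d % 23))

/-- The orders of centralisers of an involution commuting with elements of orders 23 and 11. -/
def cents506 : List ℕ := divs.filter fun C => (C % 506 == 0) && decide (C ≤ 443520)

theorem options23 : (options 23).all (fun o => (o == (11, 40320, 1)) || (o == (11, 1680, 24)) || (o == (22, 1680, 12)) ||
    ((o.2.2 % 2 == 0) && noDeg degs 23 o.1 o.2.1 46) || noDeg degs 23 o.1 o.2.1 2) = true := by decide +kernel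

/-- The degrees of the non-exceptional characters allowed by an involution with centraliser of order `C`. -/
def degsX506 (C e : ℕ) : List ℕ :=
  degs.filter fun d => (e * 1680 % d == 0) && ((d % 23 == 1) || (d % 23 == 22)) && !(dom 92 C d).isEmpty

/-- The degrees of the exceptional characters allowed by an involution with centraliser of order `C`. -/
def degsY506 (C e : ℕ) : List ℕ :=
  degs.filter fun d => (e * 1680 % d == 0) && ((d % 23 == e) || (d % 23 == 23 - e)) && !(dom 4 C d).isEmpty

theorem noDeg506a : cents506.all (fun C => noDeg2 (degsX506 C 11) (degsY506 C 11) 23 11 1680 46) = true := by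
  decide +kernel

theorem noDeg506b : cents506.all (fun C => noDeg2 (degsX506 C 22) (degsY506 C 22) 23 22 1680 46) = true := by
  decide +kernel

theorem four_dvd_ival (hG : IsM23 G) (χ : IrrCharacter G) {t : G} (ht : orderOf t = 2) :
    ((4 : ℕ) : ℤ) ∣ ival χ t - dg χ := by
  obtain ⟨v, hv, h4, -⟩ := involution_int hG χ ht
  rw [ival_eq hv]
  push_cast
  omega

theorem not_isEmpty_of_mem {α : Type*} {l : List α} {a : α} (h : a ∈ l) : (!l.isEmpty) = true := by
  cases l with
  | nil => simp at h
  | cons b r => rfl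

variable {p : ℕ} [Fact p.Prime]

/-- An element of prime order normalising the Sylow subgroup fixes an involution of the regular part. -/
theorem exists_fixed_involution (hG : IsM23 G) {P : Sylow p G} {H : Subgroup G} (hR : Reg P H) {y : G}
    (hy : orderOf y = 11) (hyN : y ∈ Subgroup.normalizer ((P : Subgroup G) : Set G))
    (hH : Nat.card H = 24 ∨ Nat.card H = 12) : ∃ t ∈ H, orderOf t = 2 ∧ Commute y t := by
  classical
  haveI : Fact (Nat.Prime 11) := ⟨by norm_num⟩
  haveI := Fintype.ofFinite H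
  have hconj : ∀ g ∈ Subgroup.normalizer ((P : Subgroup G) : Set G), ∀ h ∈ H, g * h * g⁻¹ ∈ H := by
    intro g hg h hh
    refine hR.mem _ ?_ ?_
    · rw [Subgroup.mem_centralizer_iff]
      intro z hz
      have hz' : g⁻¹ * z * g ∈ (P : Subgroup G) := by
        have := (Subgroup.mem_normalizer_iff.1 (inv_mem hg) z).1 hz
        simpa using this
      have e := Subgroup.mem_centralizer_iff.1 (hR.le hh) _ hz'
      calc z * (g * h * g⁻¹) = g * ((g⁻¹ * z * g) * h) * g⁻¹ := by group
        _ = g * (h * (g⁻¹ * z * g)) * g⁻¹ := by rw [e]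
        _ = g * h * g⁻¹ * z := by group
    · rw [show g * h * g⁻¹ = MulAut.conj g h from rfl, MulEquiv.orderOf_eq]
      exact hR.regular h hh
  let σ : Equiv.Perm H :=
    { toFun := fun h => ⟨y * h * y⁻¹, hconj y hyN h h.2⟩
      invFun := fun h => ⟨y⁻¹ * h * y⁻¹⁻¹, hconj y⁻¹ (inv_mem hyN) h h.2⟩
      left_inv := fun h => Subtype.ext (by simp only; group)
      right_inv := fun h => Subtype.ext (by simp only; group) }
  have hσ : ∀ (k : ℕ) (h : H), ((σ ^ k) h : G) = y ^ k * h * (y ^ k)⁻¹ := by
    intro k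
    induction k with
    | zero => intro h; simp
    | succ k ih =>
      intro h
      rw [pow_succ', Equiv.Perm.mul_apply]
      show y * ((σ ^ k) h : G) * y⁻¹ = _
      rw [ih]
      group
  have hσ11 : σ ^ 11 ^ 1 = 1 := by
    ext h
    rw [pow_one, hσ, ← hy, pow_orderOf_eq_one]
    simp
  let K : Subgroup G := H ⊓ Subgroup.centralizer {y}
  have hfix : ∀ h : H, h ∈ σ.supportᶜ ↔ (h : G) ∈ K := fun h => by
    rw [Finset.mem_compl, Equiv.Perm.notMem_support, Subtype.ext_iff]
    show y * h * y⁻¹ = h ↔ _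
    simp only [K, Subgroup.mem_inf, SetLike.coe_mem, true_and, Subgroup.mem_centralizer_singleton_iff,
      mul_inv_eq_iff_eq_mul]
    exact eq_comm
  have hK : σ.supportᶜ.card = Nat.card K := by
    rw [← Nat.card_eq_finsetCard]
    exact Nat.card_congr
      { toFun := fun h => ⟨h.1, (hfix h.1).1 h.2⟩
        invFun := fun k => ⟨⟨k.1, (Subgroup.mem_inf.1 k.2).1⟩, (hfix _).2 k.2⟩
        left_inv := fun h => rfl
        right_inv := fun k => rfl }
  have hmod := Equiv.Perm.card_compl_support_modEq hσ11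
  rw [hK, ← Nat.card_eq_fintype_card (α := H)] at hmod
  have hKdvd : Nat.card K ∣ Nat.card H := Subgroup.card_dvd_of_le inf_le_left
  have hK0 : 0 < Nat.card K := Nat.card_pos
  by_cases h2 : 2 ∣ Nat.card K
  · obtain ⟨t, ht, ht2⟩ := exists_order Nat.prime_two h2
    exact ⟨t, (Subgroup.mem_inf.1 ht).1, ht2,
      (Subgroup.mem_centralizer_singleton_iff.1 (Subgroup.mem_inf.1 ht).2).symm⟩
  exfalso
  rcases hH with e | e <;> rw [e] at hmod hKdvd
  · have h3 : ∀ d ∈ Finset.range 25, d ∣ 24 → d % 11 = 2 → 2 ∣ d := by decide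
    exact h2 (h3 _ (Finset.mem_range.2 (Nat.lt_succ_of_le (Nat.le_of_dvd (by norm_num) hKdvd))) hKdvd hmod)
  · have hK1 : Nat.card K = 1 := by
      have h3 : ∀ d ∈ Finset.range 13, d ∣ 12 → d % 11 = 1 → ¬ 2 ∣ d → d = 1 := by decide
      exact h3 _ (Finset.mem_range.2 (Nat.lt_succ_of_le (Nat.le_of_dvd (by norm_num) hKdvd))) hKdvd hmod h2
    have hbot : K = ⊥ := Subgroup.card_eq_one.1 hK1
    obtain ⟨a, haH, ha⟩ := exists_order Nat.prime_two (show 2 ∣ Nat.card H by rw [e]; norm_num)
    obtain ⟨b, hbH, hb⟩ := exists_order Nat.prime_three (show 3 ∣ Nat.card H by rw [e]; norm_num)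
    have hinj : Function.Injective (fun k : Fin 11 => (σ ^ (k : ℕ)) ⟨a, haH⟩) := by
      intro i j hij
      have e1 : y ^ (i : ℕ) * a * (y ^ (i : ℕ))⁻¹ = y ^ (j : ℕ) * a * (y ^ (j : ℕ))⁻¹ := by
        have := congrArg Subtype.val hij
        simpa only [hσ] using this
      by_contra hne
      set w := (y ^ (j : ℕ))⁻¹ * y ^ (i : ℕ) with hw
      have hwa : w * a = a * w := by
        calc w * a = (y ^ (j : ℕ))⁻¹ * (y ^ (i : ℕ) * a * (y ^ (i : ℕ))⁻¹) * y ^ (i : ℕ) := by rw [hw]; group
          _ = a * w := by rw [e1, hw]; group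
      have hwz : w ∈ Subgroup.zpowers y :=
        mul_mem (inv_mem (Subgroup.npow_mem_zpowers y _)) (Subgroup.npow_mem_zpowers y _)
      have hw1 : w ≠ 1 := fun h => by
        have h' : y ^ (i : ℕ) = y ^ (j : ℕ) := (inv_mul_eq_one.1 h).symm
        exact hne (Fin.ext (pow_injOn_Iio_orderOf (by rw [Set.mem_Iio, hy]; exact i.2)
          (by rw [Set.mem_Iio, hy]; exact j.2) h'))
      have hwy : y ∈ Subgroup.zpowers w := mem_zpowers_of_prime_card
        (show Nat.card (Subgroup.zpowers y) = 11 by rw [Nat.card_zpowers, hy])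
        (g := (⟨w, hwz⟩ : Subgroup.zpowers y)) (g' := ⟨y, Subgroup.mem_zpowers y⟩) (fun h => hw1 (congrArg Subtype.val h))
        |> fun h => by
          obtain ⟨k, hk⟩ := h
          exact ⟨k, by simpa using congrArg Subtype.val hk⟩
      have haK : a ∈ K := ⟨haH, Subgroup.mem_centralizer_singleton_iff.2 (by
        obtain ⟨k, hk⟩ := hwy
        rw [← hk]
        exact ((show Commute w a from hwa).zpow_left k).symm)⟩
      rw [hbot, Subgroup.mem_bot] at haK
      rw [haK, orderOf_one] at ha
      norm_num at ha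
    let f : Option (Option (Fin 11)) → H := fun o => match o with
      | none => 1
      | some none => ⟨b, hbH⟩
      | some (some k) => (σ ^ (k : ℕ)) ⟨a, haH⟩
    have hord : ∀ k : Fin 11, orderOf ((σ ^ (k : ℕ)) ⟨a, haH⟩ : G) = 2 := fun k => by
      rw [hσ, show y ^ (k : ℕ) * a * (y ^ (k : ℕ))⁻¹ = MulAut.conj (y ^ (k : ℕ)) a from rfl, MulEquiv.orderOf_eq, ha]
    have hf : Function.Injective f := by
      intro o o' h
      have h' := congrArg (fun z : H => orderOf (z : G)) h
      rcases o with _ | _ | k <;> rcases o' with _ | _ | k' <;>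
        simp only [f, hord, hb, Subgroup.coe_one, orderOf_one] at h' ⊢ <;>
        first | rfl | omega | exact congrArg (fun z => some (some z)) (hinj h)
    have := Nat.card_le_card_of_injective f hf
    rw [e, Nat.card_eq_fintype_card, Fintype.card_option, Fintype.card_option, Fintype.card_fin] at this
    omega

theorem le_centralizer_of_prime (P : Sylow p G) (hP : Nat.card P = p) :
    (P : Subgroup G) ≤ Subgroup.centralizer ((P : Subgroup G) : Set G) := by
  obtain ⟨x, hx, hx1⟩ := CfsgLib.SmallSylow.exists_mem_ne P hP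
  intro z hz
  rw [← (CfsgLib.Blocks.DefectOne.setup_sylow P hP).star x hx hx1]
  have hz' := (CfsgLib.Blocks.DefectOne.zpowers_eq (CfsgLib.Blocks.DefectOne.setup_sylow P hP) hP hx hx1).1
  rw [← hz'] at hz
  obtain ⟨k, rfl⟩ := hz
  exact Subgroup.mem_centralizer_singleton_iff.2 ((Commute.refl x).zpow_left k).eq

/-- A Sylow subgroup of order 23 is self-centralising, with inertial index 11. -/
theorem twenty_three [Fact (Nat.Prime 23)] (hG : IsM23 G) (P : Sylow 23 G) :
    inIdx P = 11 ∧ Nat.card (Sylow 23 G) = 40320 ∧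
      Subgroup.centralizer ((P : Subgroup G) : Set G) = (P : Subgroup G) := by
  classical
  have hP : Nat.card P = 23 := card_sylow_prime hG (by decide) P
  obtain ⟨H, hR⟩ := exists_reg P hP
  obtain ⟨B⟩ := exists_BL (by norm_num) P hP (two_le_e hG P hP)
  have hmem := mem_options_of hG (by norm_num) P hP hR
  have h := List.all_eq_true.1 options23 _ hmem
  simp only [Bool.or_eq_true, Bool.and_eq_true, beq_iff_eq, Prod.mk.injEq] at h
  have he23 : inIdx P ≤ 23 := by
    have h1 := B.len_ys
    obtain ⟨η, hη⟩ := B.exists_eta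
    have h2 : 0 < B.ys.length := List.length_pos_of_mem hη
    nlinarith
  have hdegs : ∀ χ : IrrCharacter G, χ ≠ triv G → dg χ ∈ degs := fun χ => dg_mem hG
  have h506 : ∀ {e : ℕ}, cents506.all (fun C => noDeg2 (degsX506 C e) (degsY506 C e) 23 e 1680 46) = true →
      inIdx P = e → 11 ∣ e →
      Nat.card (Sylow 23 G) = 1680 → (Nat.card H = 24 ∨ Nat.card H = 12) → False := by
    intro e hel hinE h11 hn hH
    have hN : 11 ∣ Nat.card (Subgroup.normalizer ((P : Subgroup G) : Set G)) := by
      refine (h11.trans (dvd_of_eq hinE.symm)).trans ?_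
      exact Subgroup.index_dvd_card _
    obtain ⟨y, hyN, hy⟩ := exists_order (by norm_num) hN
    obtain ⟨t, htH, ht, hyt⟩ := exists_fixed_involution hG hR hy hyN hH
    obtain ⟨x, hx, hx1⟩ := CfsgLib.SmallSylow.exists_mem_ne P hP
    have hC : 506 ∣ cc t := by
      have hm : ∀ g : G, g * t = t * g → orderOf g ∣ cc t := fun g hg =>
        Subgroup.orderOf_dvd_natCard _ (Subgroup.mem_centralizer_singleton_iff.2 hg)
      have d1 := hm x (Subgroup.mem_centralizer_iff.1 (hR.le htH) x hx)
      have d2 := hm y hyt.eq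
      have d3 := hm t rfl
      rw [CfsgLib.SmallSylow.orderOf_mem P hP hx hx1] at d1
      rw [hy] at d2
      rw [ht] at d3
      exact (show Nat.Coprime 2 253 by norm_num).mul_dvd_of_dvd_of_dvd d3
        ((show Nat.Coprime 23 11 by norm_num).mul_dvd_of_dvd_of_dvd d1 d2)
    have hcen : cc t ∈ cents506 := List.mem_filter.2 ⟨mem_divs (cc_dvd hG t), by
      simp only [Bool.and_eq_true, beq_iff_eq, decide_eq_true_eq]
      exact ⟨Nat.mod_eq_zero_of_dvd hC, cent_le hG (inv_ne_one ht)⟩⟩
    refine false_of_noDeg2 hG B ?_ ?_ hinE hn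
      (fun χ hχ => lo_le hG (by norm_num) hP B ht (hR.le htH) hχ) (hinE ▸ he23)
      (List.all_eq_true.1 hel _ hcen)
    · refine fun χ hχ => List.mem_filter.2 ⟨hdegs χ (B.xs_ne_triv hχ), ?_⟩
      simp only [Bool.and_eq_true, Bool.or_eq_true, beq_iff_eq]
      refine ⟨⟨Nat.mod_eq_zero_of_dvd ?_, B.modX χ hχ⟩, not_isEmpty_of_mem
        (mem_dom_involution hG (B.xs_ne_triv hχ) ht (by norm_num) (by
          have hv := value_mod hG (by norm_num) hP B ht (hR.le htH) hχ (ival_inv hG χ ht)
          exact hv))⟩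
      have := B.dvdX χ hχ
      rwa [hinE, hn] at this
    · refine fun η hη => List.mem_filter.2 ⟨hdegs η (B.ys_ne_triv hη), ?_⟩
      simp only [Bool.and_eq_true, Bool.or_eq_true, beq_iff_eq]
      refine ⟨⟨Nat.mod_eq_zero_of_dvd ?_, ?_⟩, not_isEmpty_of_mem
        (mem_dom_involution hG (B.ys_ne_triv hη) ht (by norm_num) (four_dvd_ival hG η ht))⟩
      · have := B.dvdY
        rw [hinE, hn] at this
        rwa [B.degY η hη]
      · have := B.modf
        rwa [hinE, ← B.degY η hη] at this
  rcases h with (((⟨he, hn, hH⟩ | ⟨he, hn, hH⟩) | ⟨he, hn, hH⟩) | ⟨hH, hno⟩) | hno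
  · refine ⟨he, hn, (Subgroup.eq_of_le_of_card_ge ?_ ?_).symm⟩
    · exact le_centralizer_of_prime P hP
    · rw [← hR.card, hH, show Nat.card (P : Subgroup G) = 23 from hP]
  · exact (h506 noDeg506a he (dvd_refl 11) hn (Or.inl hH)).elim
  · exact (h506 noDeg506b he (by norm_num) hn (Or.inr hH)).elim
  · exfalso
    obtain ⟨t, htH, ht⟩ := exists_order Nat.prime_two (Nat.dvd_of_mod_eq_zero hH)
    exact false_of_noDeg hG B hdegs rfl rfl (fun χ hχ => lo_le hG (by norm_num) hP B ht (hR.le htH) hχ) he23 hno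
  · exact (false_of_noDeg hG B hdegs rfl rfl (fun χ hχ => two_le_dg hG (B.xs_ne_triv hχ)) he23 hno).elim

/-- The degrees allowed by the prime twenty-three. -/
theorem dg_mem23 (hG : IsM23 G) {χ : IrrCharacter G} (hne : χ ≠ triv G) : dg χ ∈ degs23 := by
  classical
  haveI : Fact (Nat.Prime 23) := ⟨by norm_num⟩
  obtain ⟨P⟩ := (inferInstance : Nonempty (Sylow 23 G))
  have hP : Nat.card P = 23 := card_sylow_prime hG (by decide) P
  obtain ⟨he, hn, hC⟩ := twenty_three hG P
  obtain ⟨B⟩ := exists_BL (by norm_num) P hP (two_le_e hG P hP)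
  refine List.mem_filter.2 ⟨dg_mem hG hne, ?_⟩
  simp only [Bool.or_eq_true, Bool.and_eq_true, beq_iff_eq, List.contains_iff_mem]
  by_cases hd : 23 ∣ dg χ
  · exact Or.inl (Nat.mod_eq_zero_of_dvd hd)
  right
  rcases List.mem_cons.1 (B.mem_of_not_dvd hC hd) with e | h
  · exact absurd e hne
  rcases List.mem_append.1 h with h | h
  · refine ⟨Nat.mod_eq_zero_of_dvd ?_, ?_⟩
    · have := B.dvdX χ h; rwa [he, hn] at this
    · rcases B.modX χ h with e | e <;> simp [e]
  · refine ⟨Nat.mod_eq_zero_of_dvd ?_, ?_⟩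
    · have := B.dvdY; rw [he, hn] at this; rwa [B.degY χ h]
    · rw [B.degY χ h]
      rcases B.modf with e | e <;> simp [e, he]

end CfsgSimpleM23
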