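/-
Simple groups of order 10200960: tools excluding a block of a Sylow subgroup of prime order.
-/
import Cfsg.Agent.Lib.SimpleM23.TwentyThree
import Mathlib.GroupTheory.SpecificGroups.Dihedral

set_option autoImplicit false
set_option linter.style.haveILetI false
set_option linter.unusedSectionVars false

namespace CfsgSimpleM23

open Cfsg CfsgLib.CharTheory CfsgSimpleM11
open CfsgSimpleM22 (cc BL exists_BL ival ival_eq)
open CfsgLib.SmallSylow (inIdx)

universe u
variable {G : Type u} [Group G] [Fintype G]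

/-- An element commuting with an element of order twenty-three is a power of it. -/
theorem orderOf_dvd_23 (hG : IsM23 G) {x g : G} (hx : orderOf x = 23) (hc : g * x = x * g) : orderOf g ∣ 23 := by
  haveI : Fact (Nat.Prime 23) := ⟨by norm_num⟩
  obtain ⟨P, hP⟩ := (IsPGroup.of_card (n := 1) (by rw [Nat.card_zpowers, hx, pow_one]) :
    IsPGroup 23 (Subgroup.zpowers x)).exists_le_sylow
  have hcard : Nat.card P = 23 := card_sylow_prime hG (by decide) P
  have hxP : x ∈ (P : Subgroup G) := hP (Subgroup.mem_zpowers x)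
  have hx1 : x ≠ 1 := fun e => by rw [e, orderOf_one] at hx; norm_num at hx
  obtain ⟨-, -, hC⟩ := twenty_three hG P
  have hg : g ∈ Subgroup.centralizer ((P : Subgroup G) : Set G) := by
    rw [← (CfsgLib.Blocks.DefectOne.setup_sylow P hcard).star x hxP hx1]
    exact Subgroup.mem_centralizer_singleton_iff.2 hc
  rw [hC] at hg
  exact hcard ▸ Subgroup.orderOf_dvd_natCard _ hg

theorem not_dvd23_cc (hG : IsM23 G) {g : G} (hg : ¬ orderOf g ∣ 23) : ¬ 23 ∣ cc g := fun h => by
  obtain ⟨x, hx, hxo⟩ := exists_order (by norm_num) h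
  exact hg (orderOf_dvd_23 hG hxo (Subgroup.mem_centralizer_singleton_iff.1 hx).symm)

variable {p : ℕ} [Fact p.Prime]

theorem e_le (hG : IsM23 G) {P : Sylow p G} (B : BL P) (hp : p ≤ 23) : inIdx P ≤ 23 := by
  have h1 := B.len_ys
  obtain ⟨η, hη⟩ := B.exists_eta
  have h2 : 0 < B.ys.length := List.length_pos_of_mem hη
  have : inIdx P ≤ B.ys.length * inIdx P := Nat.le_mul_of_pos_left _ h2
  omega

variable {P : Sylow p G} {H : Subgroup G}

/-- No element of order twenty-three centralises a smaller Sylow subgroup. -/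
theorem not_dvd23_reg (hG : IsM23 G) (hp : p ≠ 23) (hP : Nat.card P = p) (hR : Reg P H) : ¬ 23 ∣ Nat.card H :=
  fun h => by
  obtain ⟨y, hy, hyo⟩ := exists_order (by norm_num) h
  obtain ⟨x, hx, hx1⟩ := CfsgLib.SmallSylow.exists_mem_ne P hP
  have h1 := orderOf_dvd_23 hG hyo (g := x) (Subgroup.mem_centralizer_iff.1 (hR.le hy) x hx)
  rw [CfsgLib.SmallSylow.orderOf_mem P hP hx hx1] at h1
  exact hp ((Nat.prime_dvd_prime_iff_eq (Fact.out : p.Prime) (by norm_num)).1 h1)

/-- The possible orders of centralisers of involutions that are divisible by `m`. -/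
def cents (m : ℕ) : List ℕ := divs.filter fun C => (C % m == 0) && (C % 23 != 0) && decide (C ≤ 443520)

theorem cc_mem_cents (hG : IsM23 G) {t : G} (ht : orderOf t = 2) {m : ℕ} (hm : m ∣ cc t) : cc t ∈ cents m := by
  refine List.mem_filter.2 ⟨mem_divs (cc_dvd hG t), ?_⟩
  simp only [Bool.and_eq_true, beq_iff_eq, decide_eq_true_eq, bne_iff_ne]
  exact ⟨⟨Nat.mod_eq_zero_of_dvd hm, fun h => not_dvd23_cc hG (by rw [ht]; norm_num) (Nat.dvd_of_mod_eq_zero h)⟩,
    cent_le hG (inv_ne_one ht)⟩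

theorem two_p_dvd_cc (hodd : p ≠ 2) (hP : Nat.card P = p) {t : G} (ht : orderOf t = 2)
    (htC : t ∈ Subgroup.centralizer ((P : Subgroup G) : Set G)) : 2 * p ∣ cc t := by
  obtain ⟨x, hx, hx1⟩ := CfsgLib.SmallSylow.exists_mem_ne P hP
  have d1 : p ∣ cc t := CfsgLib.SmallSylow.orderOf_mem P hP hx hx1 ▸ Subgroup.orderOf_dvd_natCard _
    (Subgroup.mem_centralizer_singleton_iff.2 (Subgroup.mem_centralizer_iff.1 htC x hx))
  have d2 : 2 ∣ cc t := ht ▸ Subgroup.orderOf_dvd_natCard _ (Subgroup.mem_centralizer_singleton_iff.2 rfl)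
  exact Nat.Coprime.mul_dvd_of_dvd_of_dvd
    ((Nat.coprime_primes Nat.prime_two (Fact.out : p.Prime)).2 (Ne.symm hodd)) d2 d1

/-- An involution centralising the Sylow subgroup leaves no row. -/
theorem false_of_rows (hG : IsM23 G) (hodd : p ≠ 2) (hP : Nat.card P = p) (hR : Reg P H) (B : BL P) {t : G}
    (ht : orderOf t = 2) (htH : t ∈ H) {D : List ℕ} (hD : ∀ χ : IrrCharacter G, χ ≠ triv G → dg χ ∈ D)
    {e n k : ℕ} (he : inIdx P = e) (hn : Nat.card (Sylow p G) = n) (hk : B.ys.length = k) (heo : e % 2 = 1)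
    (h : (cents (2 * p)).all (fun C => (degLists D p e n (2 * p)).all fun l =>
      (rows p e k (4 * p) C l.1 l.2 true).isEmpty) = true) : False := by
  classical
  haveI := Fintype.ofFinite H
  obtain ⟨x, hx, hx1⟩ := CfsgLib.SmallSylow.exists_mem_ne P hP
  obtain ⟨η, hη⟩ := B.exists_eta
  have htC := hR.le htH
  obtain ⟨xs', hperm, hl⟩ := exists_list B hD fun χ hχ => lo_le hG hodd hP B ht htC hχ
  rw [he, hn] at hl
  have hrow := row_mem hR hP B hx hx1 hG hodd ht (q := 4 * p) (by have := (Fact.out : p.Prime).pos; omega)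
    (fun χ hχ => value_mod hG hodd hP B ht htC hχ (ival_inv hG χ ht)) true (fun _ => he ▸ heo) hperm hη
  rw [he, hk] at hrow
  have h1 := List.all_eq_true.1 (List.all_eq_true.1 h _ (cc_mem_cents hG ht (two_p_dvd_cc hodd hP ht htC))) _ hl
  rw [List.isEmpty_iff.1 h1] at hrow
  exact List.not_mem_nil hrow

/-- The nonnegativity of the fixed space of a dihedral group. -/
theorem dihedral_ge (χ : IrrCharacter G) {x s : G} (hx : orderOf x = p) (hodd : p ≠ 2) (hs : s * s = 1)
    (hinv : s * x * s⁻¹ = x⁻¹) {c v : ℤ} (hc : ∀ i : ZMod p, i ≠ 0 → (χ : G → ℂ) (x ^ i.val) = (c : ℂ))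
    (hv : (χ : G → ℂ) s = (v : ℂ)) : 0 ≤ (dg χ : ℤ) + ((p : ℤ) - 1) * c + (p : ℤ) * v := by
  classical
  have hp := (Fact.out : p.Prime)
  have hxp : x ^ p = 1 := by rw [← hx, pow_orderOf_eq_one]
  let f : ZMod p → G := fun i => x ^ i.val
  have hf : ∀ i j : ZMod p, f (i + j) = f i * f j := fun i j => by
    simp only [f, ← pow_add]
    exact pow_eq_pow_of_modEq (by rw [ZMod.val_add]; exact Nat.mod_modEq _ _) hxp
  have hf0 : f 0 = 1 := by simp [f]
  have hfn : ∀ i : ZMod p, f (-i) = (f i)⁻¹ := fun i =>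
    eq_inv_of_mul_eq_one_left (by rw [← hf, neg_add_cancel, hf0])
  have hsi : s⁻¹ = s := inv_eq_of_mul_eq_one_left hs
  have hsw : ∀ i : ZMod p, f i * s = s * f (-i) := fun i => by
    have e : s * f (-i) * s⁻¹ = f i := by
      have e0 : s * f i * s⁻¹ = (f i)⁻¹ := by
        show s * x ^ i.val * s⁻¹ = (x ^ i.val)⁻¹
        rw [← conj_pow, hinv, inv_pow]
      rw [hfn]
      calc s * (f i)⁻¹ * s⁻¹ = (s * f i * s⁻¹)⁻¹ := by group
        _ = f i := by rw [e0, inv_inv]
    rw [← e, inv_mul_cancel_right]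
  let φ : DihedralGroup p →* G :=
    { toFun := fun g => match g with
        | .r i => f i
        | .sr i => s * f i
      map_one' := hf0
      map_mul' := by
        rintro (i | i) (j | j)
        · exact hf i j
        · show s * f (j - i) = f i * (s * f j)
          rw [← mul_assoc, hsw, mul_assoc, ← hf, neg_add_eq_sub]
        · show s * f (i + j) = s * f i * f j
          rw [hf, mul_assoc]
        · show f (j - i) = s * f i * (s * f j)
          rw [mul_assoc s, ← mul_assoc (f i), hsw, mul_assoc s (f _), ← mul_assoc, hs, one_mul, ← hf,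
            neg_add_eq_sub] }
  obtain ⟨d, ρ, -, hρ⟩ := χ.2
  let σ : Representation ℂ (DihedralGroup p) (Fin d → ℂ) := ρ.comp φ
  haveI : Invertible (Nat.card (DihedralGroup p) : ℂ) :=
    invertibleOfNonzero (Nat.cast_ne_zero.2 Nat.card_pos.ne')
  have h := σ.card_inv_mul_sum_char_eq_finrank
  rw [inv_mul_eq_iff_eq_mul₀ (Nat.cast_ne_zero.2 Nat.card_pos.ne'), DihedralGroup.nat_card] at h
  let eq : ZMod p ⊕ ZMod p ≃ DihedralGroup p :=
    { toFun := Sum.elim DihedralGroup.r DihedralGroup.sr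
      invFun := fun g => match g with
        | .r i => Sum.inl i
        | .sr i => Sum.inr i
      left_inv := by rintro (i | i) <;> rfl
      right_inv := by rintro (i | i) <;> rfl }
  rw [← Equiv.sum_comp eq, Fintype.sum_sum_type] at h
  have hr : ∀ i : ZMod p, σ.character (eq (Sum.inl i)) = (χ : G → ℂ) (f i) := fun i => by
    rw [← hρ]; rfl
  have hsr : ∀ i : ZMod p, σ.character (eq (Sum.inr i)) = (v : ℂ) := fun i => by
    have e1 : σ.character (eq (Sum.inr i)) = (χ : G → ℂ) (s * f i) := by rw [← hρ]; rfl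
    rw [e1, ← hv]
    have h2 : (2 : ZMod p) ≠ 0 := by
      intro h
      have h' : ((2 : ℕ) : ZMod p) = 0 := by simpa using h
      rw [ZMod.natCast_eq_zero_iff] at h'
      exact hodd ((Nat.prime_dvd_prime_iff_eq hp Nat.prime_two).1 h')
    set k := i / 2 with hk
    have hki : k + k = i := by rw [hk]; field_simp; ring
    have e2 : s * f i = (f k)⁻¹ * s * f k := by
      rw [← hfn, hsw, neg_neg, mul_assoc, ← hf, hki]
    rw [e2]
    simpa using CfsgSimpleM11.irr_conjInv χ s (f k)⁻¹
  simp only [hr, hsr, Finset.sum_const, Finset.card_univ, ZMod.card, nsmul_eq_mul] at h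
  rw [← Finset.add_sum_erase _ _ (Finset.mem_univ (0 : ZMod p)), hf0,
    Finset.sum_congr rfl fun i hi => hc i (Finset.ne_of_mem_erase hi), Finset.sum_const,
    Finset.card_erase_of_mem (Finset.mem_univ _), Finset.card_univ, ZMod.card, irr_degree, nsmul_eq_mul,
    Nat.cast_sub hp.one_le] at h
  have h' : (dg χ : ℤ) + ((p : ℤ) - 1) * c + (p : ℤ) * v =
      ((2 * p * Module.finrank ℂ σ.invariants : ℕ) : ℤ) := by
    have : (((dg χ : ℤ) + ((p : ℤ) - 1) * c + (p : ℤ) * v : ℤ) : ℂ) =
        (((2 * p * Module.finrank ℂ σ.invariants : ℕ) : ℤ) : ℂ) := by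
      push_cast at h ⊢
      simp only [dg]
      linear_combination h
    exact_mod_cast this
  rw [h']
  exact Int.natCast_nonneg _

end CfsgSimpleM23
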