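/-
Simple groups of order 10200960: the Sylow subgroups of order eleven are self-centralising.
-/
import Cfsg.Agent.Lib.SimpleM23.Kill

set_option autoImplicit false
set_option linter.style.haveILetI false
set_option linter.unusedSectionVars false

namespace CfsgSimpleM23

open Cfsg CfsgLib.CharTheory CfsgLib.Blocks CfsgSimpleM11
open CfsgSimpleM22 (cc BL exists_BL sgn sgE sumX ival ival_eq)
open CfsgLib.SmallSylow (inIdx)

universe u
variable {G : Type u} [Group G] [Fintype G]

theorem options7_eleven : (options 7).all (fun o => (o.2.2 % 11 != 0) || (o.2.2 % 23 == 0) ||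
    ((o.2.2 % 2 == 0) && ((o.1 == 3) && ((o.2.1 == 736) || (o.2.1 == 11040)))) ||
    noDeg degs23 7 o.1 o.2.1 2) = true := by decide +kernel

theorem seven_rows : (cents (2 * 7)).all (fun C => [736, 11040].all fun n =>
    (degLists degs23 7 3 n (2 * 7)).all fun l => (rows 7 3 2 (4 * 7) C l.1 l.2 true).isEmpty) = true := by
  decide +kernel

theorem options11 : (options 11).all (fun o => (o == (5, 185472, 1)) || (o.2.2 % 7 == 0) || (o.2.2 % 23 == 0) ||
    (o == (2, 57960, 8)) || (o == (2, 15456, 30)) || (o == (5, 15456, 12)) ||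
    noDeg degs23 11 o.1 o.2.1 2) = true := by decide +kernel

theorem eleven_rows : (cents (2 * 11)).all (fun C =>
    (degLists degs23 11 5 15456 (2 * 11)).all fun l => (rows 11 5 2 (4 * 11) C l.1 l.2 true).isEmpty) = true := by
  decide +kernel

theorem lists8 : degLists degs23 11 2 57960 22 = [([45], 46), ([23], 24)] := by decide +kernel

theorem lists30 : degLists degs23 11 2 15456 22 = [([23], 24)] := by decide +kernel

variable {p : ℕ} [Fact p.Prime]

/-- An element of order `q` of the regular part has the Sylow subgroup in its centraliser. -/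
theorem reg_symm (hG : IsM23 G) {q : ℕ} [Fact q.Prime] (hpq : p ≠ q) (hq : q ∈ ([5, 7, 11, 23] : List ℕ))
    {P : Sylow p G} {H : Subgroup G} (hP : Nat.card P = p) (hR : Reg P H) (h : q ∣ Nat.card H) :
    ∃ (Q : Sylow q G) (K : Subgroup G), Reg Q K ∧ p ∣ Nat.card K := by
  obtain ⟨y, hy, hyo⟩ := exists_order (Fact.out : q.Prime) h
  obtain ⟨Q, hQ⟩ := (IsPGroup.of_card (n := 1) (by rw [Nat.card_zpowers, hyo, pow_one]) :
    IsPGroup q (Subgroup.zpowers y)).exists_le_sylow
  have hcard : Nat.card Q = q := card_sylow_prime hG hq Q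
  obtain ⟨K, hK⟩ := exists_reg Q hcard
  obtain ⟨x, hx, hx1⟩ := CfsgLib.SmallSylow.exists_mem_ne P hP
  have hy1 : y ≠ 1 := fun e => by rw [e, orderOf_one] at hyo; exact (Fact.out : q.Prime).ne_one hyo.symm
  have hxo := CfsgLib.SmallSylow.orderOf_mem P hP hx hx1
  have hxC : x ∈ Subgroup.centralizer ((Q : Subgroup G) : Set G) := by
    rw [← (CfsgLib.Blocks.DefectOne.setup_sylow Q hcard).star y (hQ (Subgroup.mem_zpowers y)) hy1]
    exact Subgroup.mem_centralizer_singleton_iff.2 (Subgroup.mem_centralizer_iff.1 (hR.le hy) x hx)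
  refine ⟨Q, K, hK, hxo ▸ Subgroup.orderOf_dvd_natCard K (hK.mem x hxC ?_)⟩
  rw [hxo]
  exact fun hd => hpq ((Nat.prime_dvd_prime_iff_eq (Fact.out : q.Prime) (Fact.out : p.Prime)).1 hd).symm

theorem seven_no_eleven [Fact (Nat.Prime 7)] (hG : IsM23 G) {P : Sylow 7 G} {H : Subgroup G} (hR : Reg P H) :
    ¬ 11 ∣ Nat.card H := by
  intro h11
  have hP : Nat.card P = 7 := card_sylow_prime hG (by decide) P
  obtain ⟨B⟩ := exists_BL (by norm_num) P hP (two_le_e hG P hP)
  have h := List.all_eq_true.1 options7_eleven _ (mem_options_of hG (by norm_num) P hP hR)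
  simp only [Bool.or_eq_true, Bool.and_eq_true, beq_iff_eq, bne_iff_ne] at h
  have h0 := Nat.mod_eq_zero_of_dvd h11
  have h23 : Nat.card H % 23 ≠ 0 := fun h =>
    not_dvd23_reg hG (by norm_num) hP hR (Nat.dvd_of_mod_eq_zero h)
  rcases h with ((h | h) | ⟨h2, he, hn⟩) | h
  · exact h h0
  · exact h23 h
  · obtain ⟨t, htH, ht⟩ := exists_order Nat.prime_two (Nat.dvd_of_mod_eq_zero h2)
    have hk : B.ys.length = 2 := by have := B.len_ys; rw [he] at this; omega
    refine false_of_rows hG (by norm_num) hP hR B ht htH (fun χ => dg_mem23 hG) he rfl hk (by norm_num) ?_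
    refine List.all_eq_true.2 fun C hC => ?_
    exact List.all_eq_true.1 (List.all_eq_true.1 seven_rows C hC) _ (by rcases hn with e | e <;> rw [e] <;> simp)
  · exact false_of_noDeg hG B (fun χ => dg_mem23 hG) rfl rfl (fun χ hχ => two_le_dg hG (B.xs_ne_triv hχ))
      (e_le hG B (by norm_num)) h

variable {P : Sylow p G} {H : Subgroup G}

/-- The count of pairs is at most the order of the centraliser. -/
theorem pairCount_le_cc [Fintype H] (hR : Reg P H) (hP : Nat.card P = p) {x : G} (hx : x ∈ (P : Subgroup G))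
    {t : G} (ht : orderOf t = 2) (h : H) : pairCount t t (x * h) ≤ cc x := by
  rw [pairCount]
  obtain ⟨m, hm1, hm2⟩ := exists_exponent hR hP hx h
  have key : ∀ a : G, IsConj t a → IsConj t (a⁻¹ * (x * h)) → a * a = 1 ∧ a * x * a⁻¹ = x⁻¹ := fun a ha hb =>
    inverts_of_pair ht ht ha hb (Subgroup.mem_centralizer_iff.mp (hR.le h.2) x hx) hm1 hm2
  rcases isEmpty_or_nonempty {a : G // IsConj t a ∧ IsConj t (a⁻¹ * (x * h))} with e | ⟨⟨a0, ha0, hb0⟩⟩
  · rw [Nat.card_of_isEmpty]; exact Nat.zero_le _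
  refine Nat.card_le_card_of_injective (fun a => ⟨a0⁻¹ * a.1, Subgroup.mem_centralizer_singleton_iff.2 ?_⟩) ?_
  · obtain ⟨-, h1⟩ := key a.1 a.2.1 a.2.2
    obtain ⟨-, h2⟩ := key a0 ha0 hb0
    have e : a.1 * x * a.1⁻¹ = a0 * x * a0⁻¹ := h1.trans h2.symm
    calc a0⁻¹ * a.1 * x = a0⁻¹ * (a.1 * x * a.1⁻¹) * a.1 := by group
      _ = x * (a0⁻¹ * a.1) := by rw [e]; group
  · intro a b hab
    exact Subtype.ext (mul_left_cancel (congrArg Subtype.val hab))

theorem eleven_two [Fintype H] [Fact (Nat.Prime 11)] (hG : IsM23 G) {P : Sylow 11 G} (hR : Reg P H) (B : BL P)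
    (he : inIdx P = 2) {t : G} (ht : orderOf t = 2) (htH : t ∈ H) {a f : ℕ}
    (ha : B.xs.map (fun χ : IrrCharacter G => dg χ) = [a]) (hf : B.f = f)
    (h : (a = 23 ∧ f = 24) ∨ ((a = 45 ∧ f = 46) ∧ Nat.card H = 8)) : False := by
  classical
  have hP : Nat.card P = 11 := card_sylow_prime hG (by decide) P
  obtain ⟨χ, hχl⟩ : ∃ χ, B.xs = [χ] := List.length_eq_one_iff.1 (by have := B.len_xs; omega)
  obtain ⟨η, hη⟩ := B.exists_eta
  obtain ⟨x, hx, hx1⟩ := CfsgLib.SmallSylow.exists_mem_ne P hP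
  have hxo := CfsgLib.SmallSylow.orderOf_mem P hP hx hx1
  have hχ : χ ∈ B.xs := by rw [hχl]; simp
  have hd : dg χ = a := by simpa [hχl] using ha
  have htC := hR.le htH
  obtain ⟨v, hv, -, hlo, -, hlt⟩ := involution_int hG χ ht
  obtain ⟨w, hw, -⟩ := involution_int hG η ht
  have hmod := value_mod hG (by norm_num) hP B ht htC hχ hv
  have hlt' := hlt (B.xs_ne_triv hχ)
  have hne : v ≠ -(dg χ : ℤ) := fun e => neg_degree_ne hG (B.xs_ne_triv hχ) (inv_ne_one ht) (by
    rw [hv, e]; push_cast; ring)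
  have hno : ¬ 11 ∣ orderOf t := by rw [ht]; norm_num
  have hsgn : sgn 11 (dg χ) = 1 ∧ sgE 11 (inIdx P) B.f = -1 := by
    rcases h with ⟨rfl, rfl⟩ | ⟨⟨rfl, rfl⟩, -⟩ <;> simp [hd, hf, he, sgn, sgE]
  have hrel := B.rel η hη t hno
  have hcount := avg_count hR hP B hx hx1 hG hno hno hη
  rw [hχl] at hrel hcount
  simp only [List.map_cons, List.map_nil, List.sum_cons, List.sum_nil, add_zero, hsgn.1, hsgn.2, hv, hw,
    Int.cast_one, Int.cast_neg] at hrel hcount
  have hw' : w = 1 + v := by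
    have : ((w : ℤ) : ℂ) = ((1 + v : ℤ) : ℂ) := by push_cast; linear_combination -hrel
    exact_mod_cast this
  rw [hd, hf, hw'] at hcount
  push_cast at hcount
  have inv_bound : ∀ h : H, pairCount t t (x * h) ≠ 0 → 0 ≤ (dg χ : ℤ) + 10 + 11 * v := fun y hy => by
    rw [pairCount] at hy
    obtain ⟨⟨s, hs1, hs2⟩⟩ := (Nat.card_ne_zero.1 hy).1
    obtain ⟨m, hm1, hm2⟩ := exists_exponent hR hP hx y
    obtain ⟨e1, e2⟩ := inverts_of_pair ht ht hs1 hs2 (Subgroup.mem_centralizer_iff.mp (hR.le y.2) x hx) hm1 hm2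
    have := dihedral_ge χ hxo (by norm_num) e1 e2 (c := 1) (v := v) (fun i hi => ?_) ?_
    · simpa using this
    · have := B.valX χ hχ _ (Subgroup.pow_mem _ hx i.val) (pow_val_ne_one hxo hi) 1 (Subgroup.one_mem _)
        (by rw [orderOf_one]; norm_num)
      rw [mul_one, hsgn.1] at this
      exact this
    · obtain ⟨c, rfl⟩ := isConj_iff.1 hs1
      rw [CfsgSimpleM11.irr_conjInv, hv]
  set S := ∑ y : H, pairCount t t (x * y) with hSdef
  have hS : ((S : ℕ) : ℂ) = ∑ y : H, (pairCount t t (x * y) : ℂ) := by rw [hSdef, Nat.cast_sum]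
  rw [← hS] at hcount
  by_cases hS0 : S = 0
  · rw [hS0] at hcount
    simp only [Nat.cast_zero, zero_mul] at hcount
    rw [eq_comm, mul_eq_zero] at hcount
    have h0 := hcount.resolve_left (mul_ne_zero (by norm_num) (Nat.cast_ne_zero.2 Nat.card_pos.ne'))
    rw [hd] at hmod hlt' hlo hne
    rcases h with ⟨rfl, rfl⟩ | ⟨⟨rfl, rfl⟩, -⟩
    · have : v = -21 := by push_cast at hmod; omega
      rw [this] at h0
      norm_num at h0
    · have : v = 1 ∨ v = -43 := by push_cast at hmod; omega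
      rcases this with e | e <;> rw [e] at h0 <;> norm_num at h0
  obtain ⟨y, -, hy⟩ := Finset.exists_ne_zero_of_sum_ne_zero hS0
  have hb := inv_bound y hy
  rw [hd] at hmod hlt' hlo hne hb
  rcases h with ⟨rfl, rfl⟩ | ⟨⟨rfl, rfl⟩, hH⟩
  · push_cast at hmod; omega
  have hv1 : v = 1 := by push_cast at hmod; omega
  rw [hv1, hH] at hcount
  have hSC : S * cc t * cc t = 76324864 := by
    have : ((S * cc t * cc t : ℕ) : ℂ) = ((76324864 : ℕ) : ℂ) := by
      push_cast at hcount ⊢
      rw [hcount]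
      norm_num
    exact_mod_cast this
  have hxC : x ∈ Subgroup.centralizer ((P : Subgroup G) : Set G) := by
    rw [← (CfsgLib.Blocks.DefectOne.setup_sylow P hP).star x hx hx1]
    exact Subgroup.mem_centralizer_singleton_iff.2 rfl
  have hccx : cc x = 88 := by
    rw [cc, (CfsgLib.Blocks.DefectOne.setup_sylow P hP).star x hx hx1]
    exact (hR.card.symm.trans (by rw [hH]))
  have hSle : S ≤ 704 := by
    refine (Finset.sum_le_card_nsmul _ _ 88 fun z _ => hccx ▸ pairCount_le_cc hR hP hx ht z).trans ?_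
    rw [Finset.card_univ, ← Nat.card_eq_fintype_card, hH]
    norm_num
  have h22 := two_p_dvd_cc (p := 11) (by norm_num) hP ht htC
  obtain ⟨k, hk⟩ := h22
  have hk2 : k ∣ 32 ∧ 15 ≤ k := by
    rw [hk] at hSC
    have h1 : S * (k * k) = 157696 := by nlinarith
    constructor
    · have h2 : k * k ∣ 157696 := Dvd.intro_left S h1
      have h3 : k ≤ 397 := by
        have := Nat.le_of_dvd (by norm_num) h2
        nlinarith
      have h4 : ∀ k ∈ Finset.range 398, 157696 % (k * k) = 0 → 32 % k = 0 := by decide +kernel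
      exact Nat.dvd_of_mod_eq_zero (h4 k (Finset.mem_range.2 (by omega)) (Nat.mod_eq_zero_of_dvd h2))
    · by_contra hk15
      have : k * k ≤ 14 * 14 := Nat.mul_le_mul (by omega) (by omega)
      nlinarith
  have hk16 : k = 16 ∨ k = 32 := by
    have := Nat.le_of_dvd (by norm_num) hk2.1
    have h4 : ∀ k ∈ Finset.range 33, 32 % k = 0 → 15 ≤ k → k = 16 ∨ k = 32 := by decide
    exact h4 k (Finset.mem_range.2 (by omega)) (Nat.mod_eq_zero_of_dvd hk2.1) hk2.2
  -- the Sylow subgroup is normal in the centraliser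
  set K := Subgroup.centralizer ({t} : Set G) with hK
  have hcK : Nat.card K = 352 ∨ Nat.card K = 704 := by
    have : Nat.card K = 2 * 11 * k := hk
    omega
  have hxK : x ∈ K := Subgroup.mem_centralizer_singleton_iff.2 (Subgroup.mem_centralizer_iff.mp htC x hx)
  have hX : (P : Subgroup G) ≤ K := fun z hz =>
    Subgroup.mem_centralizer_singleton_iff.2 (Subgroup.mem_centralizer_iff.mp htC z hz)
  haveI : Fintype K := Fintype.ofFinite K
  let Q : Sylow 11 K := P.subtype hX
  have hQ : Nat.card Q = 11 := by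
    rw [show Nat.card Q = Nat.card ((P : Subgroup G).subgroupOf K) from rfl,
      Nat.card_congr (Subgroup.subgroupOfEquivOfLe hX).toEquiv]
    exact hP
  have hone : Nat.card (Sylow 11 K) = 1 := by
    have h1 : Nat.card (Sylow 11 K) % 11 = 1 := card_sylow_modEq_one 11 K
    have h2 : Nat.card (Sylow 11 K) ∣ (Q : Subgroup K).index := Q.card_dvd_index
    have h3 : (Q : Subgroup K).index ∣ 64 := by
      have := (Q : Subgroup K).card_mul_index
      rw [show Nat.card (Q : Subgroup K) = 11 from hQ] at this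
      rcases hcK with e | e <;> rw [e] at this
      · exact ⟨2, by omega⟩
      · exact ⟨1, by omega⟩
    have h4 : ∀ m ∈ Finset.range 65, 64 % m = 0 → m % 11 = 1 → m = 1 := by decide
    exact h4 _ (Finset.mem_range.2 (Nat.lt_succ_of_le (Nat.le_of_dvd (by norm_num) (h2.trans h3))))
      (Nat.mod_eq_zero_of_dvd (h2.trans h3)) h1
  haveI : Subsingleton (Sylow 11 K) := (Nat.card_eq_one_iff_unique.1 hone).1
  have hnorm : ((P : Subgroup G).subgroupOf K).Normal := Sylow.normal_of_subsingleton Q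
  have hle : K ≤ Subgroup.normalizer ((P : Subgroup G) : Set G) :=
    (Subgroup.normal_subgroupOf_iff_le_normalizer hX).1 hnorm
  have hNle := Subgroup.card_le_of_le hle
  have hN : Nat.card (Subgroup.normalizer ((P : Subgroup G) : Set G)) = 176 := by
    have h1 := Subgroup.card_mul_index
      ((Subgroup.centralizer ((P : Subgroup G) : Set G)).subgroupOf (Subgroup.normalizer ((P : Subgroup G) : Set G)))
    rw [Nat.card_congr (Subgroup.subgroupOfEquivOfLe (Subgroup.centralizer_le_normalizer _)).toEquiv, ← hR.card,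
      hH] at h1
    rw [← h1]
    show 11 * 8 * inIdx P = 176
    rw [he]
  omega

/-- A Sylow subgroup of order 11 is self-centralising, with inertial index 5. -/
theorem eleven [Fact (Nat.Prime 11)] (hG : IsM23 G) (P : Sylow 11 G) :
    inIdx P = 5 ∧ Nat.card (Sylow 11 G) = 185472 ∧
      Subgroup.centralizer ((P : Subgroup G) : Set G) = (P : Subgroup G) := by
  classical
  haveI : Fact (Nat.Prime 7) := ⟨by norm_num⟩
  have hP : Nat.card P = 11 := card_sylow_prime hG (by decide) P
  obtain ⟨H, hR⟩ := exists_reg P hP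
  haveI := Fintype.ofFinite H
  obtain ⟨B⟩ := exists_BL (by norm_num) P hP (two_le_e hG P hP)
  have h7 : Nat.card H % 7 ≠ 0 := fun h => by
    obtain ⟨Q, K, hK, hd⟩ := reg_symm hG (q := 7) (by norm_num) (by decide) hP hR (Nat.dvd_of_mod_eq_zero h)
    exact seven_no_eleven hG hK hd
  have h23 : Nat.card H % 23 ≠ 0 := fun h =>
    not_dvd23_reg hG (by norm_num) hP hR (Nat.dvd_of_mod_eq_zero h)
  have h := List.all_eq_true.1 options11 _ (mem_options_of hG (by norm_num) P hP hR)
  simp only [Bool.or_eq_true, beq_iff_eq, Prod.mk.injEq] at h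
  have hD : ∀ χ : IrrCharacter G, χ ≠ triv G → dg χ ∈ degs23 := fun χ => dg_mem23 hG
  have hlo : ∀ {t : G}, orderOf t = 2 → t ∈ H → ∀ χ ∈ B.xs, 22 ≤ dg χ := fun ht htH χ hχ =>
    lo_le hG (by norm_num) hP B ht (hR.le htH) hχ
  have htwo : ∀ {t : G}, orderOf t = 2 → t ∈ H → inIdx P = 2 → ∀ {n : ℕ}, Nat.card (Sylow 11 G) = n →
      ∀ {L : List (List ℕ × ℕ)}, degLists degs23 11 2 n 22 = L →
        (∀ l ∈ L, l = ([23], 24) ∨ (l = ([45], 46) ∧ Nat.card H = 8)) → False := by
    intro t ht htH he n hn L hL hall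
    obtain ⟨xs', hperm, hl⟩ := exists_list B hD (hlo ht htH)
    rw [he, hn, hL] at hl
    have hlen : B.xs.length = 1 := by have := B.len_xs; omega
    obtain ⟨χ, hχ⟩ := List.length_eq_one_iff.1 hlen
    rw [hχ, List.perm_singleton] at hperm
    rw [hperm] at hl
    simp only [List.map_cons, List.map_nil] at hl
    rcases hall _ hl with e | ⟨e, hH⟩
    · simp only [Prod.mk.injEq] at e
      exact eleven_two hG hR B he ht htH (by rw [hχ, List.map_cons, List.map_nil]; exact e.1) e.2
        (Or.inl ⟨rfl, rfl⟩)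
    · simp only [Prod.mk.injEq] at e
      exact eleven_two hG hR B he ht htH (by rw [hχ, List.map_cons, List.map_nil]; exact e.1) e.2
        (Or.inr ⟨⟨rfl, rfl⟩, hH⟩)
  rcases h with (((((⟨he, hn, hH⟩ | h) | h) | ⟨he, hn, hH⟩) | ⟨he, hn, hH⟩) | ⟨he, hn, hH⟩) | h
  · refine ⟨he, hn, (Subgroup.eq_of_le_of_card_ge ?_ ?_).symm⟩
    · exact le_centralizer_of_prime P hP
    · rw [← hR.card, hH, show Nat.card (P : Subgroup G) = 11 from hP]
  · exact absurd h h7
  · exact absurd h h23
  · obtain ⟨t, htH, ht⟩ := exists_order Nat.prime_two (show 2 ∣ Nat.card H by rw [hH]; norm_num)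
    exact (htwo ht htH he hn lists8 (fun l hl => by
      simp only [List.mem_cons, List.not_mem_nil, or_false] at hl
      rcases hl with rfl | rfl
      · exact Or.inr ⟨rfl, hH⟩
      · exact Or.inl rfl)).elim
  · obtain ⟨t, htH, ht⟩ := exists_order Nat.prime_two (show 2 ∣ Nat.card H by rw [hH]; norm_num)
    exact (htwo ht htH he hn lists30 (by simp)).elim
  · obtain ⟨t, htH, ht⟩ := exists_order Nat.prime_two (show 2 ∣ Nat.card H by rw [hH]; norm_num)
    exact (false_of_rows hG (by norm_num) hP hR B ht htH hD he hn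
      (show B.ys.length = 2 by have := B.len_ys; rw [he] at this; omega) (by norm_num) eleven_rows).elim
  · exact (false_of_noDeg hG B hD rfl rfl (fun χ hχ => two_le_dg hG (B.xs_ne_triv hχ))
      (e_le hG B (by norm_num)) h).elim

end CfsgSimpleM23
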