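/-
Simple groups of order 10200960: the degrees allowed by the primes eleven and twenty-three.
-/
import Cfsg.Agent.Lib.SimpleM23.Eleven
import Cfsg.Agent.Lib.CharTheory.ThreeDegrees

set_option autoImplicit false
set_option linter.style.haveILetI false
set_option linter.unusedSectionVars false

namespace CfsgSimpleM23

open Cfsg CfsgLib.CharTheory CfsgSimpleM11
open CfsgSimpleM22 (cc BL exists_BL sgn)
open CfsgLib.SmallSylow (inIdx)
open scoped ComplexConjugate

universe u
variable {G : Type u} [Group G] [Fintype G]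

/-- The degrees of nontrivial characters allowed by the primes eleven and twenty-three. -/
def degs11 : List ℕ :=
  degs23.filter fun d => (d % 11 == 0) || ((927360 % d == 0) && [1, 10, 5, 6].contains (d % 11))

/-- The degrees of nontrivial characters. -/
def degsD : List ℕ := degs11.filter fun d => (d != 11) && (d != 12)

/-- The block and its generator at the prime eleven. -/
theorem eleven_data (hG : IsM23 G) [Fact (Nat.Prime 11)] :
    ∃ (P : Sylow 11 G) (B : BL P) (y : G), inIdx P = 5 ∧ Nat.card (Sylow 11 G) = 185472 ∧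
      Subgroup.centralizer ((P : Subgroup G) : Set G) = (P : Subgroup G) ∧ y ∈ (P : Subgroup G) ∧ y ≠ 1 := by
  obtain ⟨P⟩ := (inferInstance : Nonempty (Sylow 11 G))
  have hP : Nat.card P = 11 := card_sylow_prime hG (by decide) P
  obtain ⟨he, hn, hC⟩ := eleven hG P
  obtain ⟨B⟩ := exists_BL (by norm_num) P hP (two_le_e hG P hP)
  obtain ⟨y, hy, hy1⟩ := CfsgLib.SmallSylow.exists_mem_ne P hP
  exact ⟨P, B, y, he, hn, hC, hy, hy1⟩

theorem dg_mem11 (hG : IsM23 G) {χ : IrrCharacter G} (hne : χ ≠ triv G) : dg χ ∈ degs11 := by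
  haveI : Fact (Nat.Prime 11) := ⟨by norm_num⟩
  obtain ⟨P, B, -, he, hn, hC, -, -⟩ := eleven_data hG
  refine List.mem_filter.2 ⟨dg_mem23 hG hne, ?_⟩
  simp only [Bool.or_eq_true, Bool.and_eq_true, beq_iff_eq, List.contains_iff_mem]
  by_cases hd : 11 ∣ dg χ
  · exact Or.inl (Nat.mod_eq_zero_of_dvd hd)
  right
  rcases List.mem_cons.1 (B.mem_of_not_dvd hC hd) with e | h
  · exact absurd e hne
  rcases List.mem_append.1 h with h | h
  · refine ⟨Nat.mod_eq_zero_of_dvd ?_, ?_⟩
    · have := B.dvdX χ h; rwa [he, hn] at this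
    · rcases B.modX χ h with e | e <;> simp [e]
  · refine ⟨Nat.mod_eq_zero_of_dvd ?_, ?_⟩
    · have := B.dvdY; rw [he, hn] at this; rwa [B.degY χ h]
    · rw [B.degY χ h]
      rcases B.modf with e | e <;> simp [e, he]

/-- The sums of small degrees. -/
theorem small_sum (s : Finset (IrrCharacter G)) (c : IrrCharacter G → ℕ)
    (hD : ∀ φ ∈ s, c φ ≠ 0 → dg φ ∈ degs11) :
    ∀ r, ∑ φ ∈ s, c φ * dg φ = r → r ≤ 28 → r ∈ ([0, 11, 12, 22, 23, 24] : List ℕ) := by
  classical
  have hcl : ∀ r ∈ ([0, 11, 12, 22, 23, 24] : List ℕ), ∀ d ∈ degs11.filter (fun d => decide (d ≤ 28)),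
      r + d ≤ 28 → r + d ∈ ([0, 11, 12, 22, 23, 24] : List ℕ) := by decide +kernel
  induction s using Finset.induction_on with
  | empty => intro r hr _; simp [← hr]
  | insert a s ha ih =>
    intro r hr hr28
    rw [Finset.sum_insert ha] at hr
    have ih' := ih (fun φ hφ => hD φ (Finset.mem_insert_of_mem hφ)) _ rfl (by omega)
    suffices ∀ k, k ≤ c a → k * dg a + ∑ φ ∈ s, c φ * dg φ ∈ ([0, 11, 12, 22, 23, 24] : List ℕ) by
      have := this (c a) le_rfl; rwa [hr] at this
    intro k hk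
    induction k with
    | zero => rwa [zero_mul, zero_add]
    | succ k ihk =>
      have hle : (k + 1) * dg a ≤ c a * dg a := Nat.mul_le_mul_right _ hk
      have h1 := hcl _ (ihk (by omega)) (dg a) (List.mem_filter.2 ⟨hD a (Finset.mem_insert_self a s) (by omega),
        decide_eq_true (by rw [add_mul, one_mul] at hle; omega)⟩) (by rw [add_mul, one_mul] at hle; omega)
      rwa [show k * dg a + ∑ φ ∈ s, c φ * dg φ + dg a = (k + 1) * dg a + ∑ φ ∈ s, c φ * dg φ by ring] at h1

theorem small_product (hG : IsM23 G) {χ : IrrCharacter G} (hd : dg χ = 11 ∨ dg χ = 12) :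
    dg χ = 12 ∧ ∃ c : IrrCharacter G → ℕ, (∑ φ ∈ Finset.univ.erase (triv G), c φ * dg φ = 143) ∧
      ∀ φ ∈ Finset.univ.erase (triv G), c φ ≠ 0 → dg φ = 11 ∨ dg φ = 22 := by
  classical
  haveI : Fact (Nat.Prime 11) := ⟨by norm_num⟩
  obtain ⟨P, B, y, he, hn, hC, hy, hy1⟩ := eleven_data hG
  have hne : χ ≠ triv G := fun e => by rw [e, dg_triv] at hd; omega
  have h1 : ¬ 11 ∣ orderOf (1 : G) := by rw [orderOf_one]; norm_num
  have hval : ∀ φ : IrrCharacter G, 11 ∣ dg φ ∨ dg φ % 11 = 1 →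
      (φ : G → ℂ) y = ((if dg φ % 11 = 1 then 1 else 0 : ℕ) : ℂ) := by
    intro φ hφ
    by_cases hin : φ ∈ B.chars
    · have hnd := B.not_dvd_dg (by norm_num) (by rw [he]; norm_num) hin
      have hm := hφ.resolve_left hnd
      rw [if_pos hm]
      rcases List.mem_cons.1 hin with e | h
      · rw [e, triv_apply, Nat.cast_one]
      rcases List.mem_append.1 h with h | h
      · have := B.valX φ h y hy hy1 1 (Subgroup.one_mem _) h1
        rw [mul_one, show sgn 11 (dg φ) = 1 by simp [sgn, hm]] at this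
        simpa using this
      · have := B.modf
        rw [← B.degY φ h, he, hm] at this
        omega
    · obtain ⟨h0, hd⟩ := B.closed hC φ hin
      rw [h0 y hy hy1, if_neg (by have := Nat.mod_eq_zero_of_dvd hd; omega), Nat.cast_zero]
  have hF : IsCharacter G ((χ : G → ℂ) * fun g => conj ((χ : G → ℂ) g)) :=
    isCharacter_mul (isCharacter_of_irr χ.2) (isCharacter_conj (isCharacter_of_irr χ.2))
  obtain ⟨c, hc, hg, hdeg⟩ := ThreeDegrees.decomp hF
  have hF1 : ((χ : G → ℂ) * fun g => conj ((χ : G → ℂ) g)) 1 = ((dg χ * dg χ : ℕ) : ℂ) := by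
    simp [irr_degree, dg]
  have hsum := hdeg _ hF1
  have hc1 : c (triv G) = 1 := by
    have e := hc (triv G)
    simp only [classInner, Pi.mul_apply, triv_apply, map_one, mul_one] at e
    rw [sum_mul_conj_irr χ.2, inv_mul_cancel₀ (Nat.cast_ne_zero.2 Nat.card_pos.ne')] at e
    exact_mod_cast e.symm
  rw [← Finset.add_sum_erase _ _ (Finset.mem_univ (triv G)), hc1, one_mul] at hsum
  change dg (triv G) + ∑ φ ∈ Finset.univ.erase (triv G), c φ * dg φ = dg χ * dg χ at hsum
  rw [dg_triv] at hsum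
  set s := Finset.univ.erase (triv G) with hs
  have hD : ∀ φ ∈ s, c φ ≠ 0 → dg φ ∈ degs11 := fun φ hφ _ => dg_mem11 hG (Finset.ne_of_mem_erase hφ)
  have h143 : ∑ φ ∈ s, c φ * dg φ ≤ 143 := by rcases hd with e | e <;> rw [e] at hsum <;> omega
  have hlist : ∀ d ∈ degs11, d ≤ 143 → (d % 11 = 0 ∨ d % 11 = 1) ∨ d = 115 ∨ d = 126 ∨ d = 138 := by
    decide +kernel
  have hlist0 : ∀ d ∈ degs11, d ≤ 143 → d % 11 = 0 → d = 11 ∨ d = 22 := by decide +kernel
  have hrest : ∀ φ ∈ s, c φ ≠ 0 → dg φ ≠ 115 ∧ dg φ ≠ 126 ∧ dg φ ≠ 138 := by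
    intro φ hφ hcφ
    rw [← Finset.add_sum_erase _ _ hφ] at hsum h143
    have h2 : dg φ ≤ c φ * dg φ := Nat.le_mul_of_pos_left _ (Nat.pos_of_ne_zero hcφ)
    have hsmall := small_sum _ c (fun ψ hψ => hD ψ (Finset.mem_of_mem_erase hψ)) _
      (rfl : ∑ ψ ∈ s.erase φ, c ψ * dg ψ = _)
    refine ⟨fun e => ?_, fun e => ?_, fun e => ?_⟩
    all_goals
      have hcc : c φ = 1 := by
        rw [e] at h2 hsum h143
        rcases Nat.lt_or_ge (c φ) 2 with h | h
        · omega
        · omega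
      rw [hcc, one_mul, e] at hsum h143
      have := hsmall (by omega)
      simp only [List.mem_cons, List.not_mem_nil, or_false] at this
      rcases hd with e' | e' <;> rw [e'] at hsum <;> omega
  have hv : ∀ φ ∈ s, (c φ : ℂ) * (φ : G → ℂ) y = ((if dg φ % 11 = 1 then c φ else 0 : ℕ) : ℂ) := by
    intro φ hφ
    by_cases hcφ : c φ = 0
    · simp [hcφ]
    have hle : dg φ ≤ 143 := le_trans (Nat.le_mul_of_pos_left _ (Nat.pos_of_ne_zero hcφ))
      (le_trans (Finset.single_le_sum (f := fun ψ => c ψ * dg ψ) (fun _ _ => Nat.zero_le _) hφ) h143)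
    have hr := hrest φ hφ hcφ
    rw [hval φ ((hlist _ (hD φ hφ hcφ) hle).elim (fun h => h.imp Nat.dvd_of_mod_eq_zero id) (fun h => by omega))]
    split_ifs <;> simp
  have hy' := hg y
  rw [← Finset.add_sum_erase _ _ (Finset.mem_univ (triv G)), hc1, triv_apply, Finset.sum_congr rfl hv,
    ← Nat.cast_sum, Pi.mul_apply] at hy'
  have hdvd : 11 ∣ dg χ ∨ dg χ % 11 = 1 := by rcases hd with e | e <;> rw [e] <;> norm_num
  rw [hval χ hdvd, Complex.conj_natCast] at hy'
  have hy2 : (if dg χ % 11 = 1 then 1 else 0) * (if dg χ % 11 = 1 then 1 else 0) =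
      1 + ∑ φ ∈ s, (if dg φ % 11 = 1 then c φ else 0) := by
    have : (((if dg χ % 11 = 1 then 1 else 0) * (if dg χ % 11 = 1 then 1 else 0) : ℕ) : ℂ) =
        ((1 + ∑ φ ∈ s, (if dg φ % 11 = 1 then c φ else 0) : ℕ) : ℂ) := by
      rw [Nat.cast_mul, Nat.cast_add, hy', Nat.cast_one, mul_one]
    exact_mod_cast this
  rcases hd with e | e
  · rw [e, if_neg (by norm_num)] at hy2; omega
  rw [e] at hy2 hsum
  refine ⟨e, c, by omega, fun φ hφ hcφ => ?_⟩
  have hz : ∑ φ ∈ s, (if dg φ % 11 = 1 then c φ else 0) = 0 := by simpa using hy2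
  have hle : dg φ ≤ 143 := le_trans (Nat.le_mul_of_pos_left _ (Nat.pos_of_ne_zero hcφ))
    (le_trans (Finset.single_le_sum (f := fun ψ => c ψ * dg ψ) (fun _ _ => Nat.zero_le _) hφ) h143)
  have hr := hrest φ hφ hcφ
  rcases hlist _ (hD φ hφ hcφ) hle with (h | h) | h
  · exact hlist0 _ (hD φ hφ hcφ) hle h
  · have := (Finset.sum_eq_zero_iff.1 hz) φ hφ
    rw [if_pos h] at this
    exact absurd this hcφ
  · omega

theorem no_eleven (hG : IsM23 G) (χ : IrrCharacter G) : dg χ ≠ 11 := fun h => by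
  obtain ⟨h', -⟩ := small_product hG (Or.inl h)
  omega

theorem no_twelve (hG : IsM23 G) (χ : IrrCharacter G) : dg χ ≠ 12 := fun h => by
  obtain ⟨-, c, hsum, hc⟩ := small_product hG (Or.inr h)
  have : 2 ∣ 143 := hsum ▸ Finset.dvd_sum fun φ hφ => by
    rcases eq_or_ne (c φ) 0 with e | e
    · rw [e, zero_mul]; exact dvd_zero 2
    · rcases hc φ hφ e with e' | e'
      · exact absurd e' (no_eleven hG φ)
      · rw [e']; exact Dvd.dvd.mul_left (by norm_num) _
  norm_num at this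

theorem dg_memD (hG : IsM23 G) {χ : IrrCharacter G} (hne : χ ≠ triv G) : dg χ ∈ degsD :=
  List.mem_filter.2 ⟨dg_mem11 hG hne, by simp [no_eleven hG χ, no_twelve hG χ]⟩

end CfsgSimpleM23
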