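/-
Simple groups of order 10200960: the principal block at the prime five, and the one at eleven.
-/
import Cfsg.Agent.Lib.SimpleM23.Degrees

set_option autoImplicit false
set_option linter.style.haveILetI false
set_option linter.unusedSectionVars false

namespace CfsgSimpleM23

open Cfsg CfsgLib.CharTheory CfsgSimpleM11
open CfsgSimpleM22 (cc BL exists_BL)
open CfsgLib.SmallSylow (inIdx)

universe u
variable {G : Type u} [Group G] [Fintype G]

/-- The degrees in a block: the non-exceptional ones, then the exceptional ones. -/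
def blockDegs (k : ℕ) (l : List ℕ × ℕ) : List ℕ := l.1 ++ List.replicate k l.2

/-- The lists at the prime eleven. -/
def lists11 : List (List ℕ × ℕ) := degLists degsD 11 5 185472 2

/-- Degrees prime to eleven fit in a list at the prime eleven. -/
def fits11 (L : List ℕ) : Bool :=
  lists11.any fun a => L.all fun d => (d % 11 == 0) || decide (L.count d ≤ (blockDegs 2 a).count d)

theorem options5 : (options 5).all (fun o => (o == (4, 170016, 3)) || (o.2.2 % 11 == 0) || (o.2.2 % 23 == 0) ||
    (degLists degsD 5 o.1 o.2.1 2).all fun l => !(fits11 (blockDegs (4 / o.1) l))) = true := by decide +kernel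

theorem lists5 : (degLists degsD 5 4 170016 2).all (fun l => !(fits11 (blockDegs 1 l)) ||
    decide (List.Perm (blockDegs 1 l) [231, 896, 896, 2024])) = true := by decide +kernel

theorem lists11_two : lists11.all (fun a => decide ((blockDegs 2 a).count 896 < 2) ||
    ((a.2 == 896) && (decide (List.Perm a.1 [45, 45, 1035, 230]) || decide (List.Perm a.1 [483, 45, 45, 1288]))))
    = true := by decide +kernel

/-- Distinct characters of one degree all lying in a list are no more than those in the list. -/
theorem count_le {l m : List (IrrCharacter G)} (hl : l.Nodup) {d : ℕ} (h : ∀ χ ∈ l, dg χ = d → χ ∈ m) :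
    (l.map fun χ : IrrCharacter G => dg χ).count d ≤ (m.map fun χ : IrrCharacter G => dg χ).count d := by
  classical
  rw [List.count_eq_countP, List.count_eq_countP, List.countP_map, List.countP_map, List.countP_eq_length_filter,
    List.countP_eq_length_filter]
  refine ((hl.filter _).subperm fun χ hχ => ?_).length_le
  rw [List.mem_filter] at hχ ⊢
  exact ⟨h χ hχ.1 (by simpa using hχ.2), hχ.2⟩

variable {p : ℕ} [Fact p.Prime]

theorem degs_block {P : Sylow p G} (B : BL P) {k : ℕ} (hk : B.ys.length = k) :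
    ((B.xs ++ B.ys).map fun χ : IrrCharacter G => dg χ) =
      blockDegs k (B.xs.map (fun χ : IrrCharacter G => dg χ), B.f) := by
  rw [List.map_append, blockDegs]
  congr 1
  rw [List.map_congr_left (g := fun _ => B.f) fun η hη => B.degY η hη, List.map_const', hk]

theorem nodup_block {P : Sylow p G} (B : BL P) : (B.xs ++ B.ys).Nodup := (List.nodup_cons.1 B.nodup).2

/-- The block at the prime eleven is one of the lists. -/
theorem mem_lists11 [Fact (Nat.Prime 11)] (hG : IsM23 G) {P : Sylow 11 G} (B : BL P) :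
    ∃ a ∈ lists11, a.2 = B.f ∧ List.Perm a.1 (B.xs.map fun χ : IrrCharacter G => dg χ) := by
  obtain ⟨xs', hperm, hl⟩ := exists_list B (fun χ => dg_memD hG) (fun χ hχ => two_le_dg hG (B.xs_ne_triv hχ))
  obtain ⟨he, hn, -⟩ := eleven hG P
  rw [he, hn] at hl
  exact ⟨_, hl, rfl, hperm.map _⟩

theorem ys_two [Fact (Nat.Prime 11)] (hG : IsM23 G) {P : Sylow 11 G} (B : BL P) : B.ys.length = 2 := by
  obtain ⟨he, -, -⟩ := eleven hG P
  have := B.len_ys
  rw [he] at this
  omega

/-- Distinct characters of degree prime to eleven fit in a list at the prime eleven. -/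
theorem fits_of_nodup (hG : IsM23 G) {l : List (IrrCharacter G)} (hl : l.Nodup) (hne : triv G ∉ l) :
    fits11 (l.map fun χ : IrrCharacter G => dg χ) = true := by
  haveI : Fact (Nat.Prime 11) := ⟨by norm_num⟩
  obtain ⟨P, B, -, he, hn, hC, -, -⟩ := eleven_data hG
  obtain ⟨a, ha, hf, hperm⟩ := mem_lists11 hG B
  refine List.any_eq_true.2 ⟨a, ha, List.all_eq_true.2 fun d _ => ?_⟩
  simp only [Bool.or_eq_true, beq_iff_eq, decide_eq_true_eq]
  by_cases hd : d % 11 = 0
  · exact Or.inl hd
  refine Or.inr ?_
  have hmem : ∀ χ ∈ l, dg χ = d → χ ∈ B.xs ++ B.ys := fun χ hχ e => by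
    rcases List.mem_cons.1 (B.mem_of_not_dvd hC (χ := χ) fun h => hd (by rw [← e]; exact Nat.mod_eq_zero_of_dvd h))
      with h | h
    · exact absurd (h ▸ hχ) hne
    · exact h
  refine (count_le hl hmem).trans (le_of_eq ?_)
  rw [degs_block B (ys_two hG B)]
  exact (List.Perm.append (hperm.symm) (by rw [hf])).count_eq d

theorem five [Fact (Nat.Prime 5)] (hG : IsM23 G) (P : Sylow 5 G) :
    inIdx P = 4 ∧ Nat.card (Sylow 5 G) = 170016 ∧
      Nat.card (Subgroup.centralizer ((P : Subgroup G) : Set G)) = 15 ∧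
      ∀ B : BL P, List.Perm ((B.xs ++ B.ys).map fun χ : IrrCharacter G => dg χ) [231, 896, 896, 2024] := by
  classical
  haveI : Fact (Nat.Prime 11) := ⟨by norm_num⟩
  have hP : Nat.card P = 5 := card_sylow_prime hG (by decide) P
  obtain ⟨H, hR⟩ := exists_reg P hP
  obtain ⟨B0⟩ := exists_BL (by norm_num) P hP (two_le_e hG P hP)
  have h := List.all_eq_true.1 options5 _ (mem_options_of hG (by norm_num) P hP hR)
  simp only [Bool.or_eq_true, beq_iff_eq, Prod.mk.injEq, List.all_eq_true, Bool.not_eq_true'] at h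
  have h11 : Nat.card H % 11 ≠ 0 := fun h => by
    obtain ⟨Q, K, hK, hd⟩ := reg_symm hG (q := 11) (by norm_num) (by decide) hP hR (Nat.dvd_of_mod_eq_zero h)
    obtain ⟨-, -, hC⟩ := eleven hG Q
    have := hK.card
    rw [hC, show Nat.card (Q : Subgroup G) = 11 from card_sylow_prime hG (by decide) Q] at this
    have : Nat.card K = 1 := by omega
    rw [this] at hd
    norm_num at hd
  have h23 : Nat.card H % 23 ≠ 0 := fun h => not_dvd23_reg hG (by norm_num) hP hR (Nat.dvd_of_mod_eq_zero h)
  have hfit : ∀ (B : BL P) (k : ℕ), B.ys.length = k → ∃ l ∈ degLists degsD 5 (inIdx P) (Nat.card (Sylow 5 G)) 2,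
      fits11 (blockDegs k l) = true ∧
        List.Perm ((B.xs ++ B.ys).map fun χ : IrrCharacter G => dg χ) (blockDegs k l) := by
    intro B k hk
    obtain ⟨xs', hperm, hl⟩ := exists_list B (fun χ => dg_memD hG) (fun χ hχ => two_le_dg hG (B.xs_ne_triv hχ))
    refine ⟨_, hl, ?_, ?_⟩
    · have hp2 : (xs' ++ B.ys).Perm (B.xs ++ B.ys) := hperm.append_right B.ys
      have h := fits_of_nodup hG (hp2.nodup_iff.2 (nodup_block B)) (fun h =>
        (List.nodup_cons.1 B.nodup).1 (hp2.subset h))
      rw [List.map_append, List.map_congr_left (l := B.ys) (g := fun _ => B.f) fun η hη => B.degY η hη,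
        List.map_const', hk] at h
      exact h
    · rw [degs_block B hk]
      exact List.Perm.append_right _ (hperm.map _).symm
  rcases h with ((⟨he, hn, hH⟩ | h) | h) | h
  · refine ⟨he, hn, ?_, fun B => ?_⟩
    · rw [← hR.card, hH]
    · obtain ⟨l, hl, hf, hperm⟩ := hfit B 1 (by have := B.len_ys; rw [he] at this; omega)
      rw [he, hn] at hl
      have h5 := List.all_eq_true.1 lists5 l hl
      rw [hf] at h5
      simp only [Bool.not_true, Bool.false_or, decide_eq_true_eq] at h5
      exact hperm.trans h5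
  · exact absurd h h11
  · exact absurd h h23
  · exfalso
    have hlen : B0.ys.length = 4 / inIdx P := by
      rw [← Nat.mul_div_cancel B0.ys.length (CfsgSimpleM22.inIdx_pos P), B0.len_ys]
    obtain ⟨l, hl, hf, -⟩ := hfit B0 _ hlen
    have := h l hl
    rw [hf] at this
    exact Bool.noConfusion this

/-- The characters of the degrees in the block at the prime five. -/
theorem exists_five_chars (hG : IsM23 G) :
    ∃ a b c d : IrrCharacter G, [a, b, c, d].Nodup ∧ dg a = 231 ∧ dg b = 896 ∧ dg c = 896 ∧ dg d = 2024 := by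
  haveI : Fact (Nat.Prime 5) := ⟨by norm_num⟩
  obtain ⟨P⟩ := (inferInstance : Nonempty (Sylow 5 G))
  obtain ⟨he, -, -, hperm⟩ := five hG P
  obtain ⟨B⟩ := exists_BL (by norm_num) P (card_sylow_prime hG (by decide) P)
    (two_le_e hG P (card_sylow_prime hG (by decide) P))
  obtain ⟨l, hl, hmap⟩ := CfsgSimpleM22.exists_map_perm (f := fun χ : IrrCharacter G => dg χ) (hperm B).symm
  have hnd : l.Nodup := hl.nodup_iff.2 (nodup_block B)
  rcases l with _ | ⟨a, _ | ⟨b, _ | ⟨c, _ | ⟨d, _ | ⟨e, r⟩⟩⟩⟩⟩ <;> simp at hmap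
  obtain ⟨h1, h2, h3, h4⟩ := hmap
  exact ⟨a, b, c, d, hnd, h1, h2, h3, h4⟩

/-- The block at the prime eleven. -/
theorem eleven_lists [Fact (Nat.Prime 11)] (hG : IsM23 G) {P : Sylow 11 G} (B : BL P) :
    B.f = 896 ∧ (List.Perm (B.xs.map fun χ : IrrCharacter G => dg χ) [45, 45, 1035, 230] ∨
      List.Perm (B.xs.map fun χ : IrrCharacter G => dg χ) [483, 45, 45, 1288]) := by
  obtain ⟨a, ha, hf, hperm⟩ := mem_lists11 hG B
  obtain ⟨a₀, b, c, d₀, hnd, -, hb, hc, -⟩ := exists_five_chars hG
  obtain ⟨-, -, hC⟩ := eleven hG P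
  have hbc : [b, c].Nodup := by
    simp only [List.nodup_cons, List.mem_cons, List.not_mem_nil, or_false, List.nodup_nil] at hnd ⊢
    tauto
  have h2 := count_le (d := 896) hbc (m := B.xs ++ B.ys) fun χ _ e => by
    rcases List.mem_cons.1 (B.mem_of_not_dvd hC (χ := χ) (by rw [e]; norm_num)) with h | h
    · rw [h, dg_triv] at e; norm_num at e
    · exact h
  rw [degs_block B (ys_two hG B)] at h2
  have h := List.all_eq_true.1 lists11_two a ha
  simp only [Bool.or_eq_true, Bool.and_eq_true, beq_iff_eq, decide_eq_true_eq] at h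
  rcases h with h | ⟨h896, h⟩
  · exfalso
    have e : (blockDegs 2 a).count 896 = (blockDegs 2 (B.xs.map fun χ : IrrCharacter G => dg χ, B.f)).count 896 :=
      (List.Perm.append hperm (by rw [hf])).count_eq _
    simp only [List.map_cons, List.map_nil, hb, hc] at h2
    simp only [List.count_cons, List.count_nil] at h2
    norm_num at h2
    omega
  · exact ⟨hf ▸ h896, h.imp hperm.symm.trans hperm.symm.trans⟩

end CfsgSimpleM23
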