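/-
Simple groups of order 10200960: joining the blocks at the primes eleven and twenty-three.
-/
import Cfsg.Agent.Lib.SimpleM23.Five

set_option autoImplicit false
set_option linter.style.haveILetI false
set_option linter.unusedSectionVars false

namespace CfsgSimpleM23

open Cfsg CfsgLib.CharTheory CfsgSimpleM11
open CfsgSimpleM22 (cc BL exists_BL)
open CfsgLib.SmallSylow (inIdx)

universe u
variable {G : Type u} [Group G] [Fintype G]

/-- The degrees possible in the block at the prime twenty-three. -/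
def degsB : List ℕ := degsD.filter fun d => (d % 11 == 0) || [45, 896, 230, 1035, 483, 1288].contains d

/-- The degrees of the nontrivial characters of the block at the prime eleven. -/
def listsA : List (List ℕ) := [[45, 45, 1035, 230, 896, 896], [483, 45, 45, 1288, 896, 896]]

/-- The degrees of the characters of degree prime to `253`. -/
def udegs (A C : List ℕ) : List ℕ := A ++ C.filter fun d => d % 11 == 0

/-- The sum of the squares. -/
def sumSq (L : List ℕ) : ℕ := (L.map fun d => d * d).sum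

/-- The two blocks fit. -/
def okJoin (A C : List ℕ) : Bool :=
  (C.all fun d => (d % 11 == 0) || (A.count d == C.count d)) &&
  (A.all fun d => (d % 23 == 0) || (A.count d == C.count d)) &&
  C.contains 231 && decide (64 * 64009 + sumSq (udegs A C) ≤ 10200959) &&
  ((10200959 - sumSq (udegs A C)) % 64009 == 0)

/-- The possible pairs of blocks at eleven and twenty-three. -/
def joins : List (List ℕ × (List ℕ × ℕ)) :=
  listsA.flatMap fun A => ((degLists degsB 23 11 40320 2).filter fun b => okJoin A (blockDegs 2 b)).map fun b => (A, b)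

/-- The degrees of the characters of degree prime to `253` in a join. -/
def joinU (j : List ℕ × (List ℕ × ℕ)) : List ℕ := udegs j.1 (blockDegs 2 j.2)

/-- The sum of the squares of the other degrees, divided by `253 ^ 2`. -/
def joinR (j : List ℕ × (List ℕ × ℕ)) : ℕ := (10200959 - sumSq (joinU j)) / 64009

/-- The data from the blocks at eleven and twenty-three. -/
structure Frame (G : Type u) [Group G] [Fintype G] [Fact (Nat.Prime 11)] [Fact (Nat.Prime 23)]
    {P : Sylow 11 G} (A : BL P) {Q : Sylow 23 G} (B : BL Q) (j : List ℕ × (List ℕ × ℕ))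
    (U : List (IrrCharacter G)) : Prop where
  mem : j ∈ joins
  degA : ((A.xs ++ A.ys).map fun χ : IrrCharacter G => dg χ).Perm j.1
  degB : (B.xs.map fun χ : IrrCharacter G => dg χ).Perm j.2.1
  fB : B.f = j.2.2
  nodup : U.Nodup
  memU : ∀ χ, χ ∈ U ↔ χ ≠ triv G ∧ ¬ 253 ∣ dg χ
  degU : (U.map fun χ : IrrCharacter G => dg χ).Perm (joinU j)
  sq : ∑ χ ∈ Finset.univ.filter (fun χ : IrrCharacter G => 253 ∣ dg χ), (dg χ / 253) ^ 2 = joinR j

theorem twenty_three_ys [Fact (Nat.Prime 23)] (hG : IsM23 G) {Q : Sylow 23 G} (B : BL Q) : B.ys.length = 2 := by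
  obtain ⟨he, -, -⟩ := twenty_three hG Q
  have := B.len_ys
  rw [he] at this
  omega

theorem exists_frame [Fact (Nat.Prime 11)] [Fact (Nat.Prime 23)] (hG : IsM23 G) {P : Sylow 11 G} (A : BL P)
    {Q : Sylow 23 G} (B : BL Q) : ∃ j U, Frame G A B j U := by
  classical
  obtain ⟨he, -, hC⟩ := eleven hG P
  obtain ⟨he', hn', hC'⟩ := twenty_three hG Q
  set la := A.xs ++ A.ys with hla
  set lb := B.xs ++ B.ys with hlb
  obtain ⟨hf, hAperm⟩ := eleven_lists hG A
  obtain ⟨AL, hAL, hAp⟩ : ∃ AL ∈ listsA, (la.map fun χ : IrrCharacter G => dg χ).Perm AL := by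
    rw [hla, degs_block A (ys_two hG A), hf]
    rcases hAperm with h | h
    · exact ⟨_, by simp [listsA], List.Perm.append_right _ h⟩
    · exact ⟨_, List.mem_cons_of_mem _ List.mem_cons_self, List.Perm.append_right _ h⟩
  have hAne : ∀ χ ∈ la, χ ≠ triv G ∧ ¬ 11 ∣ dg χ := fun χ hχ =>
    ⟨fun e => (List.nodup_cons.1 A.nodup).1 (e ▸ hχ),
      A.not_dvd_dg (by norm_num) (by rw [he]; norm_num) (List.mem_cons_of_mem _ hχ)⟩
  have hBne : ∀ χ ∈ lb, χ ≠ triv G ∧ ¬ 23 ∣ dg χ := fun χ hχ =>
    ⟨fun e => (List.nodup_cons.1 B.nodup).1 (e ▸ hχ),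
      B.not_dvd_dg (by norm_num) (by rw [he']; norm_num) (List.mem_cons_of_mem _ hχ)⟩
  have hmemA : ∀ χ, χ ≠ triv G → ¬ 11 ∣ dg χ → χ ∈ la := fun χ hne h =>
    (List.mem_cons.1 (A.mem_of_not_dvd hC h)).resolve_left hne
  have hmemB : ∀ χ, χ ≠ triv G → ¬ 23 ∣ dg χ → χ ∈ lb := fun χ hne h =>
    (List.mem_cons.1 (B.mem_of_not_dvd hC' h)).resolve_left hne
  have hDB : ∀ χ ∈ lb, dg χ ∈ degsB := fun χ hχ => by
    refine List.mem_filter.2 ⟨dg_memD hG (hBne χ hχ).1, ?_⟩
    simp only [Bool.or_eq_true, beq_iff_eq, List.contains_iff_mem]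
    by_cases hd : 11 ∣ dg χ
    · exact Or.inl (Nat.mod_eq_zero_of_dvd hd)
    · have hm : dg χ ∈ AL := hAp.subset (List.mem_map_of_mem (hmemA χ (hBne χ hχ).1 hd))
      simp only [listsA, List.mem_cons, List.not_mem_nil, or_false] at hAL
      rcases hAL with rfl | rfl <;> simp only [List.mem_cons, List.not_mem_nil, or_false] at hm ⊢ <;> tauto
  obtain ⟨lB, hlB, hBp, hBf⟩ : ∃ lB ∈ degLists degsB 23 11 40320 2,
      (B.xs.map fun χ : IrrCharacter G => dg χ).Perm lB.1 ∧ lB.2 = B.f := by
    obtain ⟨η, hη⟩ := B.exists_eta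
    have hmem : ∀ d ∈ B.xs.map (fun χ : IrrCharacter G => dg χ), d ∈ candX degsB 23 11 40320 2 := by
      intro d hd
      obtain ⟨χ, hχ, rfl⟩ := List.mem_map.1 hd
      simp only [candX, List.mem_filter, Bool.and_eq_true, Bool.or_eq_true, beq_iff_eq, decide_eq_true_eq]
      have := B.dvdX χ hχ
      rw [he', hn'] at this
      exact ⟨hDB χ (List.mem_append_left _ hχ), ⟨Nat.mod_eq_zero_of_dvd this, two_le_dg hG (B.xs_ne_triv hχ)⟩,
        B.modX χ hχ⟩
    obtain ⟨D', hD', hperm⟩ := CfsgSimpleM22.exists_mem_multis hmem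
    rw [List.length_map, show B.xs.length = 10 by have := B.len_xs; omega] at hD'
    refine ⟨(D', B.f), List.mem_flatMap.2 ⟨D', hD', List.mem_map.2 ⟨B.f, List.mem_filter.2 ⟨?_, ?_⟩, rfl⟩⟩,
      hperm.symm, rfl⟩
    · simp only [candY, List.mem_filter, Bool.and_eq_true, Bool.or_eq_true, beq_iff_eq]
      have h1 := B.dvdY
      have h2 := B.modf
      rw [he', hn'] at h1
      rw [he'] at h2
      exact ⟨B.degY η hη ▸ hDB η (List.mem_append_right _ hη), Nat.mod_eq_zero_of_dvd h1, h2⟩
    · rw [CfsgSimpleM22.sumX_perm 23 hperm, beq_iff_eq]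
      have := degree_rel B
      rwa [he'] at this
  have hBp' : (lb.map fun χ : IrrCharacter G => dg χ).Perm (blockDegs 2 lB) := by
    rw [hlb, degs_block B (twenty_three_ys hG B)]
    exact List.Perm.append hBp (by rw [hBf])
  set C := blockDegs 2 lB with hCdef
  set U := la ++ lb.filter (fun χ => decide (11 ∣ dg χ)) with hU
  have hUnd : U.Nodup := by
    rw [hU, List.nodup_append']
    exact ⟨nodup_block A, (nodup_block B).filter _, fun χ h1 h2 =>
      (hAne χ h1).2 (of_decide_eq_true (List.mem_filter.1 h2).2)⟩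
  have hUmem : ∀ χ, χ ∈ U ↔ χ ≠ triv G ∧ ¬ 253 ∣ dg χ := by
    intro χ
    rw [hU, List.mem_append, List.mem_filter, decide_eq_true_eq]
    constructor
    · rintro (h | ⟨h, -⟩)
      · exact ⟨(hAne χ h).1, fun h' => (hAne χ h).2 ((show 11 ∣ 253 by norm_num).trans h')⟩
      · exact ⟨(hBne χ h).1, fun h' => (hBne χ h).2 ((show 23 ∣ 253 by norm_num).trans h')⟩
    · rintro ⟨h1, h2⟩
      by_cases h : 11 ∣ dg χ
      · exact Or.inr ⟨hmemB χ h1 fun h' => h2 ((show Nat.Coprime 11 23 by norm_num).mul_dvd_of_dvd_of_dvd h h'), h⟩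
      · exact Or.inl (hmemA χ h1 h)
  have hUdeg : (U.map fun χ : IrrCharacter G => dg χ).Perm (udegs AL C) := by
    rw [hU, List.map_append, udegs]
    refine List.Perm.append hAp ?_
    have e : (lb.filter fun χ => decide (11 ∣ dg χ)).map (fun χ : IrrCharacter G => dg χ) =
        (lb.map fun χ : IrrCharacter G => dg χ).filter fun d => d % 11 == 0 := by
      rw [List.filter_map]
      congr 1
      refine List.filter_congr fun χ _ => ?_
      simp only [Function.comp, Nat.dvd_iff_mod_eq_zero]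
      exact Bool.eq_iff_iff.2 (by simp)
    rw [e]
    exact hBp'.filter _
  have hcount : ∀ d, ¬ 11 ∣ d → ¬ 23 ∣ d → AL.count d = C.count d := by
    intro d h1 h2
    rw [← hAp.count_eq, ← hBp'.count_eq]
    refine le_antisymm (count_le (nodup_block A) fun χ hχ e => hmemB χ (hAne χ hχ).1 (e ▸ h2))
      (count_le (nodup_block B) fun χ hχ e => hmemA χ (hBne χ hχ).1 (e ▸ h1))
  have hsum : 1 + sumSq (udegs AL C) +
      ∑ χ ∈ Finset.univ.filter (fun χ : IrrCharacter G => 253 ∣ dg χ), dg χ ^ 2 = 10200960 := by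
    rw [← sum_dg_sq hG, ← Finset.sum_filter_add_sum_filter_not Finset.univ (fun χ : IrrCharacter G => 253 ∣ dg χ)
      (fun χ => dg χ ^ 2), add_comm (∑ χ ∈ Finset.univ.filter (fun χ : IrrCharacter G => 253 ∣ dg χ), dg χ ^ 2)]
    congr 1
    have hs : Finset.univ.filter (fun χ : IrrCharacter G => ¬ 253 ∣ dg χ) = insert (triv G) U.toFinset := by
      ext χ
      simp only [Finset.mem_filter, Finset.mem_univ, true_and, Finset.mem_insert, List.mem_toFinset, hUmem]
      constructor
      · intro h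
        by_cases e : χ = triv G
        · exact Or.inl e
        · exact Or.inr ⟨e, h⟩
      · rintro (rfl | ⟨-, h⟩)
        · rw [dg_triv]; norm_num
        · exact h
    rw [hs, Finset.sum_insert (fun h => ((hUmem _).1 (List.mem_toFinset.1 h)).1 rfl), dg_triv, one_pow,
      List.sum_toFinset _ hUnd, sumSq, ← (hUdeg.map fun d => d * d).sum_eq, List.map_map]
    congr 2
    exact List.map_congr_left fun χ _ => (sq _).symm
  set S := ∑ χ ∈ Finset.univ.filter (fun χ : IrrCharacter G => 253 ∣ dg χ), (dg χ / 253) ^ 2 with hS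
  have hS' : ∑ χ ∈ Finset.univ.filter (fun χ : IrrCharacter G => 253 ∣ dg χ), dg χ ^ 2 = 64009 * S := by
    rw [hS, Finset.mul_sum]
    refine Finset.sum_congr rfl fun χ hχ => ?_
    obtain ⟨k, hk⟩ := (Finset.mem_filter.1 hχ).2
    rw [hk, Nat.mul_div_cancel_left _ (by norm_num)]
    ring
  obtain ⟨a, b, c, d, -, ha, -, -, hd⟩ := exists_five_chars hG
  have hS64 : 64 ≤ S := by
    have h1 : d ∈ Finset.univ.filter (fun χ : IrrCharacter G => 253 ∣ dg χ) :=
      Finset.mem_filter.2 ⟨Finset.mem_univ _, by rw [hd]; norm_num⟩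
    have := Finset.single_le_sum (f := fun χ : IrrCharacter G => (dg χ / 253) ^ 2) (fun _ _ => Nat.zero_le _) h1
    simp only [hd] at this
    exact this
  rw [hS'] at hsum
  refine ⟨(AL, lB), U, ⟨?_, hAp, hBp, hBf.symm, hUnd, hUmem, hUdeg, ?_⟩⟩
  · refine List.mem_flatMap.2 ⟨AL, hAL, List.mem_map.2 ⟨lB, List.mem_filter.2 ⟨hlB, ?_⟩, rfl⟩⟩
    simp only [okJoin, Bool.and_eq_true, List.all_eq_true, Bool.or_eq_true, beq_iff_eq, List.contains_iff_mem,
      decide_eq_true_eq]
    refine ⟨⟨⟨⟨fun x hx => ?_, fun x hx => ?_⟩, ?_⟩, by rw [← hCdef]; omega⟩, ?_⟩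
    · by_cases h : x % 11 = 0
      · exact Or.inl h
      · obtain ⟨χ, hχ, rfl⟩ := List.mem_map.1 (hBp'.symm.subset hx)
        exact Or.inr (hcount _ (fun h' => h (Nat.mod_eq_zero_of_dvd h')) (hBne χ hχ).2)
    · by_cases h : x % 23 = 0
      · exact Or.inl h
      · obtain ⟨χ, hχ, rfl⟩ := List.mem_map.1 (hAp.symm.subset hx)
        exact Or.inr (hcount _ (hAne χ hχ).2 fun h' => h (Nat.mod_eq_zero_of_dvd h'))
    · refine hBp'.subset ?_
      rw [← ha]
      exact List.mem_map_of_mem (hmemB a (fun e => by rw [e, dg_triv] at ha; norm_num at ha) (by rw [ha]; norm_num))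
    · rw [← hCdef, show 10200959 - sumSq (udegs AL C) = 64009 * S by omega, Nat.mul_mod_right]
  · show S = (10200959 - sumSq (udegs AL C)) / 64009
    rw [show 10200959 - sumSq (udegs AL C) = 64009 * S by omega, Nat.mul_div_cancel_left _ (by norm_num)]

end CfsgSimpleM23
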