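/-
Simple groups of order 10200960: the column at an involution in the block at the prime eleven.
-/
import Cfsg.Agent.Lib.SimpleM23.Join

set_option autoImplicit false
set_option linter.style.haveILetI false
set_option linter.unusedSectionVars false

namespace CfsgSimpleM23

open Cfsg CfsgLib.CharTheory CfsgSimpleM11
open CfsgSimpleM22 (cc BL exists_BL ival ival_eq)
open CfsgLib.SmallSylow (inIdx)

universe u
variable {G : Type u} [Group G] [Fintype G]

/-- The possible orders of centralisers of involutions. -/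
def cents8 : List ℕ := divs.filter fun C => (8064 % C == 0) && (C % 2 == 0)

theorem rows11 : cents8.all (fun C => (rows 11 5 2 4 C [483, 45, 45, 1288] 896 true).isEmpty &&
    (rows 11 5 2 4 C [45, 45, 1035, 230] 896 true).all fun r =>
      [896, 1344, 2688].contains C && ((r == [-3, -3, 27, 22, 0] && (C != 896)) ||
        ((C == 896) && (r == [-3, 5, 19, 22, 0] || r == [5, -3, 19, 22, 0])))) = true := by decide +kernel

theorem not_dvd11_cc (hG : IsM23 G) {g : G} (hg : ¬ orderOf g ∣ 11) : ¬ 11 ∣ cc g := fun h => by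
  haveI : Fact (Nat.Prime 11) := ⟨by norm_num⟩
  obtain ⟨x, hx, hxo⟩ := exists_order (by norm_num) h
  obtain ⟨P, hP⟩ := (IsPGroup.of_card (n := 1) (by rw [Nat.card_zpowers, hxo, pow_one]) :
    IsPGroup 11 (Subgroup.zpowers x)).exists_le_sylow
  have hcard : Nat.card P = 11 := card_sylow_prime hG (by decide) P
  have hx1 : x ≠ 1 := fun e => by rw [e, orderOf_one] at hxo; norm_num at hxo
  obtain ⟨-, -, hC⟩ := eleven hG P
  have hg' : g ∈ Subgroup.centralizer ((P : Subgroup G) : Set G) := by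
    rw [← (CfsgLib.Blocks.DefectOne.setup_sylow P hcard).star x (hP (Subgroup.mem_zpowers x)) hx1]
    exact Subgroup.mem_centralizer_singleton_iff.2 (Subgroup.mem_centralizer_singleton_iff.1 hx).symm
  rw [hC] at hg'
  exact hg (hcard ▸ Subgroup.orderOf_dvd_natCard _ hg')

theorem orderOf_dvd_five (hG : IsM23 G) {x g : G} (hx : orderOf x = 5) (hc : g * x = x * g) : orderOf g ∣ 15 := by
  haveI : Fact (Nat.Prime 5) := ⟨by norm_num⟩
  obtain ⟨P, hP⟩ := (IsPGroup.of_card (n := 1) (by rw [Nat.card_zpowers, hx, pow_one]) :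
    IsPGroup 5 (Subgroup.zpowers x)).exists_le_sylow
  have hcard : Nat.card P = 5 := card_sylow_prime hG (by decide) P
  have hx1 : x ≠ 1 := fun e => by rw [e, orderOf_one] at hx; norm_num at hx
  obtain ⟨-, -, hC, -⟩ := five hG P
  rw [← hC]
  refine Subgroup.orderOf_dvd_natCard _ ?_
  rw [← (CfsgLib.Blocks.DefectOne.setup_sylow P hcard).star x (hP (Subgroup.mem_zpowers x)) hx1]
  exact Subgroup.mem_centralizer_singleton_iff.2 hc

theorem cc_dvd8064 (hG : IsM23 G) {t : G} (ht : orderOf t = 2) : cc t ∣ 8064 := by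
  have h := cc_dvd hG t
  have c23 := not_dvd23_cc hG (g := t) (by rw [ht]; norm_num)
  have c11 := not_dvd11_cc hG (g := t) (by rw [ht]; norm_num)
  have c5 : ¬ 5 ∣ cc t := fun h5 => by
    obtain ⟨x, hx, hxo⟩ := exists_order (by norm_num) h5
    have := orderOf_dvd_five hG hxo (g := t) (Subgroup.mem_centralizer_singleton_iff.1 hx).symm
    rw [ht] at this
    norm_num at this
  refine Nat.Coprime.dvd_of_dvd_mul_right ?_ (show cc t ∣ 8064 * 1265 from h)
  have k23 := (Nat.Prime.coprime_iff_not_dvd (by norm_num)).2 c23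
  have k11 := (Nat.Prime.coprime_iff_not_dvd (by norm_num)).2 c11
  have k5 := (Nat.Prime.coprime_iff_not_dvd (by norm_num)).2 c5
  exact ((k5.mul_left k11).mul_left k23).symm

theorem cc_mem8 (hG : IsM23 G) {t : G} (ht : orderOf t = 2) : cc t ∈ cents8 := by
  refine List.mem_filter.2 ⟨mem_divs (cc_dvd hG t), ?_⟩
  simp only [Bool.and_eq_true, beq_iff_eq]
  exact ⟨Nat.mod_eq_zero_of_dvd (cc_dvd8064 hG ht),
    Nat.mod_eq_zero_of_dvd (ht ▸ Subgroup.orderOf_dvd_natCard _ (Subgroup.mem_centralizer_singleton_iff.2 rfl))⟩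

/-- The values at an involution in the block at eleven. -/
theorem inv_row [Fact (Nat.Prime 11)] (hG : IsM23 G) {P : Sylow 11 G} (A : BL P) {t : G} (ht : orderOf t = 2) :
    ((A.xs ++ A.ys).map fun χ : IrrCharacter G => dg χ).Perm [45, 45, 1035, 230, 896, 896] ∧
    (cc t = 896 ∨ cc t = 1344 ∨ cc t = 2688) ∧ (∀ η ∈ A.ys, ival η t = 0) ∧
    ∀ χ ∈ A.xs, (dg χ = 230 → ival χ t = 22) ∧ (dg χ = 1035 → cc t = 896 → ival χ t = 19) ∧
      (dg χ = 1035 → cc t ≠ 896 → ival χ t = 27) ∧ (dg χ = 45 → cc t ≠ 896 → ival χ t = -3) := by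
  classical
  have hP : Nat.card P = 11 := card_sylow_prime hG (by decide) P
  obtain ⟨he, -, -⟩ := eleven hG P
  obtain ⟨H, hR⟩ := exists_reg P hP
  haveI := Fintype.ofFinite H
  obtain ⟨x, hx, hx1⟩ := CfsgLib.SmallSylow.exists_mem_ne P hP
  obtain ⟨η, hη⟩ := A.exists_eta
  obtain ⟨hf, hperm⟩ := eleven_lists hG A
  have h4 : ∀ χ ∈ A.xs, ((4 : ℕ) : ℤ) ∣ ival χ t - dg χ := fun χ _ => four_dvd_ival hG χ ht
  have hrow : ∀ l : List ℕ, (A.xs.map fun χ : IrrCharacter G => dg χ).Perm l →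
      ∃ xs' : List (IrrCharacter G), xs'.Perm A.xs ∧ xs'.map (fun χ : IrrCharacter G => dg χ) = l ∧
        (xs'.map fun χ : IrrCharacter G => ival χ t) ++ [ival η t] ∈ rows 11 5 2 4 (cc t) l 896 true := by
    intro l hl
    obtain ⟨xs', h1, h2⟩ := CfsgSimpleM22.exists_map_perm (f := fun χ : IrrCharacter G => dg χ) hl.symm
    have hm := row_mem hR hP A hx hx1 hG (by norm_num) ht (q := 4) (by norm_num) h4 true
      (fun _ => by rw [he]) h1 hη
    rw [he, ys_two hG A, hf, h2] at hm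
    exact ⟨xs', h1, h2, hm⟩
  have hall := List.all_eq_true.1 rows11 _ (cc_mem8 hG ht)
  simp only [Bool.and_eq_true, List.isEmpty_iff, List.all_eq_true, Bool.or_eq_true, List.contains_iff_mem,
    beq_iff_eq, bne_iff_ne] at hall
  rcases hperm with hl | hl
  swap
  · obtain ⟨xs', -, -, hm⟩ := hrow _ hl
    rw [hall.1] at hm
    exact absurd hm List.not_mem_nil
  obtain ⟨xs', h1, h2, hm⟩ := hrow _ hl
  obtain ⟨hC, hr⟩ := hall.2 _ hm
  simp only [List.mem_cons, List.not_mem_nil, or_false] at hC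
  rcases xs' with _ | ⟨a, _ | ⟨b, _ | ⟨c, _ | ⟨d, _ | ⟨e, r⟩⟩⟩⟩⟩ <;> simp at h2
  obtain ⟨ha, hb, hc, hd⟩ := h2
  simp only [List.map_cons, List.map_nil, List.cons_append, List.nil_append, List.cons.injEq, and_true] at hr
  refine ⟨?_, hC, fun η' hη' => ?_, fun χ hχ => ?_⟩
  · rw [degs_block A (ys_two hG A), blockDegs, hf]
    exact hl.append_right _
  · have h := A.agree η' hη' η hη t (by rw [ht]; norm_num)
    rw [ival_inv hG η' ht, ival_inv hG η ht] at h
    rw [show ival η' t = ival η t by exact_mod_cast h]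
    omega
  · have := h1.symm.subset hχ
    simp only [List.mem_cons, List.not_mem_nil, or_false] at this
    rcases this with rfl | rfl | rfl | rfl <;> (refine ⟨?_, ?_, ?_, ?_⟩ <;> omega)

end CfsgSimpleM23
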