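/-
Simple groups of order 10200960: searches at the prime seven.
-/
import Cfsg.Agent.Lib.SimpleM23.InvRow

set_option autoImplicit false

namespace CfsgSimpleM23

/-- Distinct nontrivial characters with these degrees fit in a join. -/
def fitsJ (L : List ℕ) (j : List ℕ × (List ℕ × ℕ)) : Bool :=
  (L.all fun d => (d % 253 == 0) || decide (L.count d ≤ (joinU j).count d)) &&
  decide ((L.map fun d => if d % 253 == 0 then (d / 253) ^ 2 else 0).sum + (if L.contains 2024 then 0 else 64) ≤ joinR j)

/-- The blocks at seven with six rational characters. -/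
def lists6 : List (List ℕ × ℕ) :=
  [([253, 253, 253, 1035, 22], 253), ([253, 253, 253, 253, 22], 1035), ([253, 253, 253, 253, 1035], 22)]

/-- The blocks at seven with three rational characters. -/
def lists3 : List (List ℕ × ℕ) := [([22, 22], 45), ([1035, 2024], 990)]

/-- The joins with the block at eleven of degrees 45, 45, 1035, 230, 896, 896. -/
def joins1 : List (List ℕ × (List ℕ × ℕ)) :=
  [([45, 45, 1035, 230, 896, 896], ([231, 45, 45, 22, 22, 22, 990, 990, 896, 896], 264)),
   ([45, 45, 1035, 230, 896, 896], ([231, 231, 45, 45, 990, 990, 528, 528, 896, 896], 495)),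
   ([45, 45, 1035, 230, 896, 896], ([231, 231, 45, 45, 22, 22, 22, 990, 896, 896], 495)),
   ([45, 45, 1035, 230, 896, 896], ([231, 231, 231, 45, 45, 990, 990, 528, 896, 896], 264)),
   ([45, 45, 1035, 230, 896, 896], ([231, 231, 231, 45, 45, 22, 990, 990, 896, 896], 770)),
   ([45, 45, 1035, 230, 896, 896], ([231, 231, 231, 231, 45, 45, 990, 528, 896, 896], 495)),
   ([45, 45, 1035, 230, 896, 896], ([231, 231, 231, 231, 231, 45, 45, 990, 896, 896], 264)),
   ([45, 45, 1035, 230, 896, 896], ([231, 231, 231, 231, 231, 231, 45, 45, 896, 896], 495))]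

/-- The join that survives. -/
def join0 : List ℕ × (List ℕ × ℕ) :=
  ([45, 45, 1035, 230, 896, 896], ([231, 231, 231, 45, 45, 22, 990, 990, 896, 896], 770))

theorem options7 : (options 7).all (fun o => (o.2.2 % 5 == 0) || (o.2.2 % 11 == 0) || (o.2.2 % 23 == 0) ||
    (degLists degsD 7 o.1 o.2.1 2).all fun l =>
      (joins.all fun j => !(fitsJ (blockDegs (6 / o.1) l) j)) ||
        ((o.1 == 6) && [1, 8, 64].contains o.2.2 && lists6.contains l) ||
        ((o.1 == 3) && [2, 16].contains o.2.2 && lists3.contains l)) = true := by decide +kernel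

theorem joins_45 : joins.all (fun j => (joinU j).contains 45) = true := by decide +kernel

theorem rows7_six : [896, 1344, 2688].all (fun C => lists6.all fun l => (rows 7 6 1 28 C l.1 l.2 false).all fun r =>
    ((C == 2688) && ((l.1 ++ [l.2]).zip r).contains (22, -6)) ||
      ((C == 896) && ((l.1 ++ [l.2]).zip r).contains (1035, -1))) = true := by decide +kernel

theorem rows7_three : [896, 1344, 2688].all (fun C => (rows 7 3 2 28 C [22, 22] 45 true).isEmpty &&
    (rows 7 3 2 28 C [1035, 2024] 990 true).all fun r => (C == 2688) && (r == [27, 8, -18])) = true := by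
  decide +kernel

/-- The possible values at an involution with centraliser of order 2688, tabulated. -/
def domT (d : ℕ) : List ℤ :=
  if d == 22 then [-18, -14, -10, -6, -2, 2, 6, 10, 14, 18]
  else if d == 231 then [-49, -21, 7, 35]
  else if d == 990 then [-42, -30, -18, -6, 6, 18, 30, 42]
  else if d == 495 then [-45, -33, -21, -9, 3, 15, 27, 39, 51]
  else if d == 264 then [-48, -40, -32, -24, -16, -8, 0, 8, 16, 24, 32, 40, 48]
  else if d == 770 then [-42, -14, 14, 42]
  else dom 4 2688 d

theorem domT_eq (d : ℕ) : domT d = dom 4 2688 d := by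
  unfold domT
  split_ifs with h1 h2 h3 h4 h5 h6
  all_goals first
    | rfl
    | (simp only [beq_iff_eq] at *; subst d; decide +kernel)

/-- The values in the block at twenty-three forced by the others. -/
def dm23 (three : Bool) (d : ℕ) : List ℤ :=
  if d == 45 then [-3] else if d == 896 then [0] else if three && (d == 990) then [-18] else domT d

/-- The first slots when a character of degree 22 takes the value `-6`. -/
def fixed6 : List (ℕ × List ℤ) := [(45, [-3]), (45, [-3]), (896, [0]), (896, [0]), (22, [-6])]

/-- The other degrees. -/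
def rest6 (l : List ℕ) : List ℕ := ((((l.erase 45).erase 45).erase 896).erase 896).erase 22

theorem joins_first : joins.all (fun j => joins1.contains j || (j.1 != [45, 45, 1035, 230, 896, 896] &&
    !(decide (List.Perm j.1 [45, 45, 1035, 230, 896, 896])))) = true := by decide +kernel

theorem rows23_six : joins1.all (fun j => !(fitsJ [253, 253, 253, 253, 22, 1035] j) ||
    (rowsP 23 11 2 (fixed6 ++ (rest6 j.2.1).map fun d => (d, domT d)) (domT j.2.2) (2688 - 1 - 484 - 729)
      j.2.2 true).isEmpty) = true := by decide +kernel

theorem rows23_three : joins1.all (fun j => !(fitsJ [1035, 2024, 990, 990] j) || (j == join0) ||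
    (rowsD 23 11 2 (dm23 true) (domT j.2.2) (2688 - 1 - 484 - 729 - 64) j.2.1 j.2.2 true).isEmpty) = true := by
  decide +kernel

theorem join0_row : (rowsD 23 11 2 (dm23 true) (domT 770) (2688 - 1 - 484 - 729 - 64)
    join0.2.1 770 true).all (fun r => r == [7, 7, 7, -3, -3, 6, -18, -18, 0, 0, -14]) = true := by decide +kernel

end CfsgSimpleM23
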