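/-
Simple groups of order 10200960: the principal block at the prime seven.
-/
import Cfsg.Agent.Lib.SimpleM23.SevenTables

set_option autoImplicit false
set_option linter.style.haveILetI false
set_option linter.unusedSectionVars false

namespace CfsgSimpleM23

open Cfsg CfsgLib.CharTheory CfsgSimpleM11
open CfsgSimpleM22 (cc BL exists_BL ival ival_eq ival_triv)
open CfsgLib.SmallSylow (inIdx)

universe u
variable {G : Type u} [Group G] [Fintype G]

theorem exists_involution (hG : IsM23 G) : ∃ t : G, orderOf t = 2 := by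
  haveI : Fact (Nat.Prime 2) := ⟨Nat.prime_two⟩
  exact exists_prime_orderOf_dvd_card' 2 (by rw [card_eq hG]; norm_num)

variable [Fact (Nat.Prime 11)] [Fact (Nat.Prime 23)] {P : Sylow 11 G} {A : BL P} {Q : Sylow 23 G} {B : BL Q}
  {j : List ℕ × (List ℕ × ℕ)} {U : List (IrrCharacter G)}

theorem Frame.mem1 (F : Frame G A B j U) (hG : IsM23 G) : j ∈ joins1 := by
  obtain ⟨t, ht⟩ := exists_involution hG
  obtain ⟨hp, -⟩ := inv_row hG A ht
  have h := List.all_eq_true.1 joins_first j F.mem
  simp only [Bool.or_eq_true, Bool.and_eq_true, List.contains_iff_mem, Bool.not_eq_true', decide_eq_false_iff_not,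
    bne_iff_ne] at h
  exact h.resolve_right fun h' => h'.2 (F.degA.symm.trans hp)

theorem Frame.mem_U (F : Frame G A B j U) {χ : IrrCharacter G} {d : ℕ} (hd : dg χ = d) (h1 : d ≠ 1)
    (h : ¬ 253 ∣ d) : χ ∈ U :=
  (F.memU χ).2 ⟨fun e => h1 (by rw [← hd, e, dg_triv]), hd ▸ h⟩

/-- All characters of a degree are in a list as long as their number. -/
theorem Frame.mem_of_count (F : Frame G A B j U) {d : ℕ} (h : ¬ 253 ∣ d) (h1 : d ≠ 1) {l : List (IrrCharacter G)}
    (hl : l.Nodup) (hld : ∀ χ ∈ l, dg χ = d) (hlen : (joinU j).count d ≤ l.length) {χ : IrrCharacter G}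
    (hχ : dg χ = d) : χ ∈ l := by
  classical
  by_contra hn
  have h2 := count_le (d := d) (List.nodup_cons.2 ⟨hn, hl⟩) (m := U) fun ψ hψ e => F.mem_U e h1 h
  have e1 : ((χ :: l).map fun ψ : IrrCharacter G => dg ψ) = List.replicate (l.length + 1) d := by
    rw [List.map_congr_left (g := fun _ => d) (fun ψ hψ => by
      rcases List.mem_cons.1 hψ with rfl | hψ
      · exact hχ
      · exact hld ψ hψ), List.map_const', List.length_cons]
  rw [e1, List.count_replicate_self, F.degU.count_eq] at h2
  omega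

/-- Distinct nontrivial characters fit in the join. -/
theorem Frame.fits (F : Frame G A B j U) (hG : IsM23 G) {l : List (IrrCharacter G)} (hl : l.Nodup)
    (hne : triv G ∉ l) : fitsJ (l.map fun χ : IrrCharacter G => dg χ) j = true := by
  classical
  simp only [fitsJ, Bool.and_eq_true, List.all_eq_true, Bool.or_eq_true, beq_iff_eq, decide_eq_true_eq]
  refine ⟨fun d _ => ?_, ?_⟩
  · by_cases hd : d % 253 = 0
    · exact Or.inl hd
    refine Or.inr ((count_le hl (m := U) fun χ hχ e => (F.memU χ).2
      ⟨fun e' => hne (e' ▸ hχ), fun h => hd (by rw [← e]; exact Nat.mod_eq_zero_of_dvd h)⟩).trans ?_)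
    rw [F.degU.count_eq]
  · rw [← F.sq, List.map_map]
    set s := l.toFinset.filter fun χ : IrrCharacter G => 253 ∣ dg χ with hs
    have e1 : (l.map ((fun d => if d % 253 = 0 then (d / 253) ^ 2 else 0) ∘ fun χ : IrrCharacter G => dg χ)).sum =
        ∑ χ ∈ s, (dg χ / 253) ^ 2 := by
      rw [← List.sum_toFinset _ hl, hs, Finset.sum_filter]
      exact Finset.sum_congr rfl fun χ _ => if_congr (Nat.dvd_iff_mod_eq_zero).symm rfl rfl
    have hsub : s ⊆ Finset.univ.filter fun χ : IrrCharacter G => 253 ∣ dg χ :=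
      Finset.filter_subset_filter _ (Finset.subset_univ _)
    by_cases h : 2024 ∈ l.map fun χ : IrrCharacter G => dg χ
    · rw [if_pos (by rwa [List.contains_iff_mem]), add_zero]
      exact le_trans (le_of_eq e1) (Finset.sum_le_sum_of_subset hsub)
    · rw [if_neg (by rwa [List.contains_iff_mem])]
      obtain ⟨-, -, -, d, -, -, -, -, hd⟩ := exists_five_chars hG
      have hd1 : d ∉ s := fun hm => h (List.mem_map.2 ⟨d, List.mem_toFinset.1 (Finset.mem_filter.1 hm).1, hd⟩)
      have h2 := Finset.sum_le_sum_of_subset (f := fun χ : IrrCharacter G => (dg χ / 253) ^ 2)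
        (Finset.insert_subset (Finset.mem_filter.2 ⟨Finset.mem_univ d, by rw [hd]; norm_num⟩) hsub)
      rw [Finset.sum_insert hd1, ← e1] at h2
      simp only [hd] at h2
      omega

/-- The values at an involution in the block at twenty-three are in their sets. -/
theorem Frame.dom_value (F : Frame G A B j U) (hG : IsM23 G) {t : G} (ht : orderOf t = 2) (hC : cc t = 2688)
    {χ : IrrCharacter G} (hχ : χ ∈ B.xs) : ival χ t ∈ dm23 false (dg χ) := by
  obtain ⟨hp, -, hy, hx⟩ := inv_row hG A ht
  obtain ⟨he, -, hC'⟩ := eleven hG P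
  have hne := B.xs_ne_triv hχ
  have hA : ∀ d, dg χ = d → ¬ 11 ∣ d → χ ∈ A.xs ∨ χ ∈ A.ys := fun d e hd =>
    List.mem_append.1 ((List.mem_cons.1 (A.mem_of_not_dvd hC' (e ▸ hd : ¬ 11 ∣ dg χ))).resolve_left hne)
  have hf := (eleven_lists hG A).1
  simp only [dm23, Bool.false_and, Bool.false_eq_true, if_false, beq_iff_eq]
  split_ifs with h1 h2
  · rcases hA _ h1 (by norm_num) with h | h
    · rw [(hx χ h).2.2.2 h1 (by rw [hC]; norm_num)]
      simp
    · rw [A.degY χ h, hf] at h1
      norm_num at h1
  · rcases hA _ h2 (by norm_num) with h | h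
    · have := A.modX χ h
      rw [h2] at this
      norm_num at this
    · rw [hy χ h]
      simp
  · rw [domT_eq, ← hC]
    exact mem_dom_involution hG hne ht (by norm_num) (four_dvd_ival hG χ ht)

theorem domY (hG : IsM23 G) {t : G} (ht : orderOf t = 2) (hC : cc t = 2688) {η : IrrCharacter G} (hη : η ∈ B.ys) :
    ival η t ∈ domT B.f := by
  rw [domT_eq, ← hC, ← B.degY η hη]
  exact mem_dom_involution hG (B.ys_ne_triv hη) ht (by norm_num) (four_dvd_ival hG η ht)

/-- The norm left for the block at twenty-three. -/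
theorem norm23 (hG : IsM23 G) {t : G} (ht : orderOf t = 2) (hC : cc t = 2688) (l : List (IrrCharacter G))
    (hnd : l.Nodup) (hl : ∀ χ ∈ l, χ ≠ triv G ∧ 23 ∣ dg χ) (w : ℤ)
    (hw : w ≤ (l.map fun χ : IrrCharacter G => ival χ t ^ 2).sum) :
    ((B.xs ++ B.ys).map fun χ : IrrCharacter G => ival χ t ^ 2).sum ≤ 2688 - 1 - w := by
  classical
  obtain ⟨he, -, -⟩ := twenty_three hG Q
  have hN : ((triv G :: (B.xs ++ B.ys)) ++ l).Nodup := List.nodup_append'.2 ⟨B.nodup, hnd, fun χ h1 h2 =>
    B.not_dvd_dg (by norm_num) (by rw [he]; norm_num) h1 (hl χ h2).2⟩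
  have h := norm_le (s := ((triv G :: (B.xs ++ B.ys)) ++ l).toFinset) (g := t) (fun χ => ival χ t)
    (fun χ _ => ival_inv hG χ ht)
  rw [List.sum_toFinset _ hN, hC, List.map_append, List.sum_append, List.map_cons, List.sum_cons, ival_triv] at h
  push_cast at h
  linarith

/-- The characters of degree 230 and 1035. -/
theorem exists_230_1035 (A : BL P) (hG : IsM23 G) {t : G} (ht : orderOf t = 2) (hC : cc t = 2688) :
    ∃ l : List (IrrCharacter G), l.Nodup ∧ (∀ χ ∈ l, χ ≠ triv G ∧ 23 ∣ dg χ ∧ dg χ ≠ 2024) ∧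
      484 + 729 ≤ (l.map fun χ : IrrCharacter G => ival χ t ^ 2).sum := by
  obtain ⟨hp, -, -, hx⟩ := inv_row hG A ht
  have hf := (eleven_lists hG A).1
  have key : ∀ d ∈ ([230, 1035] : List ℕ), ∃ χ ∈ A.xs, dg χ = d := fun d hd => by
    have hm : d ∈ (A.xs ++ A.ys).map fun χ : IrrCharacter G => dg χ := hp.symm.subset (by
      simp only [List.mem_cons, List.not_mem_nil, or_false] at hd ⊢
      tauto)
    obtain ⟨χ, hχ, e⟩ := List.mem_map.1 hm
    rcases List.mem_append.1 hχ with h | h
    · exact ⟨χ, h, e⟩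
    · rw [A.degY χ h, hf] at e
      simp only [List.mem_cons, List.not_mem_nil, or_false] at hd
      omega
  obtain ⟨a, ha, ha'⟩ := key 230 (by simp)
  obtain ⟨b, hb, hb'⟩ := key 1035 (by simp)
  refine ⟨[a, b], ?_, ?_, ?_⟩
  · have : a ≠ b := fun e => by rw [e, hb'] at ha'; norm_num at ha'
    simp [this]
  · intro χ hχ
    simp only [List.mem_cons, List.not_mem_nil, or_false] at hχ
    rcases hχ with rfl | rfl
    · exact ⟨A.xs_ne_triv ha, by rw [ha']; norm_num, by rw [ha']; norm_num⟩
    · exact ⟨A.xs_ne_triv hb, by rw [hb']; norm_num, by rw [hb']; norm_num⟩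
  · rw [List.map_cons, List.map_cons, List.map_nil, (hx a ha).1 ha', (hx b hb).2.2.1 hb' (by rw [hC]; norm_num)]
    norm_num

/-- A character of degree 22 does not take the value `-6` with a block of six rational characters. -/
theorem Frame.six (F : Frame G A B j U) (hG : IsM23 G) {t : G} (ht : orderOf t = 2) (hC : cc t = 2688)
    (hfit : fitsJ [253, 253, 253, 253, 22, 1035] j = true) {c : IrrCharacter G} (hc : dg c = 22)
    (hv : ival c t = -6) : False := by
  classical
  obtain ⟨he, -, hC'⟩ := twenty_three hG Q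
  have hQ : Nat.card Q = 23 := card_sylow_prime hG (by decide) Q
  obtain ⟨H, hR⟩ := exists_reg Q hQ
  haveI := Fintype.ofFinite H
  obtain ⟨x, hx, hx1⟩ := CfsgLib.SmallSylow.exists_mem_ne Q hQ
  obtain ⟨η, hη⟩ := B.exists_eta
  have hcne : c ≠ triv G := fun e => by rw [e, dg_triv] at hc; norm_num at hc
  have hcB : c ∈ B.xs := by
    rcases List.mem_append.1 ((List.mem_cons.1 (B.mem_of_not_dvd hC'
      (show ¬ 23 ∣ dg c by rw [hc]; norm_num))).resolve_left hcne) with h | h
    · exact h
    · have := B.modf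
      rw [← B.degY c h, hc, he] at this
      norm_num at this
  have hj := F.mem1 hG
  have hlist : j.2.1.Perm (45 :: 45 :: 896 :: 896 :: 22 :: rest6 j.2.1) := by
    have hall : joins1.all (fun k => !(fitsJ [253, 253, 253, 253, 22, 1035] k) ||
        decide (k.2.1.Perm (45 :: 45 :: 896 :: 896 :: 22 :: rest6 k.2.1))) = true := by decide +kernel
    have := List.all_eq_true.1 hall j hj
    rw [hfit] at this
    simpa using this
  have h1 : ((B.xs.erase c).map fun χ : IrrCharacter G => dg χ).Perm (45 :: 45 :: 896 :: 896 :: rest6 j.2.1) := by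
    have e1 : (B.xs.map fun χ : IrrCharacter G => dg χ).Perm
        (22 :: (B.xs.erase c).map fun χ : IrrCharacter G => dg χ) := by
      have := (List.perm_cons_erase hcB).map fun χ : IrrCharacter G => dg χ
      rwa [List.map_cons, hc] at this
    have e2 : (45 :: 45 :: 896 :: 896 :: 22 :: rest6 j.2.1).Perm (22 :: 45 :: 45 :: 896 :: 896 :: rest6 j.2.1) :=
      List.perm_middle (l₁ := [45, 45, 896, 896])
    exact ((e1.symm.trans (F.degB.trans hlist)).trans e2).cons_inv
  obtain ⟨l, hl, hmap⟩ := CfsgSimpleM22.exists_map_perm (f := fun χ : IrrCharacter G => dg χ) h1.symm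
  rcases l with _ | ⟨a, _ | ⟨b, _ | ⟨a', _ | ⟨b', r⟩⟩⟩⟩ <;>
    simp only [List.map_cons, List.map_nil, List.cons.injEq, reduceCtorEq, and_false] at hmap
  obtain ⟨ha, hb, ha', hb', hr⟩ := hmap
  have hperm : ([a, b, a', b', c] ++ r).Perm B.xs := by
    refine List.Perm.trans ?_ (List.perm_cons_erase hcB).symm
    exact (List.perm_middle (l₁ := [a, b, a', b'])).trans (hl.cons c)
  let dm : IrrCharacter G → List ℤ := fun χ => if χ = c then [-6] else dm23 false (dg χ)
  have hdm : ∀ χ ∈ B.xs, ival χ t ∈ dm χ := fun χ hχ => by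
    simp only [dm]
    split_ifs with h
    · rw [h, hv]; simp
    · exact F.dom_value hG ht hC hχ
  obtain ⟨l0, hl0, hl1, hl2⟩ := exists_230_1035 A hG ht hC
  have hnorm := norm23 (B := B) hG ht hC l0 hl0 (fun χ hχ => ⟨(hl1 χ hχ).1, (hl1 χ hχ).2.1⟩) _ hl2
  have hrow := row_memP hR hQ B hx hx1 hG (by norm_num) ht hdm hnorm true (fun _ => by rw [he]) hperm hη
    (domY hG ht hC hη)
  have hne : ∀ χ ∈ B.xs.erase c, χ ≠ c := fun χ hχ =>
    ((List.Nodup.mem_erase_iff (List.nodup_append.1 (List.nodup_cons.1 B.nodup).2).1).1 hχ).1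
  have hr' : ∀ χ ∈ r, dg χ ≠ 45 ∧ dg χ ≠ 896 := by
    have hall : joins1.all (fun k => !(fitsJ [253, 253, 253, 253, 22, 1035] k) ||
        (rest6 k.2.1).all fun d => (d != 45) && (d != 896)) = true := by decide +kernel
    have := List.all_eq_true.1 hall j hj
    rw [hfit] at this
    simp only [Bool.not_true, Bool.false_or, List.all_eq_true, Bool.and_eq_true, bne_iff_ne] at this
    intro χ hχ
    exact this _ (hr ▸ List.mem_map_of_mem hχ)
  have e : ([a, b, a', b', c] ++ r).map (fun χ : IrrCharacter G => (dg χ, dm χ)) =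
      fixed6 ++ (rest6 j.2.1).map fun d => (d, domT d) := by
    have hm : ∀ χ ∈ [a, b, a', b'], dm χ = dm23 false (dg χ) := fun χ hχ => if_neg (hne χ (hl.subset (by
      simp only [List.mem_cons, List.not_mem_nil, or_false] at hχ ⊢
      tauto)))
    rw [List.map_append, ← hr, List.map_map]
    congr 1
    · simp only [List.map_cons, List.map_nil, fixed6, hm a (by simp), hm b (by simp), hm a' (by simp),
        hm b' (by simp), ha, hb, ha', hb', hc, show dm c = [-6] from if_pos rfl]
      rfl
    · refine List.map_congr_left fun χ hχ => ?_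
      obtain ⟨n1, n2⟩ := hr' χ hχ
      simp [dm, hne χ (hl.subset (by simp [hχ])), dm23, n1, n2]
  rw [e, twenty_three_ys hG B, he, F.fB] at hrow
  have h3 := List.all_eq_true.1 rows23_six j hj
  rw [hfit] at h3
  simp only [Bool.not_true, Bool.false_or, List.isEmpty_iff] at h3
  rw [show (2688 : ℤ) - 1 - (484 + 729) = 2688 - 1 - 484 - 729 by norm_num, h3] at hrow
  exact List.not_mem_nil hrow

/-- The join is determined. -/
theorem Frame.three (F : Frame G A B j U) (hG : IsM23 G) {t : G} (ht : orderOf t = 2) (hC : cc t = 2688)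
    (hfit : fitsJ [1035, 2024, 990, 990] j = true) {b η1 η2 : IrrCharacter G} (hb : dg b = 2024)
    (hvb : ival b t = 8) (hne : η1 ≠ η2) (h1 : dg η1 = 990) (h2 : dg η2 = 990) (hv1 : ival η1 t = -18)
    (hv2 : ival η2 t = -18) : j = join0 := by
  classical
  obtain ⟨he, -, hC'⟩ := twenty_three hG Q
  have hQ : Nat.card Q = 23 := card_sylow_prime hG (by decide) Q
  obtain ⟨H, hR⟩ := exists_reg Q hQ
  haveI := Fintype.ofFinite H
  obtain ⟨x, hx, hx1⟩ := CfsgLib.SmallSylow.exists_mem_ne Q hQ
  obtain ⟨η, hη⟩ := B.exists_eta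
  have hj := F.mem1 hG
  have h990 : ∀ χ : IrrCharacter G, dg χ = 990 → ival χ t = -18 := by
    intro χ hχ
    have hcnt : joins1.all (fun k => decide ((joinU k).count 990 ≤ 2)) = true := by decide +kernel
    have := F.mem_of_count (d := 990) (by norm_num) (by norm_num) (l := [η1, η2]) (by simp [hne])
      (by simp [h1, h2]) (by simpa using List.all_eq_true.1 hcnt j hj) hχ
    simp only [List.mem_cons, List.not_mem_nil, or_false] at this
    rcases this with rfl | rfl <;> assumption
  obtain ⟨xs', hperm, hmap⟩ := CfsgSimpleM22.exists_map_perm (f := fun χ : IrrCharacter G => dg χ) F.degB.symm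
  obtain ⟨l0, hl0, hl1, hl2⟩ := exists_230_1035 A hG ht hC
  have hbl : b ∉ l0 := fun h => (hl1 b h).2.2 hb
  have hnorm := norm23 (B := B) hG ht hC (b :: l0) (List.nodup_cons.2 ⟨hbl, hl0⟩) (fun χ hχ => by
    rcases List.mem_cons.1 hχ with rfl | h
    · exact ⟨fun e => by rw [e, dg_triv] at hb; norm_num at hb, by rw [hb]; norm_num⟩
    · exact ⟨(hl1 χ h).1, (hl1 χ h).2.1⟩) (484 + 729 + 64) (by
    rw [List.map_cons, List.sum_cons, hvb]
    linarith)
  have hdm : ∀ χ ∈ B.xs, ival χ t ∈ dm23 true (dg χ) := fun χ hχ => by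
    by_cases h : dg χ = 990
    · simp [dm23, h, h990 χ h]
    · have := F.dom_value hG ht hC hχ
      simpa [dm23, h] using this
  have hrow := row_memD hR hQ B hx hx1 hG (by norm_num) ht hdm hnorm true (fun _ => by rw [he]) hperm hη
    (domY hG ht hC hη)
  rw [hmap, twenty_three_ys hG B, he, F.fB] at hrow
  have h3 := List.all_eq_true.1 rows23_three j hj
  rw [hfit] at h3
  simp only [Bool.not_true, Bool.false_or, Bool.or_eq_true, beq_iff_eq, List.isEmpty_iff] at h3
  refine h3.resolve_right fun h => ?_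
  rw [show (2688 : ℤ) - 1 - (484 + 729 + 64) = 2688 - 1 - 484 - 729 - 64 by norm_num, h] at hrow
  exact List.not_mem_nil hrow

/-- The principal block at the prime seven. -/
theorem seven [Fact (Nat.Prime 7)] (hG : IsM23 G) (F : Frame G A B j U) {R : Sylow 7 G} (C : BL R) {H : Subgroup G}
    (hR : Reg R H) :
    inIdx R = 3 ∧ (Nat.card H = 2 ∨ Nat.card H = 16) ∧ j = join0 ∧ C.f = 990 ∧
      (C.xs.map fun χ : IrrCharacter G => dg χ).Perm [1035, 2024] ∧
      ∀ t ∈ H, orderOf t = 2 → cc t = 2688 ∧ (∀ η ∈ C.ys, ival η t = -18) ∧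
        ∀ χ ∈ C.xs, dg χ = 2024 → ival χ t = 8 := by
  classical
  haveI := Fintype.ofFinite H
  have hP : Nat.card R = 7 := card_sylow_prime hG (by decide) R
  obtain ⟨x, hx, hx1⟩ := CfsgLib.SmallSylow.exists_mem_ne R hP
  obtain ⟨η, hη⟩ := C.exists_eta
  have h23 : Nat.card H % 23 ≠ 0 := fun h => not_dvd23_reg hG (by norm_num) hP hR (Nat.dvd_of_mod_eq_zero h)
  have h11 : Nat.card H % 11 ≠ 0 := fun h => seven_no_eleven hG hR (Nat.dvd_of_mod_eq_zero h)
  have h5 : Nat.card H % 5 ≠ 0 := fun h => by
    haveI : Fact (Nat.Prime 5) := ⟨by norm_num⟩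
    obtain ⟨Q5, K, hK, hd⟩ := reg_symm hG (q := 5) (by norm_num) (by decide) hP hR (Nat.dvd_of_mod_eq_zero h)
    obtain ⟨-, -, hC5, -⟩ := five hG Q5
    have := hK.card
    rw [hC5] at this
    have : Nat.card K = 3 := by omega
    rw [this] at hd
    norm_num at hd
  obtain ⟨xs', hperm, hl⟩ := exists_list C (fun χ => dg_memD hG) (fun χ hχ => two_le_dg hG (C.xs_ne_triv hχ))
  have hlen : C.ys.length = 6 / inIdx R := by
    rw [← Nat.mul_div_cancel C.ys.length (CfsgSimpleM22.inIdx_pos R), C.len_ys]
  have hfit : fitsJ (blockDegs (6 / inIdx R) (xs'.map fun χ : IrrCharacter G => dg χ, C.f)) j = true := by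
    have hp2 : (xs' ++ C.ys).Perm (C.xs ++ C.ys) := hperm.append_right C.ys
    have h := F.fits hG (hp2.nodup_iff.2 (nodup_block C)) (fun h => (List.nodup_cons.1 C.nodup).1 (hp2.subset h))
    rw [List.map_append, List.map_congr_left (l := C.ys) (g := fun _ => C.f) fun η hη => C.degY η hη,
      List.map_const', hlen] at h
    exact h
  have hmem := mem_options_of hG (by norm_num) R hP hR
  have hcases := List.all_eq_true.1 options7 _ hmem
  simp only [Bool.or_eq_true, Bool.and_eq_true, beq_iff_eq, List.all_eq_true, List.contains_iff_mem,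
    Bool.not_eq_true'] at hcases
  have hcl := ((hcases.resolve_left fun h => h.elim (fun h => h.elim h5 h11) h23)) _ hl
  rcases hcl with (hno | ⟨⟨he, hH⟩, hlm⟩) | ⟨⟨he, hH⟩, hlm⟩
  · have := hno j F.mem
    rw [hfit] at this
    exact Bool.noConfusion this
  · -- six
    exfalso
    have hk : C.ys.length = 1 := by rw [hlen, he]
    by_cases hH1 : Nat.card H = 1
    · have hCC : Subgroup.centralizer ((R : Subgroup G) : Set G) = (R : Subgroup G) :=
        (Subgroup.eq_of_le_of_card_ge (le_centralizer_of_prime R hP) (by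
          rw [← hR.card, hH1, show Nat.card (R : Subgroup G) = 7 from hP])).symm
      have h45 : 45 ∈ joinU j := by
        simpa using List.all_eq_true.1 joins_45 j F.mem
      obtain ⟨χ, hχ, hχd⟩ := List.mem_map.1 (F.degU.symm.subset h45)
      have hin : χ ∈ C.xs ++ C.ys := (List.mem_cons.1 (C.mem_of_not_dvd hCC (by rw [hχd]; norm_num))).resolve_left
        ((F.memU χ).1 hχ).1
      have h1 : dg χ ∈ blockDegs 1 (xs'.map fun χ : IrrCharacter G => dg χ, C.f) := by
        have := List.mem_map_of_mem (f := fun χ : IrrCharacter G => dg χ) hin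
        rw [degs_block C hk] at this
        exact (List.Perm.append_right _ (hperm.map _)).symm.subset this
      rw [hχd] at h1
      have hno : lists6.all (fun l => !((blockDegs 1 l).contains 45)) = true := by decide +kernel
      have := List.all_eq_true.1 hno _ hlm
      simp only [Bool.not_eq_true', ← Bool.not_eq_true, List.contains_iff_mem] at this
      exact this h1
    have h2 : 2 ∣ Nat.card H := by
      simp only [List.mem_cons, List.not_mem_nil, or_false] at hH
      rcases hH with e | e | e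
      · exact absurd e hH1
      all_goals rw [e]; norm_num
    obtain ⟨t, htH, ht⟩ := exists_order Nat.prime_two h2
    obtain ⟨-, hC3, -, hAx⟩ := inv_row hG A ht
    have hrow := row_mem hR hP C hx hx1 hG (by norm_num) ht (q := 28) (by norm_num)
      (fun χ hχ => value_mod hG (by norm_num) hP C ht (hR.le htH) hχ (ival_inv hG χ ht)) false (by simp) hperm hη
    rw [he, hk] at hrow
    have hh := List.all_eq_true.1 (List.all_eq_true.1 (List.all_eq_true.1 rows7_six (cc t) (by
      simp only [List.mem_cons, List.not_mem_nil, or_false]; exact hC3)) _ hlm) _ hrow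
    simp only [Bool.or_eq_true, Bool.and_eq_true, beq_iff_eq, List.contains_iff_mem] at hh
    have key : ∀ {d : ℕ} {v : ℤ}, (d, v) ∈ ((xs'.map fun χ : IrrCharacter G => dg χ) ++ [C.f]).zip
        ((xs'.map fun χ : IrrCharacter G => ival χ t) ++ [ival η t]) → ∃ χ, dg χ = d ∧ ival χ t = v := by
      intro d v h
      have e1 : (xs'.map fun χ : IrrCharacter G => dg χ) ++ [C.f] = (xs' ++ [η]).map fun χ : IrrCharacter G => dg χ := by
        rw [List.map_append, List.map_cons, List.map_nil, C.degY η hη]
      have e2 : (xs'.map fun χ : IrrCharacter G => ival χ t) ++ [ival η t] =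
          (xs' ++ [η]).map fun χ : IrrCharacter G => ival χ t := by
        rw [List.map_append, List.map_cons, List.map_nil]
      rw [e1, e2, List.zip_map'] at h
      obtain ⟨χ, -, hχ⟩ := List.mem_map.1 h
      simp only [Prod.mk.injEq] at hχ
      exact ⟨χ, hχ⟩
    rcases hh with ⟨hC, hz⟩ | ⟨hC, hz⟩
    · obtain ⟨c, hc, hv⟩ := key hz
      refine F.six hG ht hC ?_ hc hv
      have hp6 : lists6.all (fun l => decide ((blockDegs 1 l).Perm [253, 253, 253, 253, 22, 1035])) = true := by
        decide +kernel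
      have hp := of_decide_eq_true (List.all_eq_true.1 hp6 _ hlm)
      have hinv : ∀ {L L' : List ℕ}, L.Perm L' → fitsJ L j = true → fitsJ L' j = true := by
        intro L L' hLL h
        simp only [fitsJ, Bool.and_eq_true, List.all_eq_true, decide_eq_true_eq, Bool.or_eq_true] at h ⊢
        refine ⟨fun d hd => ?_, ?_⟩
        · rw [← hLL.count_eq]; exact h.1 d (hLL.symm.subset hd)
        · rw [← (hLL.map _).sum_eq,
            show L'.contains 2024 = L.contains 2024 from Bool.eq_iff_iff.2 (by
              simp only [List.contains_iff_mem]; exact hLL.symm.mem_iff)]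
          exact h.2
      refine hinv hp ?_
      rw [he] at hfit
      exact hfit
    · obtain ⟨χ, hχ, hv⟩ := key hz
      obtain ⟨-, -, hC11⟩ := eleven hG P
      have hf := (eleven_lists hG A).1
      rcases List.mem_append.1 ((List.mem_cons.1 (A.mem_of_not_dvd hC11 (χ := χ) (by rw [hχ]; norm_num))).resolve_left
        (fun e => by rw [e, dg_triv] at hχ; norm_num at hχ)) with h | h
      · have := (hAx χ h).2.1 hχ hC
        omega
      · rw [A.degY χ h, hf] at hχ
        norm_num at hχ
  · -- three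
    have hk : C.ys.length = 2 := by rw [hlen, he]
    have h2 : 2 ∣ Nat.card H := by
      simp only [List.mem_cons, List.not_mem_nil, or_false] at hH
      rcases hH with e | e <;> rw [e] <;> norm_num
    have hH' : Nat.card H = 2 ∨ Nat.card H = 16 := by simpa using hH
    have hall : ∀ t ∈ H, orderOf t = 2 → cc t = 2688 ∧ C.f = 990 ∧
        ∃ a b, xs' = [a, b] ∧ dg a = 1035 ∧ dg b = 2024 ∧ ival b t = 8 ∧ ∀ η ∈ C.ys, ival η t = -18 := by
      intro t htH ht
      obtain ⟨-, hC3, -, -⟩ := inv_row hG A ht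
      have hq := List.all_eq_true.1 rows7_three (cc t) (by
        simp only [List.mem_cons, List.not_mem_nil, or_false]; exact hC3)
      simp only [Bool.and_eq_true, List.isEmpty_iff, List.all_eq_true, beq_iff_eq] at hq
      have hrow := fun η' hη' => row_mem hR hP C hx hx1 hG (by norm_num) ht (q := 28) (by norm_num)
        (fun χ hχ => value_mod hG (by norm_num) hP C ht (hR.le htH) hχ (ival_inv hG χ ht)) true
        (fun _ => by rw [he]) hperm (η := η') hη'
      simp only [lists3, List.mem_cons, List.not_mem_nil, or_false, Prod.mk.injEq] at hlm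
      rcases hlm with ⟨e1, e2⟩ | ⟨e1, e2⟩
      · have := hrow η hη
        rw [he, hk, e1, e2, hq.1] at this
        exact absurd this List.not_mem_nil
      · rcases xs' with _ | ⟨a, _ | ⟨b, _ | ⟨c, r⟩⟩⟩ <;> simp at e1
        have hv : ∀ η' ∈ C.ys, cc t = 2688 ∧ ival b t = 8 ∧ ival η' t = -18 := fun η' hη' => by
          have := hrow η' hη'
          rw [he, hk, e2] at this
          simp only [List.map_cons, List.map_nil, e1.1, e1.2] at this
          obtain ⟨h, h'⟩ := hq.2 _ this
          simp only [List.cons_append, List.nil_append, List.cons.injEq, and_true] at h'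
          exact ⟨h, h'.2.1, h'.2.2⟩
        exact ⟨(hv η hη).1, e2, a, b, rfl, e1.1, e1.2, (hv η hη).2.1, fun η' hη' => (hv η' hη').2.2⟩
    obtain ⟨t, htH, ht⟩ := exists_order Nat.prime_two h2
    obtain ⟨hC, hf, a, b, hxs, ha, hb, hvb, hvy⟩ := hall t htH ht
    subst hxs
    have hdegs : (C.xs.map fun χ : IrrCharacter G => dg χ).Perm [1035, 2024] := by
      refine (hperm.symm.map _).trans ?_
      rw [List.map_cons, List.map_cons, List.map_nil, ha, hb]
    obtain ⟨η1, η2, hys⟩ : ∃ η1 η2, C.ys = [η1, η2] := List.length_eq_two.1 hk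
    have hne : η1 ≠ η2 := by
      have := (List.nodup_append.1 (List.nodup_cons.1 C.nodup).2).2.1
      rw [hys] at this
      simpa using this
    have hj0 : j = join0 := by
      refine F.three hG ht hC ?_ hb hvb hne (by rw [← hf]; exact C.degY η1 (by simp [hys]))
        (by rw [← hf]; exact C.degY η2 (by simp [hys])) (hvy η1 (by simp [hys])) (hvy η2 (by simp [hys]))
      rw [he, hf] at hfit
      simpa [blockDegs, ha, hb] using hfit
    refine ⟨he, hH', hj0, hf, hdegs, fun t htH ht => ?_⟩
    obtain ⟨hC, -, a', b', hxs, -, -, hvb', hvy⟩ := hall t htH ht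
    simp only [List.cons.injEq, and_true] at hxs
    obtain ⟨rfl, rfl⟩ := hxs
    refine ⟨hC, hvy, fun χ hχ hd => ?_⟩
    have := hperm.symm.subset hχ
    simp only [List.mem_cons, List.not_mem_nil, or_false] at this
    rcases this with rfl | rfl
    · rw [ha] at hd; norm_num at hd
    · exact hvb'

end CfsgSimpleM23
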