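/-
Simple groups of order 10200960: the degrees, the relations between the values, the involutions.
-/
import Cfsg.Agent.Lib.SimpleM23.Seven

set_option autoImplicit false
set_option linter.style.haveILetI false
set_option linter.unusedSectionVars false

namespace CfsgSimpleM23

open Cfsg CfsgLib.CharTheory CfsgSimpleM11
open CfsgSimpleM22 (cc BL exists_BL sgn sgE ival ival_spec)
open CfsgLib.SmallSylow (inIdx)
open scoped ComplexConjugate

universe u

/-- The degrees. -/
def D17 : Fin 17 → ℕ :=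
  ![1, 22, 45, 45, 230, 231, 231, 231, 253, 770, 770, 896, 896, 990, 990, 1035, 2024]

/-- The values at an involution. -/
def tvals : Fin 17 → ℤ := ![1, 6, -3, -3, 22, 7, 7, 7, 13, -14, -14, 0, 0, -18, -18, 27, 8]

/-- The irreducible characters with the relations between their values. -/
structure Tbl (G : Type u) [Group G] [Fintype G] where
  χ : Fin 17 → IrrCharacter G
  bij : Function.Bijective χ
  deg : ∀ i, dg (χ i) = D17 i
  first : χ 0 = triv G
  rel11 : ∀ g : G, ¬ 11 ∣ orderOf g →
    1 + (χ 2 : G → ℂ) g + (χ 3 : G → ℂ) g - (χ 4 : G → ℂ) g + (χ 15 : G → ℂ) g - (χ 11 : G → ℂ) g = 0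
  agree11 : ∀ g : G, ¬ 11 ∣ orderOf g → (χ 12 : G → ℂ) g = (χ 11 : G → ℂ) g
  rel23 : ∀ g : G, ¬ 23 ∣ orderOf g →
    1 + (χ 5 : G → ℂ) g + (χ 6 : G → ℂ) g + (χ 7 : G → ℂ) g - (χ 2 : G → ℂ) g - (χ 3 : G → ℂ) g -
      (χ 1 : G → ℂ) g + (χ 13 : G → ℂ) g + (χ 14 : G → ℂ) g - (χ 11 : G → ℂ) g - (χ 12 : G → ℂ) g -
      (χ 9 : G → ℂ) g = 0
  agree23 : ∀ g : G, ¬ 23 ∣ orderOf g → (χ 10 : G → ℂ) g = (χ 9 : G → ℂ) g
  rel7 : ∀ g : G, ¬ 7 ∣ orderOf g → 1 - (χ 15 : G → ℂ) g + (χ 16 : G → ℂ) g - (χ 13 : G → ℂ) g = 0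
  agree7 : ∀ g : G, ¬ 7 ∣ orderOf g → (χ 14 : G → ℂ) g = (χ 13 : G → ℂ) g
  rel5 : ∀ g : G, ¬ 5 ∣ orderOf g →
    1 + (χ 5 : G → ℂ) g + (χ 11 : G → ℂ) g + (χ 12 : G → ℂ) g - (χ 16 : G → ℂ) g = 0
  cc_inv : ∀ t : G, orderOf t = 2 → cc t = 2688
  invRow : ∀ t : G, orderOf t = 2 → ∀ i, (χ i : G → ℂ) t = (tvals i : ℂ)

variable {G : Type u} [Group G] [Fintype G]

/-- A Sylow subgroup whose centraliser contains the given element. -/
theorem exists_sylow_reg {p : ℕ} [Fact p.Prime] (hG : IsM23 G) (hp : p ∈ ([5, 7, 11, 23] : List ℕ)) {t : G}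
    (ht : ¬ p ∣ orderOf t) (h : p ∣ cc t) : ∃ (R : Sylow p G) (H : Subgroup G), Reg R H ∧ t ∈ H := by
  obtain ⟨x, hx, hxo⟩ := exists_order (K := Subgroup.centralizer ({t} : Set G)) (Fact.out : p.Prime) h
  obtain ⟨R, hR⟩ := (IsPGroup.of_card (n := 1) (by rw [Nat.card_zpowers, hxo, pow_one]) :
    IsPGroup p (Subgroup.zpowers x)).exists_le_sylow
  have hcard : Nat.card R = p := card_sylow_prime hG hp R
  obtain ⟨H, hH⟩ := exists_reg R hcard
  have hx1 : x ≠ 1 := fun e => by rw [e, orderOf_one] at hxo; exact (Fact.out : p.Prime).ne_one hxo.symm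
  refine ⟨R, H, hH, hH.mem t ?_ ht⟩
  rw [← (CfsgLib.Blocks.DefectOne.setup_sylow R hcard).star x (hR (Subgroup.mem_zpowers x)) hx1]
  exact Subgroup.mem_centralizer_singleton_iff.2 (Subgroup.mem_centralizer_singleton_iff.1 hx).symm

theorem map_cons_split {α β : Type*} {f : α → β} {l : List α} {b : β} {r : List β} (h : l.map f = b :: r) :
    ∃ a l', l = a :: l' ∧ f a = b ∧ l'.map f = r := by
  rcases l with _ | ⟨a, l'⟩
  · simp at h
  · rw [List.map_cons, List.cons.injEq] at h
    exact ⟨a, l', rfl, h.1, h.2⟩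

theorem exists_tbl (hG : IsM23 G) : Nonempty (Tbl G) := by
  classical
  haveI : Fact (Nat.Prime 11) := ⟨by norm_num⟩
  haveI : Fact (Nat.Prime 23) := ⟨by norm_num⟩
  haveI : Fact (Nat.Prime 7) := ⟨by norm_num⟩
  haveI : Fact (Nat.Prime 5) := ⟨by norm_num⟩
  obtain ⟨P, A, -, he11, -, hC11, -, -⟩ := eleven_data hG
  obtain ⟨Q⟩ := (inferInstance : Nonempty (Sylow 23 G))
  obtain ⟨he23, -, hC23⟩ := twenty_three hG Q
  have hQ : Nat.card Q = 23 := card_sylow_prime hG (by decide) Q
  obtain ⟨B⟩ := exists_BL (by norm_num) Q hQ (two_le_e hG Q hQ)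
  obtain ⟨j, U, F⟩ := exists_frame hG A B
  -- seven
  obtain ⟨R⟩ := (inferInstance : Nonempty (Sylow 7 G))
  have hR7 : Nat.card R = 7 := card_sylow_prime hG (by decide) R
  obtain ⟨H, hRH⟩ := exists_reg R hR7
  obtain ⟨C⟩ := exists_BL (by norm_num) R hR7 (two_le_e hG R hR7)
  obtain ⟨he7, -, hj, hCf, hCdeg, -⟩ := seven hG F C hRH
  subst hj
  -- the block at eleven
  obtain ⟨t₀, ht₀⟩ := exists_involution hG
  obtain ⟨hfA, -⟩ := eleven_lists hG A
  obtain ⟨hpA, -⟩ := inv_row hG A ht₀
  rw [degs_block A (ys_two hG A), blockDegs, hfA] at hpA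
  have hxA : (A.xs.map fun χ : IrrCharacter G => dg χ).Perm [45, 45, 230, 1035] :=
    ((List.perm_append_right_iff _).1 hpA).trans (List.Perm.cons 45 (List.Perm.cons 45 (List.Perm.swap _ _ _)))
  obtain ⟨la, hla, hma⟩ := CfsgSimpleM22.exists_map_perm (f := fun χ : IrrCharacter G => dg χ) hxA.symm
  obtain ⟨a1, la, rfl, ha1, hma⟩ := map_cons_split hma
  obtain ⟨a2, la, rfl, ha2, hma⟩ := map_cons_split hma
  obtain ⟨a4, la, rfl, ha4, hma⟩ := map_cons_split hma
  obtain ⟨a15, la, rfl, ha15, hma⟩ := map_cons_split hma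
  obtain rfl : la = [] := List.map_eq_nil_iff.1 hma
  obtain ⟨a11, a12, hyA⟩ : ∃ u v, A.ys = [u, v] := List.length_eq_two.1 (ys_two hG A)
  -- the block at seven
  obtain ⟨lc, hlc, hmc⟩ := CfsgSimpleM22.exists_map_perm (f := fun χ : IrrCharacter G => dg χ) hCdeg.symm
  obtain ⟨c15, lc, rfl, hc15, hmc⟩ := map_cons_split hmc
  obtain ⟨c16, lc, rfl, hc16, hmc⟩ := map_cons_split hmc
  obtain rfl : lc = [] := List.map_eq_nil_iff.1 hmc
  obtain ⟨c13, c14, hyC⟩ : ∃ u v, C.ys = [u, v] := List.length_eq_two.1 (by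
    have := C.len_ys; rw [he7] at this; omega)
  have hdA11 : dg a11 = 896 := by rw [A.degY a11 (by simp [hyA]), hfA]
  have hdA12 : dg a12 = 896 := by rw [A.degY a12 (by simp [hyA]), hfA]
  have hdC13 : dg c13 = 990 := by rw [C.degY c13 (by simp [hyC]), hCf]
  have hdC14 : dg c14 = 990 := by rw [C.degY c14 (by simp [hyC]), hCf]
  have hne2 : ∀ {p : ℕ} [Fact p.Prime] {S : Sylow p G} (X : BL S) {u v : IrrCharacter G}, X.ys = [u, v] → u ≠ v := by
    intro p _ S X u v h
    have := (List.nodup_append.1 (List.nodup_cons.1 X.nodup).2).2.1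
    rw [h] at this
    simpa using this
  -- the block at five
  obtain ⟨R5⟩ := (inferInstance : Nonempty (Sylow 5 G))
  have hR5 : Nat.card R5 = 5 := card_sylow_prime hG (by decide) R5
  obtain ⟨E⟩ := exists_BL (by norm_num) R5 hR5 (two_le_e hG R5 hR5)
  obtain ⟨he5, -, -, hE⟩ := five hG R5
  obtain ⟨le5, hle, hme⟩ := CfsgSimpleM22.exists_map_perm (f := fun χ : IrrCharacter G => dg χ) (hE E).symm
  obtain ⟨c5, le5, rfl, hc5, hme⟩ := map_cons_split hme
  obtain ⟨e11, le5, rfl, he11', hme⟩ := map_cons_split hme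
  obtain ⟨e12, le5, rfl, he12', hme⟩ := map_cons_split hme
  obtain ⟨e16, le5, rfl, he16, hme⟩ := map_cons_split hme
  obtain rfl : le5 = [] := List.map_eq_nil_iff.1 hme
  -- the block at twenty-three
  have hc5B : c5 ∈ B.xs := by
    rcases List.mem_append.1 ((List.mem_cons.1 (B.mem_of_not_dvd hC23 (χ := c5) (by rw [hc5]; norm_num))).resolve_left
      (fun e => by rw [e, dg_triv] at hc5; norm_num at hc5)) with h | h
    · exact h
    · rw [B.degY c5 h, F.fB] at hc5; simp [join0] at hc5
  have hxB : ((B.xs.erase c5).map fun χ : IrrCharacter G => dg χ).Perm [231, 231, 22, 45, 45, 990, 990, 896, 896] := by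
    have e1 := (List.perm_cons_erase hc5B).map fun χ : IrrCharacter G => dg χ
    rw [List.map_cons, hc5] at e1
    exact ((e1.symm.trans F.degB).trans (by decide +kernel : join0.2.1.Perm
      [231, 231, 231, 22, 45, 45, 990, 990, 896, 896])).cons_inv
  obtain ⟨lb, hlb, hmb⟩ := CfsgSimpleM22.exists_map_perm (f := fun χ : IrrCharacter G => dg χ) hxB.symm
  obtain ⟨b6, lb, rfl, hb6, hmb⟩ := map_cons_split hmb
  obtain ⟨b7, lb, rfl, hb7, hmb⟩ := map_cons_split hmb
  obtain ⟨b1, lb, rfl, hb1, hmb⟩ := map_cons_split hmb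
  obtain ⟨b2, lb, rfl, hb2, hmb⟩ := map_cons_split hmb
  obtain ⟨b3, lb, rfl, hb3, hmb⟩ := map_cons_split hmb
  obtain ⟨b13, lb, rfl, hb13, hmb⟩ := map_cons_split hmb
  obtain ⟨b14, lb, rfl, hb14, hmb⟩ := map_cons_split hmb
  obtain ⟨b11, lb, rfl, hb11, hmb⟩ := map_cons_split hmb
  obtain ⟨b12, lb, rfl, hb12, hmb⟩ := map_cons_split hmb
  obtain rfl : lb = [] := List.map_eq_nil_iff.1 hmb
  obtain ⟨b9, b10, hyB⟩ : ∃ u v, B.ys = [u, v] := List.length_eq_two.1 (twenty_three_ys hG B)
  have hdB9 : dg b9 = 770 := by rw [B.degY b9 (by simp [hyB]), F.fB]; rfl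
  have hdB10 : dg b10 = 770 := by rw [B.degY b10 (by simp [hyB]), F.fB]; rfl
  have hpB : [c5, b6, b7, b1, b2, b3, b13, b14, b11, b12].Perm B.xs :=
    (hlb.cons c5).trans (List.perm_cons_erase hc5B).symm
  have hndB : [c5, b6, b7, b1, b2, b3, b13, b14, b11, b12].Nodup :=
    hpB.nodup_iff.2 (List.nodup_append.1 (nodup_block B)).1
  -- identifications
  have hpair : ∀ {u v u' v' : IrrCharacter G}, u' ≠ v' → (∀ w, w = u' ∨ w = v' → w = u ∨ w = v) →
      (u' = u ∧ v' = v) ∨ (u' = v ∧ v' = u) := by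
    intro u v u' v' hne h
    rcases h u' (Or.inl rfl) with e | e <;> rcases h v' (Or.inr rfl) with e' | e'
    · exact absurd (e.trans e'.symm) hne
    · exact Or.inl ⟨e, e'⟩
    · exact Or.inr ⟨e, e'⟩
    · exact absurd (e.trans e'.symm) hne
  have h896 : ∀ χ : IrrCharacter G, dg χ = 896 → χ = a11 ∨ χ = a12 := fun χ h => by
    simpa using F.mem_of_count (d := 896) (by norm_num) (by norm_num) (l := [a11, a12]) (by simp [hne2 A hyA])
      (by simp [hdA11, hdA12]) (by simp only [List.length_cons, List.length_nil]; decide +kernel) h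
  have h990 : ∀ χ : IrrCharacter G, dg χ = 990 → χ = c13 ∨ χ = c14 := fun χ h => by
    simpa using F.mem_of_count (d := 990) (by norm_num) (by norm_num) (l := [c13, c14]) (by simp [hne2 C hyC])
      (by simp [hdC13, hdC14]) (by simp only [List.length_cons, List.length_nil]; decide +kernel) h
  have h45 : ∀ χ : IrrCharacter G, dg χ = 45 → χ = a1 ∨ χ = a2 := fun χ h => by
    have hnd : [a1, a2, a4, a15].Nodup := hla.nodup_iff.2 (List.nodup_append.1 (nodup_block A)).1
    simpa using F.mem_of_count (d := 45) (by norm_num) (by norm_num) (l := [a1, a2]) (hnd.sublist (by simp))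
      (by simp [ha1, ha2]) (by simp only [List.length_cons, List.length_nil]; decide +kernel) h
  have h1035 : ∀ χ : IrrCharacter G, dg χ = 1035 → χ = a15 := fun χ h => by
    simpa using F.mem_of_count (d := 1035) (by norm_num) (by norm_num) (l := [a15]) (by simp) (by simp [ha15])
      (by simp only [List.length_cons, List.length_nil]; decide +kernel) h
  obtain rfl : c15 = a15 := h1035 _ hc15
  -- the characters of degree divisible by 253
  set S := Finset.univ.filter fun χ : IrrCharacter G => 253 ∣ dg χ with hSdef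
  have hc16S : c16 ∈ S := Finset.mem_filter.2 ⟨Finset.mem_univ _, by rw [hc16]; norm_num⟩
  have hS1 : ∑ χ ∈ S.erase c16, (dg χ / 253) ^ 2 = 1 := by
    have := F.sq
    rw [← Finset.add_sum_erase _ _ hc16S, hc16, show joinR join0 = 65 by decide +kernel] at this
    norm_num at this
    omega
  obtain ⟨c8, hc8S, hc80⟩ := Finset.exists_ne_zero_of_sum_ne_zero (by rw [hS1]; exact one_ne_zero :
    ∑ χ ∈ S.erase c16, (dg χ / 253) ^ 2 ≠ 0)
  have hc8 : dg c8 = 253 := by
    obtain ⟨k, hk⟩ := (Finset.mem_filter.1 (Finset.mem_of_mem_erase hc8S)).2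
    have h1 := Finset.single_le_sum (f := fun χ : IrrCharacter G => (dg χ / 253) ^ 2) (fun _ _ => Nat.zero_le _) hc8S
    rw [hS1] at h1
    simp only [hk, Nat.mul_div_cancel_left _ (show 0 < 253 by norm_num)] at h1 hc80
    have : k ≤ 1 := by nlinarith
    interval_cases k <;> simp_all
  have hS : ∀ χ : IrrCharacter G, 253 ∣ dg χ → χ = c8 ∨ χ = c16 := by
    intro χ hχ
    by_contra hn
    push Not at hn
    have hm : χ ∈ (S.erase c16).erase c8 := Finset.mem_erase.2 ⟨hn.1, Finset.mem_erase.2 ⟨hn.2,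
      Finset.mem_filter.2 ⟨Finset.mem_univ _, hχ⟩⟩⟩
    rw [← Finset.add_sum_erase _ _ hc8S, hc8] at hS1
    have h1 := Finset.single_le_sum (f := fun χ : IrrCharacter G => (dg χ / 253) ^ 2) (fun _ _ => Nat.zero_le _) hm
    obtain ⟨k, hk⟩ := hχ
    simp only [hk, Nat.mul_div_cancel_left _ (show 0 < 253 by norm_num)] at h1
    have h0 := CfsgLib.Blocks.irr_charDegree_pos χ
    change 0 < dg χ at h0
    rw [show ((253 : ℕ) / 253) ^ 2 = 1 by norm_num] at hS1
    have hk0 : k ^ 2 = 0 := by omega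
    rw [pow_eq_zero_iff two_ne_zero] at hk0
    rw [hk0, mul_zero] at hk
    omega
  let χ : Fin 17 → IrrCharacter G :=
    ![triv G, b1, a1, a2, a4, c5, b6, b7, c8, b9, b10, a11, a12, c13, c14, c15, c16]
  have hsurj : Function.Surjective χ := by
    intro ψ
    by_cases h1 : ψ = triv G
    · exact ⟨0, h1.symm⟩
    by_cases h253 : 253 ∣ dg ψ
    · rcases hS ψ h253 with e | e
      · exact ⟨8, e.symm⟩
      · exact ⟨16, e.symm⟩
    by_cases h11 : 11 ∣ dg ψ
    · have h23 : ¬ 23 ∣ dg ψ := fun h =>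
        h253 ((show Nat.Coprime 11 23 by norm_num).mul_dvd_of_dvd_of_dvd h11 h)
      rcases List.mem_append.1 ((List.mem_cons.1 (B.mem_of_not_dvd hC23 h23)).resolve_left h1) with h | h
      · have hm := hpB.symm.subset h
        simp only [List.mem_cons, List.not_mem_nil, or_false] at hm
        rcases hm with e | e | e | e | e | e | e | e | e | e
        · exact ⟨5, e.symm⟩
        · exact ⟨6, e.symm⟩
        · exact ⟨7, e.symm⟩
        · exact ⟨1, e.symm⟩
        · rw [e, hb2] at h11; norm_num at h11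
        · rw [e, hb3] at h11; norm_num at h11
        · rcases h990 b13 hb13 with e' | e'
          · exact ⟨13, (e.trans e').symm⟩
          · exact ⟨14, (e.trans e').symm⟩
        · rcases h990 b14 hb14 with e' | e'
          · exact ⟨13, (e.trans e').symm⟩
          · exact ⟨14, (e.trans e').symm⟩
        · rw [e, hb11] at h11; norm_num at h11
        · rw [e, hb12] at h11; norm_num at h11
      · simp only [hyB, List.mem_cons, List.not_mem_nil, or_false] at h
        rcases h with e | e
        · exact ⟨9, e.symm⟩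
        · exact ⟨10, e.symm⟩
    · rcases List.mem_append.1 ((List.mem_cons.1 (A.mem_of_not_dvd hC11 h11)).resolve_left h1) with h | h
      · have hm := hla.symm.subset h
        simp only [List.mem_cons, List.not_mem_nil, or_false] at hm
        rcases hm with e | e | e | e
        · exact ⟨2, e.symm⟩
        · exact ⟨3, e.symm⟩
        · exact ⟨4, e.symm⟩
        · exact ⟨15, e.symm⟩
      · simp only [hyA, List.mem_cons, List.not_mem_nil, or_false] at h
        rcases h with e | e
        · exact ⟨11, e.symm⟩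
        · exact ⟨12, e.symm⟩
  have hcard : Fintype.card (IrrCharacter G) = 17 := by
    have hUlen : U.length = 14 := by
      have := F.degU.length_eq
      rw [List.length_map, show (joinU join0).length = 14 by decide +kernel] at this
      exact this
    have hSeq : S = {c8, c16} := by
      ext ψ
      simp only [hSdef, Finset.mem_filter, Finset.mem_univ, true_and, Finset.mem_insert, Finset.mem_singleton]
      constructor
      · exact hS ψ
      · rintro (rfl | rfl)
        · rw [hc8]
        · rw [hc16]; norm_num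
    have hns : Finset.univ.filter (fun ψ : IrrCharacter G => ¬ 253 ∣ dg ψ) = insert (triv G) U.toFinset := by
      ext ψ
      simp only [Finset.mem_filter, Finset.mem_univ, true_and, Finset.mem_insert, List.mem_toFinset, F.memU]
      constructor
      · intro h; by_cases e : ψ = triv G
        · exact Or.inl e
        · exact Or.inr ⟨e, h⟩
      · rintro (rfl | ⟨-, h⟩)
        · rw [dg_triv]; norm_num
        · exact h
    rw [← Finset.card_univ, ← Finset.card_filter_add_card_filter_not (fun ψ : IrrCharacter G => 253 ∣ dg ψ),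
      ← hSdef, hSeq, hns, Finset.card_insert_of_notMem (fun h => ((F.memU _).1 (List.mem_toFinset.1 h)).1 rfl),
      List.toFinset_card_of_nodup F.nodup, hUlen,
      Finset.card_pair (fun e => by rw [e, hc16] at hc8; norm_num at hc8)]
  have hbij : Function.Bijective χ :=
    (Fintype.bijective_iff_surjective_and_card χ).2 ⟨hsurj, by rw [Fintype.card_fin, hcard]⟩
  have hdeg : ∀ i, dg (χ i) = D17 i := fun i => by
    fin_cases i <;> simp only [χ, D17] <;>
      first
        | exact dg_triv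
        | assumption
        | exact hc5
  have hnd23 : ∀ g : G, ¬ 23 ∣ orderOf g →
      1 + (c5 : G → ℂ) g + (b6 : G → ℂ) g + (b7 : G → ℂ) g - (a1 : G → ℂ) g - (a2 : G → ℂ) g -
        (b1 : G → ℂ) g + (c13 : G → ℂ) g + (c14 : G → ℂ) g - (a11 : G → ℂ) g - (a12 : G → ℂ) g -
        (b9 : G → ℂ) g = 0 := by
    intro g hg
    have h := B.rel b9 (by simp [hyB]) g hg
    rw [← (hpB.map _).sum_eq, he23, show B.f = 770 from F.fB] at h
    simp only [List.map_cons, List.map_nil, List.sum_cons, List.sum_nil, sgn, sgE, hc5, hb6, hb7, hb1, hb2, hb3,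
      hb13, hb14, hb11, hb12] at h
    norm_num at h
    have n1 : b2 ≠ b3 := fun e => by subst e; simp at hndB
    have n2 : b13 ≠ b14 := fun e => by subst e; simp at hndB
    have n3 : b11 ≠ b12 := fun e => by subst e; simp at hndB
    rcases hpair n1 (u := a1) (v := a2) (fun w hw => h45 w (by rcases hw with rfl | rfl <;> assumption)) with
      ⟨rfl, rfl⟩ | ⟨rfl, rfl⟩ <;>
    rcases hpair n2 (u := c13) (v := c14) (fun w hw => h990 w (by rcases hw with rfl | rfl <;> assumption)) with
      ⟨rfl, rfl⟩ | ⟨rfl, rfl⟩ <;>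
    rcases hpair n3 (u := a11) (v := a12) (fun w hw => h896 w (by rcases hw with rfl | rfl <;> assumption)) with
      ⟨rfl, rfl⟩ | ⟨rfl, rfl⟩ <;>
    linear_combination h
  have hrel5 : ∀ g : G, ¬ 5 ∣ orderOf g →
      1 + (c5 : G → ℂ) g + (a11 : G → ℂ) g + (a12 : G → ℂ) g - (c16 : G → ℂ) g = 0 := by
    intro g hg
    obtain ⟨η, hη⟩ := E.exists_eta
    have hys : E.ys = [η] := by
      have h1 : E.ys.length = 1 := by have := E.len_ys; rw [he5] at this; omega
      obtain ⟨v, hv⟩ := List.length_eq_one_iff.1 h1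
      rw [hv] at hη ⊢
      simp at hη
      rw [hη]
    have h := E.rel η hη g hg
    have e : (sgE 5 (inIdx R5) E.f : ℂ) * (η : G → ℂ) g = (sgn 5 (dg η) : ℂ) * (η : G → ℂ) g := by
      rw [he5, E.degY η hη]
      have hm := E.modf
      rw [he5] at hm
      rcases hm with hm | hm <;> simp [sgE, sgn, hm]
    rw [add_assoc, e, show (E.xs.map fun χ : IrrCharacter G => (sgn 5 (dg χ) : ℂ) * (χ : G → ℂ) g).sum +
        (sgn 5 (dg η) : ℂ) * (η : G → ℂ) g =
        ((E.xs ++ E.ys).map fun χ : IrrCharacter G => (sgn 5 (dg χ) : ℂ) * (χ : G → ℂ) g).sum by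
      rw [hys, List.map_append, List.sum_append, List.map_singleton, List.sum_singleton],
      ← (hle.map _).sum_eq] at h
    simp only [List.map_cons, List.map_nil, List.sum_cons, List.sum_nil, sgn, hc5, he11', he12', he16] at h
    norm_num at h
    have he : e16 = c16 := (hS e16 (by rw [he16]; norm_num)).resolve_left fun e => by
      rw [e, hc8] at he16; norm_num at he16
    subst he
    have n3 : e11 ≠ e12 := fun e => by
      have := hle.nodup_iff.2 (nodup_block E)
      subst e; simp at this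
    rcases hpair n3 (u := a11) (v := a12) (fun w hw => h896 w (by rcases hw with rfl | rfl <;> assumption)) with
      ⟨rfl, rfl⟩ | ⟨rfl, rfl⟩ <;>
    linear_combination h
  -- involutions
  have hcc : ∀ t : G, orderOf t = 2 → cc t = 2688 ∧ ((χ 13 : G → ℂ) t = -18 ∧ (χ 14 : G → ℂ) t = -18) ∧
      (χ 16 : G → ℂ) t = 8 := by
    intro t ht
    obtain ⟨-, hC3, -, -⟩ := inv_row hG A ht
    have h7 : 7 ∣ cc t := by rcases hC3 with e | e | e <;> rw [e] <;> norm_num
    obtain ⟨S7, K, hK, htK⟩ := exists_sylow_reg (p := 7) hG (by decide) (by rw [ht]; norm_num) h7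
    have hS7 : Nat.card S7 = 7 := card_sylow_prime hG (by decide) S7
    obtain ⟨C'⟩ := exists_BL (by norm_num) S7 hS7 (two_le_e hG S7 hS7)
    obtain ⟨he7', -, -, hf', hdeg', hall⟩ := seven hG F C' hK
    obtain ⟨hcc, hv, hw⟩ := hall t htK ht
    have hy : ∀ w, dg w = 990 → ival w t = -18 := fun w hw => by
      obtain ⟨u, v, huv⟩ : ∃ u v, C'.ys = [u, v] := List.length_eq_two.1 (by
        have := C'.len_ys; rw [he7'] at this; omega)
      have du : dg u = 990 := by rw [C'.degY u (by simp [huv]), hf']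
      have dv : dg v = 990 := by rw [C'.degY v (by simp [huv]), hf']
      have hu := hv u (by simp [huv])
      have hv' := hv v (by simp [huv])
      rcases hpair (hne2 C' huv) (u := c13) (v := c14) (fun z hz => h990 z (by
        rcases hz with rfl | rfl <;> assumption)) with ⟨rfl, rfl⟩ | ⟨rfl, rfl⟩ <;>
      rcases h990 w hw with rfl | rfl <;> assumption
    obtain ⟨l, hl, hm⟩ := CfsgSimpleM22.exists_map_perm (f := fun χ : IrrCharacter G => dg χ) hdeg'.symm
    obtain ⟨u, l, rfl, -, hm⟩ := map_cons_split hm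
    obtain ⟨v, l, rfl, hv', -⟩ := map_cons_split hm
    obtain rfl : v = c16 := (hS v (by rw [hv']; norm_num)).resolve_left fun e => by
      rw [e, hc8] at hv'; norm_num at hv'
    refine ⟨hcc, ⟨?_, ?_⟩, ?_⟩
    · show (c13 : G → ℂ) t = -18
      rw [ival_inv hG c13 ht, hy c13 hdC13]; norm_num
    · show (c14 : G → ℂ) t = -18
      rw [ival_inv hG c14 ht, hy c14 hdC14]; norm_num
    · show (v : G → ℂ) t = 8
      rw [ival_inv hG v ht, hw v (hl.subset (by simp)) hv']; norm_num
  refine ⟨{
    χ := χ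
    bij := hbij
    deg := hdeg
    first := rfl
    rel11 := fun g hg => ?_
    agree11 := fun g hg => A.agree a12 (by simp [hyA]) a11 (by simp [hyA]) g hg
    rel23 := hnd23
    agree23 := fun g hg => B.agree b10 (by simp [hyB]) b9 (by simp [hyB]) g hg
    rel7 := fun g hg => ?_
    agree7 := fun g hg => C.agree c14 (by simp [hyC]) c13 (by simp [hyC]) g hg
    rel5 := hrel5
    cc_inv := fun t ht => (hcc t ht).1
    invRow := fun t ht => ?_ }⟩
  · have h := A.rel a11 (by simp [hyA]) g hg
    rw [← (hla.map _).sum_eq, he11, hfA] at h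
    simp only [List.map_cons, List.map_nil, List.sum_cons, List.sum_nil, sgn, sgE, ha1, ha2, ha4, ha15] at h
    norm_num at h
    show 1 + (a1 : G → ℂ) g + (a2 : G → ℂ) g - (a4 : G → ℂ) g + (c15 : G → ℂ) g - (a11 : G → ℂ) g = 0
    linear_combination h
  · have h := C.rel c13 (by simp [hyC]) g hg
    rw [← (hlc.map _).sum_eq, he7, hCf] at h
    simp only [List.map_cons, List.map_nil, List.sum_cons, List.sum_nil, sgn, sgE, hc15, hc16] at h
    norm_num at h
    show 1 - (c15 : G → ℂ) g + (c16 : G → ℂ) g - (c13 : G → ℂ) g = 0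
    linear_combination h
  · obtain ⟨hcc', ⟨h13, h14⟩, h16⟩ := hcc t ht
    obtain ⟨-, -, hy, hx⟩ := inv_row hG A ht
    have hn896 : cc t ≠ 896 := by rw [hcc']; norm_num
    have hA2 := (hx a1 (hla.subset (by simp))).2.2.2 ha1 hn896
    have hA3 := (hx a2 (hla.subset (by simp))).2.2.2 ha2 hn896
    have hA4 := (hx a4 (hla.subset (by simp))).1 ha4
    have hA15 := (hx c15 (hla.subset (by simp))).2.2.1 ha15 hn896
    have hA11 := hy a11 (by simp [hyA])
    have hA12 := hy a12 (by simp [hyA])
    -- the block at twenty-three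
    obtain ⟨HQ, hRQ⟩ := exists_reg Q hQ
    haveI := Fintype.ofFinite HQ
    obtain ⟨x, hx', hx1⟩ := CfsgLib.SmallSylow.exists_mem_ne Q hQ
    obtain ⟨xs', hperm', hmap'⟩ := CfsgSimpleM22.exists_map_perm (f := fun χ : IrrCharacter G => dg χ) F.degB.symm
    obtain ⟨l0, hl0, hl1, hl2⟩ := exists_230_1035 A hG ht hcc'
    have hv16 : ival c16 t = 8 := CfsgSimpleM22.ival_eq (by rw [show (8 : ℤ) = ((8 : ℤ)) from rfl]; exact_mod_cast h16)
    have hnorm := norm23 (B := B) hG ht hcc' (c16 :: l0)
      (List.nodup_cons.2 ⟨fun h => (hl1 c16 h).2.2 hc16, hl0⟩) (fun z hz => by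
        rcases List.mem_cons.1 hz with rfl | h
        · exact ⟨fun e => by rw [e, dg_triv] at hc16; norm_num at hc16, by rw [hc16]; norm_num⟩
        · exact ⟨(hl1 z h).1, (hl1 z h).2.1⟩) (484 + 729 + 64) (by
      rw [List.map_cons, List.sum_cons, hv16]
      linarith)
    have hdm : ∀ z ∈ B.xs, ival z t ∈ dm23 true (dg z) := fun z hz => by
      by_cases h : dg z = 990
      · have : ival z t = -18 := by
          rcases h990 z h with rfl | rfl
          · exact CfsgSimpleM22.ival_eq (by rw [show (z : G → ℂ) t = -18 from h13]; norm_num)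
          · exact CfsgSimpleM22.ival_eq (by rw [show (z : G → ℂ) t = -18 from h14]; norm_num)
        simp [dm23, h, this]
      · have := F.dom_value hG ht hcc' hz
        simpa [dm23, h] using this
    have hrow := row_memD hRQ hQ B hx' hx1 hG (by norm_num) ht hdm hnorm true (fun _ => by rw [he23]) hperm'
      (η := b9) (by simp [hyB]) (domY (η := b9) hG ht hcc' (hyB ▸ List.mem_cons_self))
    rw [hmap', twenty_three_ys hG B, he23, F.fB] at hrow
    have hr0 := List.all_eq_true.1 join0_row _ (by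
      rw [show (2688 : ℤ) - 1 - (484 + 729 + 64) = 2688 - 1 - 484 - 729 - 64 by norm_num] at hrow
      exact hrow)
    rw [beq_iff_eq] at hr0
    have hz : ∀ z ∈ B.xs, (dg z = 22 → ival z t = 6) ∧ (dg z = 231 → ival z t = 7) := by
      rcases xs' with _ | ⟨z0, _ | ⟨z1, _ | ⟨z2, _ | ⟨z3, _ | ⟨z4, _ | ⟨z5, _ | ⟨z6, _ | ⟨z7, _ | ⟨z8, _ | ⟨z9,
        _ | ⟨z10, r⟩⟩⟩⟩⟩⟩⟩⟩⟩⟩⟩ <;>
        simp only [join0, List.map_cons, List.map_nil, List.cons.injEq, reduceCtorEq, and_false] at hmap'
      simp only [List.map_cons, List.map_nil, List.cons_append, List.nil_append, List.cons.injEq, and_true] at hr0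
      intro z hz
      have hm := hperm'.symm.subset hz
      simp only [List.mem_cons, List.not_mem_nil, or_false] at hm
      rcases hm with rfl | rfl | rfl | rfl | rfl | rfl | rfl | rfl | rfl | rfl <;> omega
    have hB1 := (hz b1 (hpB.subset (by simp))).1 hb1
    have hB5 := (hz c5 (hpB.subset (by simp))).2 hc5
    have hB6 := (hz b6 (hpB.subset (by simp))).2 hb6
    have hB7 := (hz b7 (hpB.subset (by simp))).2 hb7
    have hB9 : ival b9 t = -14 := by
      have hl : xs'.length = 10 := by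
        rw [← List.length_map (fun χ : IrrCharacter G => dg χ), hmap']; rfl
      have := congrArg (fun l : List ℤ => l.getLast?) hr0
      simpa using this
    have hB10 : ival b10 t = -14 := by
      have h := B.agree b10 (by simp [hyB]) b9 (by simp [hyB]) t (by rw [ht]; norm_num)
      rw [ival_inv hG b10 ht, ival_inv hG b9 ht] at h
      rw [show ival b10 t = ival b9 t by exact_mod_cast h, hB9]
    have hv : ∀ {z : IrrCharacter G} {a : ℤ}, ival z t = a → (z : G → ℂ) t = (a : ℂ) := fun h => by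
      rw [ival_inv hG _ ht, h]
    have h8 : (c8 : G → ℂ) t = ((13 : ℤ) : ℂ) := by
      have e := sum_irr_mul_conj t 1
      rw [if_neg (fun hc => inv_ne_one ht (orderOf_eq_one_iff.mp ((orderOf_of_isConj hc).symm.trans orderOf_one))),
        ← Equiv.sum_comp (Equiv.ofBijective χ hbij)] at e
      simp only [Equiv.ofBijective_apply, Fin.sum_univ_succ, Fin.sum_univ_zero, irr_degree, map_natCast] at e
      simp only [χ, Matrix.cons_val_zero, Matrix.cons_val_succ] at e
      rw [triv_apply, hv hB1, hv hA2, hv hA3, hv hA4, hv hB5, hv hB6, hv hB7, hv hB9, hv hB10, hv hA11, hv hA12,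
        hv hA15, show (c13 : G → ℂ) t = -18 from h13, show (c14 : G → ℂ) t = -18 from h14,
        show (c16 : G → ℂ) t = 8 from h16] at e
      simp only [dg_triv, hb1, ha1, ha2, ha4, hc5, hb6, hb7, hc8, hdB9, hdB10, hdA11, hdA12, hdC13, hdC14, ha15,
        hc16] at e
      push_cast at e ⊢
      linear_combination e / 253
    intro i
    fin_cases i
    · show (triv G : G → ℂ) t = ((1 : ℤ) : ℂ); rw [triv_apply, Int.cast_one]
    all_goals
      first
        | exact hv hB1
        | exact hv hA2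
        | exact hv hA3
        | exact hv hA4
        | exact hv hB5
        | exact hv hB6
        | exact hv hB7
        | exact h8
        | exact hv hB9
        | exact hv hB10
        | exact hv hA11
        | exact hv hA12
        | exact hv hA15
        | (refine h13.trans ?_; norm_num [tvals])
        | (refine h14.trans ?_; norm_num [tvals])
        | (refine h16.trans ?_; norm_num [tvals])

/-- All involutions are conjugate. -/
theorem isConj_involution (hG : IsM23 G) (T : Tbl G) {s t : G} (hs : orderOf s = 2) (ht : orderOf t = 2) :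
    IsConj s t := by
  classical
  by_contra h
  have e := sum_irr_mul_conj s t
  rw [if_neg h, ← Equiv.sum_comp (Equiv.ofBijective T.χ T.bij)] at e
  simp only [Equiv.ofBijective_apply, T.invRow s hs, T.invRow t ht, map_intCast, ← Int.cast_mul, ← Int.cast_sum]
    at e
  have : (∑ i : Fin 17, tvals i * tvals i) = 0 := by exact_mod_cast e
  revert this
  decide

end CfsgSimpleM23
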