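/-
Simple groups of order 10200960: ninety-nine involutions commute with an involution; elements of order four.
-/
import Cfsg.Agent.Lib.SimpleM23.Table

set_option autoImplicit false
set_option linter.style.haveILetI false
set_option linter.unusedSectionVars false

namespace CfsgSimpleM23

open Cfsg CfsgLib.CharTheory CfsgSimpleM11 CfsgLib.Blocks
open CfsgSimpleM22 (cc)

universe u
variable {G : Type u} [Group G] [Fintype G]

theorem triple_aux : (∑ i : Fin 17, ((10200960 / D17 i : ℕ) : ℤ) * (tvals i * tvals i * tvals i)) =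
    98 * (2688 * 2688) := by decide +kernel

theorem Tbl.pairCount_inv (T : Tbl G) (hG : IsM23 G) {t : G} (ht : orderOf t = 2) : pairCount t t t = 98 := by
  classical
  have H := pairCount_mul t t t
  rw [← Equiv.sum_comp (Equiv.ofBijective T.χ T.bij)] at H
  simp only [Equiv.ofBijective_apply, clv, centralChar, irr_degree, T.deg, T.invRow t ht, map_intCast] at H
  have hm : ((Subgroup.centralizer ({t} : Set G)).index : ℂ) * (2688 : ℂ) = 10200960 := by
    rw [show (2688 : ℂ) = ((2688 : ℕ) : ℂ) by norm_num, ← T.cc_inv t ht, ← Nat.cast_mul,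
      Subgroup.index_mul_card, card_eq hG]
    norm_num
  have hcc : (Nat.card (Subgroup.centralizer ({t} : Set G)) : ℂ) = 2688 := by
    rw [show Nat.card (Subgroup.centralizer ({t} : Set G)) = cc t from rfl, T.cc_inv t ht]; norm_num
  rw [hcc] at H
  have hdiv : ∀ i : Fin 17, (((10200960 / D17 i : ℕ) : ℤ) : ℂ) = 10200960 / (D17 i : ℂ) := fun i => by
    rw [Int.cast_natCast, Nat.cast_div (by rw [← T.deg]; exact dg_dvd' hG _)
      (by rw [← T.deg]; exact_mod_cast (irr_charDegree_pos (T.χ i)).ne')]
    norm_num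
  have key : (((pairCount t t t : ℤ) * (2688 * 2688) : ℤ) : ℂ) = (((98 : ℤ) * (2688 * 2688) : ℤ) : ℂ) := by
    rw [← triple_aux, Int.cast_sum]
    simp only [Int.cast_mul, Int.cast_natCast, Int.cast_ofNat, hdiv]
    rw [← mul_assoc, H, Finset.sum_mul]
    refine Finset.sum_congr rfl fun i _ => ?_
    rw [← hm]
    ring
  have h : ((pairCount t t t : ℕ) : ℤ) * (2688 * 2688) = 98 * (2688 * 2688) := by exact_mod_cast key
  omega

/-- The other involutions commuting with an involution. -/
theorem Tbl.card_inv_commute (T : Tbl G) (hG : IsM23 G) {t : G} (ht : orderOf t = 2) :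
    Nat.card {u : G // orderOf u = 2 ∧ Commute u t ∧ u ≠ t} = 98 := by
  have htt : t * t = 1 := by rw [← pow_two, ← ht, pow_orderOf_eq_one]
  rw [← T.pairCount_inv hG ht]
  refine Nat.card_congr (Equiv.subtypeEquivRight fun u => ?_)
  constructor
  · rintro ⟨hu, hc, hne⟩
    have huu : u * u = 1 := by rw [← pow_two, ← hu, pow_orderOf_eq_one]
    refine ⟨isConj_involution hG T ht hu, isConj_involution hG T ht ?_⟩
    rw [inv_eq_of_mul_eq_one_right huu]
    refine orderOf_eq_prime ?_ fun h => hne ?_
    · rw [hc.mul_pow, pow_two, pow_two, huu, htt, one_mul]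
    · rw [← inv_eq_of_mul_eq_one_right huu]; exact inv_eq_of_mul_eq_one_right h
  · rintro ⟨h1, h2⟩
    have hu : orderOf u = 2 := (orderOf_of_isConj h1).trans ht
    have hv : orderOf (u⁻¹ * t) = 2 := (orderOf_of_isConj h2).trans ht
    have huu : u * u = 1 := by rw [← pow_two, ← hu, pow_orderOf_eq_one]
    have hui : u⁻¹ = u := inv_eq_of_mul_eq_one_right huu
    rw [hui] at hv
    refine ⟨hu, ?_, fun e => ?_⟩
    · have h := pow_orderOf_eq_one (u * t)
      rw [hv, pow_two] at h
      show u * t = t * u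
      calc u * t = (u * t)⁻¹ := (inv_eq_of_mul_eq_one_right h).symm
        _ = t * u := by rw [mul_inv_rev, hui, inv_eq_of_mul_eq_one_right htt]
    · subst e; rw [huu, orderOf_one] at hv; norm_num at hv

/-- An element of order four. -/
theorem Tbl.exists_four (T : Tbl G) (hG : IsM23 G) : ∃ g : G, orderOf g = 4 := by
  classical
  haveI : Fact (Nat.Prime 2) := ⟨Nat.prime_two⟩
  by_contra hno
  push Not at hno
  obtain ⟨t, ht⟩ := exists_involution hG
  obtain ⟨S, hS⟩ := (IsPGroup.of_card (n := 1) (by rw [Nat.card_zpowers, ht, pow_one]) :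
    IsPGroup 2 (Subgroup.zpowers t)).exists_le_sylow
  have hsq : ∀ z ∈ (S : Subgroup G), z * z = 1 := by
    intro z hz
    obtain ⟨k, hk⟩ := IsPGroup.iff_orderOf.1 S.isPGroup' ⟨z, hz⟩
    rw [Subgroup.orderOf_mk] at hk
    rcases Nat.lt_or_ge k 2 with hk2 | hk2
    · rw [← pow_two]
      exact orderOf_dvd_iff_pow_eq_one.1 (hk ▸ (pow_dvd_pow 2 (Nat.lt_succ_iff.1 hk2)))
    · exfalso
      refine hno (z ^ 2 ^ (k - 2)) ?_
      rw [orderOf_pow_of_dvd (by positivity) (hk ▸ pow_dvd_pow 2 (Nat.sub_le k 2)), hk,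
        Nat.pow_div (Nat.sub_le k 2) (by norm_num), show k - (k - 2) = 2 by omega]
  have hc : ∀ z ∈ (S : Subgroup G), Commute z t := fun z hz => by
    have htS := hS (Subgroup.mem_zpowers t)
    show z * t = t * z
    calc z * t = (z * t)⁻¹ := (inv_eq_of_mul_eq_one_right (hsq _ (mul_mem hz htS))).symm
      _ = t * z := by rw [mul_inv_rev, inv_eq_of_mul_eq_one_right (hsq z hz), inv_eq_of_mul_eq_one_right (hsq t htS)]
  have hle : (Set.toFinset ((S : Subgroup G) : Set G)) ⊆
      insert 1 (insert t (Finset.univ.filter fun u : G => orderOf u = 2 ∧ Commute u t ∧ u ≠ t)) := by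
    intro z hz
    rw [Set.mem_toFinset] at hz
    simp only [Finset.mem_insert, Finset.mem_filter, Finset.mem_univ, true_and]
    by_cases h1 : z = 1
    · exact Or.inl h1
    by_cases h2 : z = t
    · exact Or.inr (Or.inl h2)
    exact Or.inr (Or.inr ⟨orderOf_eq_prime (by rw [pow_two]; exact hsq z hz) h1, hc z hz, h2⟩)
  have h1 := Finset.card_le_card hle
  rw [Set.toFinset_card, ← Nat.card_eq_fintype_card,
    show Nat.card ((S : Subgroup G) : Set G) = 128 from card_sylow2 hG S] at h1
  have h2 : (Finset.univ.filter fun u : G => orderOf u = 2 ∧ Commute u t ∧ u ≠ t).card = 98 := by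
    rw [← Fintype.card_subtype, ← Nat.card_eq_fintype_card, T.card_inv_commute hG ht]
  have := (Finset.card_insert_le _ _).trans (Nat.add_le_add_right (Finset.card_insert_le t _) 1) |>.trans'  h1
  omega

end CfsgSimpleM23
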