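/-
Simple groups of order 10200960: the centraliser of an element of order seven has order fourteen.
-/
import Cfsg.Agent.Lib.SimpleM23.Table

set_option autoImplicit false
set_option linter.style.haveILetI false
set_option linter.unusedSectionVars false

namespace CfsgSimpleM23

open Cfsg CfsgLib.CharTheory CfsgSimpleM11
open CfsgSimpleM22 (cc BL exists_BL)
open CfsgLib.SmallSylow (inIdx)

universe u
variable {G : Type u} [Group G] [Fintype G]

theorem Tbl.card_classes (T : Tbl G) : Nat.card (ConjClasses G) = 17 := by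
  rw [← card_irr_eq_card_conjClasses, ← Nat.card_congr (Equiv.ofBijective T.χ T.bij), Nat.card_fin]

section
variable {p : ℕ} [Fact p.Prime] {P : Sylow p G}

/-- With odd inertial index no element inverts a generator. -/
theorem not_inverts (hodd : p ≠ 2) (hP : Nat.card P = p) (he : inIdx P % 2 = 1) {x : G}
    (hx : x ∈ (P : Subgroup G)) (hx1 : x ≠ 1) (g : G) : g * x * g⁻¹ ≠ x⁻¹ := by
  intro h
  have hz : Subgroup.zpowers x = (P : Subgroup G) :=
    (CfsgLib.Blocks.DefectOne.zpowers_eq (CfsgLib.Blocks.DefectOne.setup_sylow P hP) hP hx hx1).1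
  have hgN : g ∈ Subgroup.normalizer ((P : Subgroup G) : Set G) := by
    refine Subgroup.mem_normalizer_iff_map_conj_eq.mpr ?_
    rw [← hz, MonoidHom.map_zpowers]
    show Subgroup.zpowers (g * x * g⁻¹) = _
    rw [h, Subgroup.zpowers_inv]
  have h2 : g * g ∈ Subgroup.centralizer ((P : Subgroup G) : Set G) := by
    rw [← (CfsgLib.Blocks.DefectOne.setup_sylow P hP).star x hx hx1]
    refine Subgroup.mem_centralizer_singleton_iff.2 (mul_inv_eq_iff_eq_mul.1 ?_)
    calc g * g * x * (g * g)⁻¹ = g * (g * x * g⁻¹) * g⁻¹ := by group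
      _ = g * x⁻¹ * g⁻¹ := by rw [h]
      _ = (g * x * g⁻¹)⁻¹ := by group
      _ = x := by rw [h, inv_inv]
  set C := (Subgroup.centralizer ((P : Subgroup G) : Set G)).subgroupOf
    (Subgroup.normalizer ((P : Subgroup G) : Set G))
  haveI : C.Normal := by
    show ((Subgroup.centralizer ((P : Subgroup G) : Set G)).subgroupOf _).Normal
    rw [← Subgroup.normalizerMonoidHom_ker]
    exact MonoidHom.normal_ker _
  set q : (Subgroup.normalizer ((P : Subgroup G) : Set G)) ⧸ C := QuotientGroup.mk ⟨g, hgN⟩ with hq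
  have hq2 : q ^ 2 = 1 := by
    rw [hq, ← QuotientGroup.mk_pow, QuotientGroup.eq_one_iff, pow_two]
    exact h2
  have hd : orderOf q ∣ inIdx P := orderOf_dvd_natCard q
  have h1 : orderOf q = 1 := by
    rcases (Nat.dvd_prime Nat.prime_two).1 (orderOf_dvd_of_pow_eq_one hq2) with e | e
    · exact e
    · rw [e] at hd; omega
  rw [orderOf_eq_one_iff, hq, QuotientGroup.eq_one_iff] at h1
  have hc : x * g = g * x := Subgroup.mem_centralizer_iff.1 (Subgroup.mem_subgroupOf.1 h1) x hx
  rw [← hc, mul_inv_cancel_right] at h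
  have h4 : x ^ 2 = 1 := by rw [pow_two]; nth_rw 2 [h]; exact mul_inv_cancel x
  have h5 := orderOf_dvd_of_pow_eq_one h4
  rw [CfsgLib.SmallSylow.orderOf_mem P hP hx hx1] at h5
  rcases (Nat.dvd_prime Nat.prime_two).mp h5 with e | e
  · exact (Fact.out : p.Prime).ne_one e
  · exact hodd e

theorem not_conj_inv (hodd : p ≠ 2) (hP : Nat.card P = p) (he : inIdx P % 2 = 1) {x : G}
    (hx : x ∈ (P : Subgroup G)) (hx1 : x ≠ 1) : ¬ IsConj x x⁻¹ := fun h => by
  obtain ⟨g, hg⟩ := isConj_iff.1 h
  exact not_inverts hodd hP he hx hx1 g hg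

variable {H : Subgroup G}

theorem Reg.exists_mul (hR : Reg P H) (hP : Nat.card P = p) {c : G}
    (hc : c ∈ Subgroup.centralizer ((P : Subgroup G) : Set G)) : ∃ a ∈ (P : Subgroup G), ∃ h ∈ H, c = a * h := by
  classical
  have hp := (Fact.out : p.Prime)
  have hdisj : ∀ z ∈ (P : Subgroup G), z ∈ H → z = 1 := fun z hz hzH => by
    by_contra hz1
    exact hR.regular z hzH (by rw [CfsgLib.SmallSylow.orderOf_mem P hP hz hz1])
  let f : ↥(P : Subgroup G) × H → Subgroup.centralizer ((P : Subgroup G) : Set G) := fun z =>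
    ⟨z.1.1 * z.2.1, mul_mem (le_centralizer_of_prime P hP z.1.2) (hR.le z.2.2)⟩
  have hf : Function.Injective f := by
    intro a b hab
    have e : a.1.1 * a.2.1 = b.1.1 * b.2.1 := congrArg Subtype.val hab
    have e' : b.1.1⁻¹ * a.1.1 = b.2.1 * a.2.1⁻¹ := by
      calc b.1.1⁻¹ * a.1.1 = b.1.1⁻¹ * (a.1.1 * a.2.1) * a.2.1⁻¹ := by group
        _ = b.2.1 * a.2.1⁻¹ := by rw [e]; group
    have h1 := hdisj _ (mul_mem (inv_mem b.1.2) a.1.2) (by rw [e']; exact mul_mem b.2.2 (inv_mem a.2.2))
    have e1 : a.1.1 = b.1.1 := (inv_mul_eq_one.1 h1).symm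
    rw [e1] at e
    exact Prod.ext (Subtype.ext e1) (Subtype.ext (mul_left_cancel e))
  have hcard : Nat.card (↥(P : Subgroup G) × H) = Nat.card (Subgroup.centralizer ((P : Subgroup G) : Set G)) := by
    rw [Nat.card_prod, ← hR.card]
    exact congrArg (· * _) hP
  obtain ⟨z, hz⟩ := ((Nat.bijective_iff_injective_and_card f).2 ⟨hf, hcard⟩).2 ⟨c, hc⟩
  exact ⟨z.1.1, z.1.2, z.2.1, z.2.2, (congrArg Subtype.val hz).symm⟩

/-- Fusion of the products with the regular part. -/
theorem coset_conj [Fintype H] (hR : Reg P H) (hodd : p ≠ 2) (hP : Nat.card P = p) (he : inIdx P % 2 = 1) {x : G}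
    (hx : x ∈ (P : Subgroup G)) (hx1 : x ≠ 1) (b b' : Bool) (h h' : H)
    (hc : IsConj ((if b then x else x⁻¹) * (h : G)) ((if b' then x else x⁻¹) * (h' : G))) :
    b = b' ∧ IsConj h h' := by
  obtain ⟨g, hg⟩ := isConj_iff.1 hc
  set y := if b then x else x⁻¹ with hy
  set y' := if b' then x else x⁻¹ with hy'
  have hmy : ∀ z ∈ (P : Subgroup G), ∀ k : H, ∀ m : ℕ, x ^ m = x → (k : G) ^ m = 1 →
      (z = x ∨ z = x⁻¹) → (z * (k : G)) ^ m = z := fun z hz k m h1 h2 hzx => by
    have hcm : Commute z (k : G) := Subgroup.mem_centralizer_iff.1 (hR.le k.2) z hz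
    rw [hcm.mul_pow, h2, mul_one]
    rcases hzx with rfl | rfl
    · exact h1
    · rw [inv_pow, h1]
  have hyP : y ∈ (P : Subgroup G) ∧ (y = x ∨ y = x⁻¹) := by
    rw [hy]; split_ifs <;> [exact ⟨hx, Or.inl rfl⟩; exact ⟨inv_mem hx, Or.inr rfl⟩]
  have hyP' : y' ∈ (P : Subgroup G) ∧ (y' = x ∨ y' = x⁻¹) := by
    rw [hy']; split_ifs <;> [exact ⟨hx, Or.inl rfl⟩; exact ⟨inv_mem hx, Or.inr rfl⟩]
  obtain ⟨m, hm1, hm2⟩ : ∃ m : ℕ, x ^ m = x ∧ ∀ k : H, (k : G) ^ m = 1 := by
    have hp := (Fact.out : p.Prime)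
    have hco : Nat.Coprime p (Nat.card H) := by
      refine hp.coprime_iff_not_dvd.2 fun hd => ?_
      obtain ⟨w, hw⟩ := exists_prime_orderOf_dvd_card' p hd
      exact hR.regular w w.2 (by rw [Subgroup.orderOf_coe, hw])
    obtain ⟨m, hm1, hm2⟩ := Nat.chineseRemainder hco 1 0
    refine ⟨m, ?_, fun k => orderOf_dvd_iff_pow_eq_one.1
      ((Subgroup.orderOf_dvd_natCard H k.2).trans (Nat.modEq_zero_iff_dvd.1 hm2))⟩
    rw [pow_eq_pow_of_modEq hm1 (by rw [← CfsgLib.SmallSylow.orderOf_mem P hP hx hx1, pow_orderOf_eq_one]), pow_one]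
  have e : g * y * g⁻¹ = y' := by
    have e1 := congrArg (· ^ m) hg
    simp only [conj_pow] at e1
    rwa [hmy y hyP.1 h m hm1 (hm2 h) hyP.2, hmy y' hyP'.1 h' m hm1 (hm2 h') hyP'.2] at e1
  have hb : b = b' := by
    by_contra hne
    have key : g * y * g⁻¹ = y⁻¹ := by
      rw [e]
      revert hne
      rw [hy, hy']
      cases b <;> cases b' <;> simp
    rcases hyP.2 with e' | e' <;> rw [e'] at key
    · exact not_inverts hodd hP he hx hx1 g key
    · exact not_inverts hodd hP he hx hx1 g (by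
        have := congrArg Inv.inv key
        simpa [mul_assoc] using this)
  subst hb
  refine ⟨rfl, ?_⟩
  have hgC : g ∈ Subgroup.centralizer ((P : Subgroup G) : Set G) := by
    have hy1 : y ≠ 1 := by rcases hyP.2 with e' | e' <;> rw [e'] <;> simpa using hx1
    rw [← (CfsgLib.Blocks.DefectOne.setup_sylow P hP).star y hyP.1 hy1]
    exact Subgroup.mem_centralizer_singleton_iff.2 (mul_inv_eq_iff_eq_mul.1 e)
  have hgh : g * h * g⁻¹ = (h' : G) := by
    have e2 : g * y * g⁻¹ * (g * h * g⁻¹) = y * h' := by rw [← hg]; group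
    rw [e] at e2
    exact mul_left_cancel e2
  obtain ⟨a, ha, k, hk, rfl⟩ := hR.exists_mul hP hgC
  refine isConj_iff.2 ⟨⟨k, hk⟩, Subtype.ext ?_⟩
  have hak : Commute a (k * h * k⁻¹) :=
    Subgroup.mem_centralizer_iff.1 (hR.le (mul_mem (mul_mem hk h.2) (inv_mem hk))) a ha
  show k * (h : G) * k⁻¹ = h'
  rw [← hgh]
  calc k * (h : G) * k⁻¹ = a * (k * h * k⁻¹) * a⁻¹ := by rw [hak.eq, mul_inv_cancel_right]
    _ = a * k * h * (a * k)⁻¹ := by group

end

/-- A group of order sixteen has at least five classes. -/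
theorem five_le_classes {K : Type u} [Group K] [Fintype K] (h : Nat.card K = 16) :
    5 ≤ Nat.card (ConjClasses K) := by
  classical
  by_contra hlt
  push Not at hlt
  rw [← card_irr_eq_card_conjClasses, Nat.card_eq_fintype_card] at hlt
  have hsum := sum_irr_degree_sq (G := K)
  rw [h] at hsum
  simp only [irr_degree] at hsum
  have hsum' : ∑ χ : IrrCharacter K, dg χ ^ 2 = 16 := by exact_mod_cast hsum
  rw [← Finset.add_sum_erase _ _ (Finset.mem_univ (triv K)), dg_triv] at hsum'
  have hle : ∀ χ ∈ Finset.univ.erase (triv K), dg χ ^ 2 ≤ 4 := fun χ hχ => by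
    have hd : dg χ ∣ 16 := h ▸ dg_dvd χ
    have h1 := Finset.single_le_sum (f := fun χ : IrrCharacter K => dg χ ^ 2) (fun _ _ => Nat.zero_le _) hχ
    have h4 : dg χ < 4 := by
      by_contra h4
      have : 4 ^ 2 ≤ dg χ ^ 2 := Nat.pow_le_pow_left (by omega) 2
      omega
    have h3 : dg χ ≠ 3 := fun e => by rw [e] at hd; norm_num at hd
    have : dg χ ^ 2 ≤ 2 ^ 2 := Nat.pow_le_pow_left (by omega) 2
    omega
  have h2 := Finset.sum_le_card_nsmul _ _ _ hle
  rw [Finset.card_erase_of_mem (Finset.mem_univ _), Finset.card_univ, smul_eq_mul] at h2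
  omega

/-- An element of each prime order. -/
theorem exists_prime_element (hG : IsM23 G) {q : ℕ} (hq : q ∈ ([2, 3, 5, 7, 11, 23] : List ℕ)) :
    ∃ x : G, orderOf x = q := by
  have hp : q.Prime := by fin_cases hq <;> norm_num
  haveI := Fact.mk hp
  exact exists_prime_orderOf_dvd_card' q (by rw [card_eq hG]; fin_cases hq <;> norm_num)

theorem seven_full [Fact (Nat.Prime 7)] (hG : IsM23 G) (R : Sylow 7 G) {H : Subgroup G} (hR : Reg R H) :
    inIdx R = 3 ∧ (Nat.card H = 2 ∨ Nat.card H = 16) := by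
  haveI : Fact (Nat.Prime 11) := ⟨by norm_num⟩
  haveI : Fact (Nat.Prime 23) := ⟨by norm_num⟩
  obtain ⟨P, A, -⟩ := eleven_data hG
  obtain ⟨Q⟩ := (inferInstance : Nonempty (Sylow 23 G))
  have hQ : Nat.card Q = 23 := card_sylow_prime hG (by decide) Q
  obtain ⟨B⟩ := exists_BL (by norm_num) Q hQ (two_le_e hG Q hQ)
  obtain ⟨j, U, F⟩ := exists_frame hG A B
  have hR7 : Nat.card R = 7 := card_sylow_prime hG (by decide) R
  obtain ⟨C⟩ := exists_BL (by norm_num) R hR7 (two_le_e hG R hR7)
  obtain ⟨h1, h2, -⟩ := seven hG F C hR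
  exact ⟨h1, h2⟩

/-- The regular part of the centraliser of an element of order seven has order two. -/
theorem Tbl.card_reg_seven (T : Tbl G) [Fact (Nat.Prime 7)] (hG : IsM23 G) {R : Sylow 7 G} {H : Subgroup G}
    (hR : Reg R H) : inIdx R = 3 ∧ Nat.card H = 2 := by
  classical
  obtain ⟨he, hH⟩ := seven_full hG R hR
  refine ⟨he, hH.resolve_right fun h16 => ?_⟩
  haveI : Fact (Nat.Prime 11) := ⟨by norm_num⟩
  haveI : Fact (Nat.Prime 23) := ⟨by norm_num⟩
  haveI := Fintype.ofFinite H
  have hR7 : Nat.card R = 7 := card_sylow_prime hG (by decide) R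
  obtain ⟨x, hx, hx1⟩ := CfsgLib.SmallSylow.exists_mem_ne R hR7
  obtain ⟨P, -, y, he11, -, -, hy, hy1⟩ := eleven_data hG
  have hP : Nat.card P = 11 := card_sylow_prime hG (by decide) P
  obtain ⟨Q⟩ := (inferInstance : Nonempty (Sylow 23 G))
  have hQ : Nat.card Q = 23 := card_sylow_prime hG (by decide) Q
  obtain ⟨z, hz, hz1⟩ := CfsgLib.SmallSylow.exists_mem_ne Q hQ
  obtain ⟨t, ht⟩ := exists_prime_element hG (q := 2) (by simp)
  obtain ⟨c, hc⟩ := exists_prime_element hG (q := 3) (by simp)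
  obtain ⟨f, hf⟩ := exists_prime_element hG (q := 5) (by simp)
  have hoy := CfsgLib.SmallSylow.orderOf_mem P hP hy hy1
  have hoz := CfsgLib.SmallSylow.orderOf_mem Q hQ hz hz1
  let v : Fin 8 → G := ![1, t, c, f, y, y⁻¹, z, z⁻¹]
  let o : Fin 8 → ℕ := ![1, 2, 3, 5, 11, 11, 23, 23]
  have ho : ∀ i, orderOf (v i) = o i := by
    intro i; fin_cases i <;> simp [v, o, ht, hc, hf, hoy, hoz]
  have h7 : ∀ (b : Bool) (k : H), 7 ∣ orderOf ((if b then x else x⁻¹) * (k : G)) := fun b k => by
    have hw : (if b then x else x⁻¹) ∈ (R : Subgroup G) := by split_ifs <;> [exact hx; exact inv_mem hx]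
    have hw1 : (if b then x else x⁻¹) ≠ 1 := by split_ifs <;> simpa using hx1
    have how := CfsgLib.SmallSylow.orderOf_mem R hR7 hw hw1
    have hcm : Commute (if b then x else x⁻¹) (k : G) := Subgroup.mem_centralizer_iff.1 (hR.le k.2) _ hw
    rw [hcm.orderOf_mul_eq_mul_orderOf_of_coprime (by
      rw [how]; exact ((Fact.out : Nat.Prime 7).coprime_iff_not_dvd).2 (hR.regular _ k.2)), how]
    exact dvd_mul_right _ _
  let rep : ConjClasses H → H := Quotient.out
  let ι : Fin 8 ⊕ (Bool × ConjClasses H) → ConjClasses G := Sum.elim (fun i => ConjClasses.mk (v i))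
    fun q => ConjClasses.mk ((if q.1 then x else x⁻¹) * (rep q.2 : G))
  have hι : Function.Injective ι := by
    rintro (i | q) (i' | q') h <;> simp only [ι, Sum.elim_inl, Sum.elim_inr, ConjClasses.mk_eq_mk_iff_isConj] at h
    · have e := orderOf_of_isConj h
      rw [ho, ho] at e
      have n11 := not_conj_inv (P := P) (by norm_num) hP (by rw [he11]) hy hy1
      have n23 := not_conj_inv (P := Q) (by norm_num) hQ (by rw [(twenty_three hG Q).1]) hz hz1
      fin_cases i <;> fin_cases i' <;> simp [o] at e ⊢ <;>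
        first
          | exact n11 h
          | exact n11 h.symm
          | exact n23 h
          | exact n23 h.symm
    · exfalso
      have e := orderOf_of_isConj h
      have := h7 q'.1 (rep q'.2)
      rw [ho] at e
      have h7i : 7 ∣ o i := by
        convert this using 1
        exact e.symm
      clear this
      fin_cases i <;> norm_num [o] at h7i
    · exfalso
      have e := orderOf_of_isConj h
      have := h7 q.1 (rep q.2)
      rw [ho] at e
      have h7i : 7 ∣ o i' := by
        convert this using 1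
      clear this
      fin_cases i' <;> norm_num [o] at h7i
    · obtain ⟨e1, e2⟩ := coset_conj hR (by norm_num) hR7 (by rw [he]) hx hx1 q.1 q'.1 (rep q.2) (rep q'.2) h
      have e3 : ConjClasses.mk (rep q.2) = ConjClasses.mk (rep q'.2) := ConjClasses.mk_eq_mk_iff_isConj.2 e2
      rw [show ConjClasses.mk (rep q.2) = q.2 from Quotient.out_eq _,
        show ConjClasses.mk (rep q'.2) = q'.2 from Quotient.out_eq _] at e3
      exact congrArg Sum.inr (Prod.ext e1 e3)
  have h1 := Nat.card_le_card_of_injective ι hι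
  rw [Nat.card_sum, Nat.card_prod, Nat.card_fin, Nat.card_eq_fintype_card (α := Bool), Fintype.card_bool,
    T.card_classes] at h1
  have h2 := five_le_classes (K := H) h16
  omega

/-- The normaliser of a Sylow subgroup of order seven centralises an involution. -/
theorem Tbl.seven_local (T : Tbl G) [Fact (Nat.Prime 7)] (hG : IsM23 G) (R : Sylow 7 G) :
    ∃ t : G, orderOf t = 2 ∧ t ∈ Subgroup.centralizer ((R : Subgroup G) : Set G) ∧
      Nat.card (Subgroup.centralizer ((R : Subgroup G) : Set G)) = 14 ∧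
      Nat.card (Subgroup.normalizer ((R : Subgroup G) : Set G)) = 42 ∧
      Subgroup.normalizer ((R : Subgroup G) : Set G) ≤ Subgroup.centralizer ({t} : Set G) ∧
      ∀ u ∈ Subgroup.centralizer ((R : Subgroup G) : Set G), orderOf u = 2 → u = t := by
  classical
  have hR7 : Nat.card R = 7 := card_sylow_prime hG (by decide) R
  obtain ⟨H, hR⟩ := exists_reg R hR7
  obtain ⟨he, hH⟩ := T.card_reg_seven hG hR
  obtain ⟨t, htH, ht⟩ := exists_order Nat.prime_two (show 2 ∣ Nat.card H by rw [hH])
  have huniq : ∀ u ∈ Subgroup.centralizer ((R : Subgroup G) : Set G), orderOf u = 2 → u = t := by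
    intro u hu hu2
    have huH := hR.mem u hu (by rw [hu2]; norm_num)
    haveI : Fintype H := Fintype.ofFinite H
    by_contra hne
    have h3 : ({1, t, u} : Finset G) ⊆ (H : Set G).toFinset := by
      intro z hz
      simp only [Finset.mem_insert, Finset.mem_singleton] at hz
      rw [Set.mem_toFinset]
      rcases hz with rfl | rfl | rfl
      exacts [one_mem H, htH, huH]
    have h4 := Finset.card_le_card h3
    rw [Set.toFinset_card, ← Nat.card_eq_fintype_card, show Nat.card (H : Set G) = 2 from hH,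
      Finset.card_insert_of_notMem (by simp [(inv_ne_one ht).symm, (inv_ne_one hu2).symm]),
      Finset.card_pair (Ne.symm hne)] at h4
    omega
  have hC : Nat.card (Subgroup.centralizer ((R : Subgroup G) : Set G)) = 14 := by rw [← hR.card, hH]
  refine ⟨t, ht, hR.le htH, hC, ?_, fun g hg => ?_, huniq⟩
  · have h1 := Subgroup.card_mul_index
      ((Subgroup.centralizer ((R : Subgroup G) : Set G)).subgroupOf (Subgroup.normalizer ((R : Subgroup G) : Set G)))
    rw [Nat.card_congr (Subgroup.subgroupOfEquivOfLe (Subgroup.centralizer_le_normalizer _)).toEquiv, hC] at h1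
    rw [← h1]
    show 14 * inIdx R = 42
    rw [he]
  · have hgt : g * t * g⁻¹ ∈ Subgroup.centralizer ((R : Subgroup G) : Set G) := by
      rw [Subgroup.mem_centralizer_iff]
      intro z hz
      have hz' : g⁻¹ * z * g ∈ (R : Subgroup G) := by
        have := (Subgroup.mem_normalizer_iff.1 (inv_mem hg) z).1 hz
        simpa using this
      have e := Subgroup.mem_centralizer_iff.1 (hR.le htH) _ hz'
      calc z * (g * t * g⁻¹) = g * ((g⁻¹ * z * g) * t) * g⁻¹ := by group
        _ = g * (t * (g⁻¹ * z * g)) * g⁻¹ := by rw [e]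
        _ = g * t * g⁻¹ * z := by group
    have := huniq _ hgt (by rw [show g * t * g⁻¹ = MulAut.conj g t from rfl, MulEquiv.orderOf_eq, ht])
    exact Subgroup.mem_centralizer_singleton_iff.2 (mul_inv_eq_iff_eq_mul.1 this)

end CfsgSimpleM23
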