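/-
Simple groups of order 10200960: the centraliser of a real element of order three.
-/
import Cfsg.Agent.Lib.SimpleM23.CentSeven

set_option autoImplicit false
set_option linter.style.haveILetI false
set_option linter.unusedSectionVars false

namespace CfsgSimpleM23

open Cfsg CfsgLib.CharTheory CfsgSimpleM11
open CfsgSimpleM22 (cc ival ival_spec ival_eq ival_triv)

universe u

/-- The possible columns with values congruent to the degrees modulo three. -/
def col3 (C : ℕ) : List (List ℤ) :=
  (dom 3 C 896).flatMap fun e => (dom 3 C 45).flatMap fun a => (dom 3 C 45).flatMap fun b =>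
    (dom 3 C 1035).flatMap fun o =>
      let f := 1 + a + b + o - e
      let s := 1 + a * a + b * b + o * o + f * f + 2 * (e * e)
      if (dom 3 C 230).contains f && decide (s ≤ (C : ℤ)) then
        (dom 3 C 2024).flatMap fun z =>
          let y := 1 - o + z
          let p := z - 1 - 2 * e
          let s' := s + z * z + 2 * (y * y) + p * p
          if (dom 3 C 990).contains y && (dom 3 C 231).contains p && decide (s' ≤ (C : ℤ)) then
            (dom 3 C 231).flatMap fun q => (dom 3 C 231).flatMap fun r =>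
              if decide (s' + q * q + r * r ≤ (C : ℤ)) then
                (dom 3 C 22).flatMap fun v =>
                  let w := 1 + p + q + r - a - b - v + 2 * y - 2 * e
                  let S := 1 + 22 * v + 45 * a + 45 * b + 230 * f + 231 * p + 231 * q + 231 * r + 1540 * w +
                    1792 * e + 1980 * y + 1035 * o + 2024 * z
                  let g := -S / 253
                  if (dom 3 C 770).contains w && (S % 253 == 0) && (dom 3 C 253).contains g &&
                      (s' + q * q + r * r + v * v + 2 * (w * w) + g * g == (C : ℤ)) then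
                    [[1, v, a, b, f, p, q, r, g, w, w, e, e, y, y, o, z]]
                  else []
              else []
          else []
      else []

/-- The possible orders of the centraliser of an element of order three. -/
def cents9 : List ℕ := [9, 18, 36, 45, 72, 90, 144, 180, 288, 360, 576, 720, 1152, 1440, 2880, 5760]

/-- The column of a real element of order three. -/
def ccol : List ℤ := [1, 4, 0, 0, 5, 6, -3, -3, 1, 5, 5, -4, -4, 0, 0, 0, -1]

theorem col3_aux : (cents9.all fun C => (col3 C).all fun w => (C == 180) && (w == ccol)) = true := by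
  decide +kernel

theorem cents9_aux : ((List.range 641).all fun k => (640 % k != 0) || cents9.contains (9 * k)) = true := by
  decide +kernel

variable {G : Type u} [Group G] [Fintype G]

theorem cc3_mem (hG : IsM23 G) (T : Tbl G) {c : G} (hc : orderOf c = 3) : cc c ∈ cents9 := by
  haveI : Fact (Nat.Prime 3) := ⟨Nat.prime_three⟩
  haveI : Fact (Nat.Prime 7) := ⟨by norm_num⟩
  obtain ⟨P, hP⟩ := (IsPGroup.of_card (n := 1) (by rw [Nat.card_zpowers, hc, pow_one]) :
    IsPGroup 3 (Subgroup.zpowers c)).exists_le_sylow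
  haveI : IsMulCommutative (P : Subgroup G) :=
    IsPGroup.isMulCommutative_of_card_eq_prime_sq (show Nat.card (P : Subgroup G) = 3 ^ 2 by
      rw [card_sylow3 hG P]; norm_num)
  have h9 : 9 ∣ cc c := by
    rw [← card_sylow3 hG P]
    refine Subgroup.card_dvd_of_le fun z hz => Subgroup.mem_centralizer_singleton_iff.2 ?_
    exact congrArg Subtype.val (IsMulCommutative.is_comm.comm (⟨z, hz⟩ : (P : Subgroup G))
      ⟨c, hP (Subgroup.mem_zpowers c)⟩)
  have c23 := not_dvd23_cc hG (g := c) (by rw [hc]; norm_num)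
  have c11 := not_dvd11_cc hG (g := c) (by rw [hc]; norm_num)
  have c7 : ¬ 7 ∣ cc c := fun h7 => by
    obtain ⟨R, H, hR, hcH⟩ := exists_sylow_reg (p := 7) hG (by decide) (by rw [hc]; norm_num) h7
    have := Subgroup.orderOf_dvd_natCard H hcH
    rw [hc, (T.card_reg_seven hG hR).2] at this
    norm_num at this
  have h5760 : cc c ∣ 5760 := by
    refine Nat.Coprime.dvd_of_dvd_mul_right ?_ (show cc c ∣ 5760 * 1771 from cc_dvd hG c)
    exact ((((Nat.Prime.coprime_iff_not_dvd (by norm_num)).2 c7).mul_left
      ((Nat.Prime.coprime_iff_not_dvd (by norm_num)).2 c11)).mul_left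
      ((Nat.Prime.coprime_iff_not_dvd (by norm_num)).2 c23)).symm
  obtain ⟨k, hk⟩ := h9
  have hd : k ∣ 640 := (Nat.mul_dvd_mul_iff_left (by norm_num : 0 < 9)).1 (by rw [← hk]; exact h5760)
  have := List.all_eq_true.1 cents9_aux k (List.mem_range.2 (Nat.lt_succ_of_le (Nat.le_of_dvd (by norm_num) hd)))
  rw [hk]
  simpa [Nat.mod_eq_zero_of_dvd hd] using this

/-- The values at a real element of order three are integers. -/
theorem int_three (χ : IrrCharacter G) {c : G} (hc : orderOf c = 3) (hr : IsConj c c⁻¹) (hG : IsM23 G) :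
    ∃ v : ℤ, (χ : G → ℂ) c = v := by
  refine rational_int_of_invariant (isCharacter_of_irr χ.2) c fun m hm => ?_
  have h3 : m % 3 = 1 ∨ m % 3 = 2 := by
    have : ¬ 3 ∣ m := fun h => by
      rw [card_eq hG] at hm
      exact absurd (Nat.eq_one_of_dvd_coprimes hm h (by norm_num)) (by norm_num)
    omega
  rw [← pow_mod_orderOf, hc]
  rcases h3 with e | e <;> rw [e]
  · rw [pow_one]
  · rw [show c ^ 2 = c⁻¹ from eq_inv_of_mul_eq_one_left (by rw [← pow_succ, show 2 + 1 = orderOf c from hc.symm, pow_orderOf_eq_one])]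
    exact (irr_of_isConj χ hr).symm

theorem sum17 {M : Type*} [AddCommMonoid M] (f : Fin 17 → M) :
    ∑ i, f i = f 0 + f 1 + f 2 + f 3 + f 4 + f 5 + f 6 + f 7 + f 8 + f 9 + f 10 + f 11 + f 12 + f 13 + f 14 +
      f 15 + f 16 := by
  rw [← List.sum_ofFn, show List.ofFn f = [f 0, f 1, f 2, f 3, f 4, f 5, f 6, f 7, f 8, f 9, f 10, f 11, f 12,
    f 13, f 14, f 15, f 16] from rfl]
  simp only [List.sum_cons, List.sum_nil, add_zero, add_assoc]

/-- The column of a real element of order three. -/
theorem Tbl.three_col (T : Tbl G) (hG : IsM23 G) {c : G} (hc : orderOf c = 3) (hr : IsConj c c⁻¹) :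
    cc c = 180 ∧ (List.ofFn fun i => ival (T.χ i) c) = ccol := by
  classical
  haveI : Fact (Nat.Prime 3) := ⟨Nat.prime_three⟩
  have hc1 : c ≠ 1 := fun e => by rw [e, orderOf_one] at hc; norm_num at hc
  set v : Fin 17 → ℤ := fun i => ival (T.χ i) c with hv
  have hint : ∀ i, (T.χ i : G → ℂ) c = (v i : ℂ) := fun i => by
    obtain ⟨w, hw⟩ := int_three (T.χ i) hc hr hG
    exact ival_spec hw
  have hne : ∀ i : Fin 17, i ≠ 0 → T.χ i ≠ triv G := fun i hi e => hi (T.bij.1 (e.trans T.first.symm))
  have hnorm : ∑ i, v i ^ 2 = (cc c : ℤ) := by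
    have h := cc_eq_sum c
    rw [← Equiv.sum_comp (Equiv.ofBijective T.χ T.bij)] at h
    simp only [Equiv.ofBijective_apply, hint, Complex.norm_intCast, sq_abs] at h
    exact_mod_cast h.symm
  have hdom : ∀ i, i ≠ 0 → v i ∈ dom 3 (cc c) (D17 i) := by
    intro i hi
    rw [← T.deg]
    refine mem_dom (by norm_num) (cent_le hG hc1) ?_ ?_ ?_ (dg_dvd_index_mul hG _ (hint i))
    · have := modEq_degree (T.χ i) (p := 3) (k := 1) (y := c) (by rw [pow_one, ← hc, pow_orderOf_eq_one]) (hint i)
      exact_mod_cast this.symm.dvd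
    · rw [← hnorm, ← pow_two]
      exact Finset.single_le_sum (f := fun i => v i ^ 2) (fun _ _ => sq_nonneg _) (Finset.mem_univ i)
    · have h1 : v i ≠ (dg (T.χ i) : ℤ) := fun e =>
        faithful_value hG (hne i hi) hc1 (by rw [hint i, e, Int.cast_natCast])
      have h2 : v i ≠ -(dg (T.χ i) : ℤ) := fun e =>
        neg_degree_ne hG (hne i hi) hc1 (by rw [hint i, e, Int.cast_neg, Int.cast_natCast])
      have h3 := norm_char_le (isCharacter_of_irr (T.χ i).2) c
      rw [hint i, irr_degree, Complex.norm_intCast, Complex.norm_natCast] at h3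
      have h4 : |v i| ≤ (dg (T.χ i) : ℤ) := by exact_mod_cast h3
      rw [abs_le] at h4
      omega
  have h0 : v 0 = 1 := by simp only [hv, T.first, ival_triv]
  have e10 : v 10 = v 9 := by
    have h := T.agree23 c (by rw [hc]; norm_num)
    rw [hint, hint] at h
    exact_mod_cast h
  have e12 : v 12 = v 11 := by
    have h := T.agree11 c (by rw [hc]; norm_num)
    rw [hint, hint] at h
    exact_mod_cast h
  have e14 : v 14 = v 13 := by
    have h := T.agree7 c (by rw [hc]; norm_num)
    rw [hint, hint] at h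
    exact_mod_cast h
  have e4 : v 4 = 1 + v 2 + v 3 + v 15 - v 11 := by
    have h := T.rel11 c (by rw [hc]; norm_num)
    simp only [hint] at h
    have h' : (1 : ℤ) + v 2 + v 3 - v 4 + v 15 - v 11 = 0 := by exact_mod_cast h
    linarith
  have e13 : v 13 = 1 - v 15 + v 16 := by
    have h := T.rel7 c (by rw [hc]; norm_num)
    simp only [hint] at h
    have h' : (1 : ℤ) - v 15 + v 16 - v 13 = 0 := by exact_mod_cast h
    linarith
  have e5 : v 5 = v 16 - 1 - 2 * v 11 := by
    have h := T.rel5 c (by rw [hc]; norm_num)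
    simp only [hint] at h
    have h' : (1 : ℤ) + v 5 + v 11 + v 12 - v 16 = 0 := by exact_mod_cast h
    linarith
  have e9 : v 9 = 1 + v 5 + v 6 + v 7 - v 2 - v 3 - v 1 + 2 * v 13 - 2 * v 11 := by
    have h := T.rel23 c (by rw [hc]; norm_num)
    simp only [hint] at h
    have h' : (1 : ℤ) + v 5 + v 6 + v 7 - v 2 - v 3 - v 1 + v 13 + v 14 - v 11 - v 12 - v 9 = 0 := by
      exact_mod_cast h
    linarith
  have hS : ∑ i, (D17 i : ℤ) * v i = 0 := by
    have e := sum_irr_mul_conj c 1
    rw [if_neg (fun h => hc1 (isConj_one_left.1 h)), ← Equiv.sum_comp (Equiv.ofBijective T.χ T.bij)] at e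
    simp only [Equiv.ofBijective_apply, irr_degree, map_natCast, hint] at e
    have e' : ∑ i, v i * (D17 i : ℤ) = 0 := by
      rw [← Int.cast_inj (α := ℂ), Int.cast_sum, Int.cast_zero]
      refine Eq.trans (Finset.sum_congr rfl fun i _ => ?_) e
      rw [← T.deg]
      push_cast
      rfl
    rw [← e']
    exact Finset.sum_congr rfl fun i _ => mul_comm _ _
  simp only [sum17, h0, e10, e12, e14] at hS hnorm
  simp only [D17, Matrix.cons_val] at hS
  norm_num at hS
  have hd : ∀ (i : Fin 17) (d : ℕ), i ≠ 0 → D17 i = d → v i ∈ dom 3 (cc c) d := fun i d hi e => e ▸ hdom i hi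
  have hmem : (List.ofFn v) ∈ col3 (cc c) := by
    rw [col3, List.mem_flatMap]
    refine ⟨v 11, hd 11 896 (by decide) rfl, List.mem_flatMap.2 ⟨v 2, hd 2 45 (by decide) rfl,
      List.mem_flatMap.2 ⟨v 3, hd 3 45 (by decide) rfl, List.mem_flatMap.2 ⟨v 15, hd 15 1035 (by decide) rfl, ?_⟩⟩⟩⟩
    simp only [← e4]
    simp only [pow_two, one_mul] at hnorm
    have q1 := mul_self_nonneg (v 1); have q6 := mul_self_nonneg (v 6); have q7 := mul_self_nonneg (v 7)
    have q8 := mul_self_nonneg (v 8); have q9 := mul_self_nonneg (v 9); have q5 := mul_self_nonneg (v 5)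
    have q13 := mul_self_nonneg (v 13); have q16 := mul_self_nonneg (v 16); have q11 := mul_self_nonneg (v 11)
    have q15 := mul_self_nonneg (v 15); have q2 := mul_self_nonneg (v 2); have q3 := mul_self_nonneg (v 3)
    have q4 := mul_self_nonneg (v 4)
    rw [if_pos (by
      simp only [Bool.and_eq_true, List.contains_iff_mem, decide_eq_true_eq]
      exact ⟨hd 4 230 (by decide) rfl, by linarith⟩)]
    refine List.mem_flatMap.2 ⟨v 16, hd 16 2024 (by decide) rfl, ?_⟩
    simp only [← e13, ← e5]
    rw [if_pos (by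
      simp only [Bool.and_eq_true, List.contains_iff_mem, decide_eq_true_eq]
      exact ⟨⟨hd 13 990 (by decide) rfl, hd 5 231 (by decide) rfl⟩, by linarith⟩)]
    refine List.mem_flatMap.2 ⟨v 6, hd 6 231 (by decide) rfl, List.mem_flatMap.2 ⟨v 7, hd 7 231 (by decide) rfl, ?_⟩⟩
    rw [if_pos (decide_eq_true (by linarith))]
    refine List.mem_flatMap.2 ⟨v 1, hd 1 22 (by decide) rfl, ?_⟩
    simp only [← e9]
    set S := 1 + 22 * v 1 + 45 * v 2 + 45 * v 3 + 230 * v 4 + 231 * v 5 + 231 * v 6 + 231 * v 7 + 1540 * v 9 +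
      1792 * v 11 + 1980 * v 13 + 1035 * v 15 + 2024 * v 16 with hSdef
    have hg : S = -253 * v 8 := by linarith
    have hdiv : -S / 253 = v 8 := by omega
    rw [hdiv, if_pos (by
      simp only [Bool.and_eq_true, List.contains_iff_mem, beq_iff_eq]
      exact ⟨⟨⟨hd 9 770 (by decide) rfl, by omega⟩, hd 8 253 (by decide) rfl⟩, by linarith⟩)]
    simp [List.ofFn_succ, h0, e10, e12, e14]
  have h := List.all_eq_true.1 (List.all_eq_true.1 col3_aux _ (cc3_mem hG T hc)) _ hmem
  simp only [Bool.and_eq_true, beq_iff_eq] at h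
  exact h

end CfsgSimpleM23
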