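/-
Simple groups of order 10200960: elements of order three commuting with an involution.
-/
import Cfsg.Agent.Lib.SimpleM23.ThreeCol
import Cfsg.Agent.Lib.SimpleM23.InvCount

set_option autoImplicit false
set_option linter.style.haveILetI false
set_option linter.unusedSectionVars false

namespace CfsgSimpleM23

open Cfsg CfsgLib.CharTheory CfsgSimpleM11
open CfsgSimpleM22 (cc BL)
open CfsgLib.SmallSylow (inIdx)

universe u
variable {G : Type u} [Group G] [Fintype G]

omit [Fintype G] in
theorem pow_conj_of_isConj {a b : G} (k : ℕ) (h : IsConj a b) : IsConj (a ^ k) (b ^ k) := by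
  obtain ⟨g, hg⟩ := isConj_iff.1 h
  exact isConj_iff.2 ⟨g, by rw [← conj_pow, hg]⟩

omit [Fintype G] in
theorem pow_of_mul {a b : G} (h : Commute a b) {k : ℕ} (hb : orderOf b ∣ k) (ha : k % orderOf a = 1 % orderOf a) :
    (a * b) ^ k = a := by
  rw [h.mul_pow, orderOf_dvd_iff_pow_eq_one.1 hb, mul_one, ← pow_mod_orderOf a k, ha, pow_mod_orderOf, pow_one]

/-- An element of order three commuting with an involution is conjugate to its inverse. -/
theorem Tbl.real_three (T : Tbl G) (hG : IsM23 G) {c t : G} (hc : orderOf c = 3) (ht : orderOf t = 2)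
    (hct : Commute c t) : IsConj c c⁻¹ := by
  classical
  by_contra hnr
  haveI : Fact (Nat.Prime 11) := ⟨by norm_num⟩
  haveI : Fact (Nat.Prime 23) := ⟨by norm_num⟩
  haveI : Fact (Nat.Prime 7) := ⟨by norm_num⟩
  haveI : Fact (Nat.Prime 5) := ⟨by norm_num⟩
  obtain ⟨g4, hg4⟩ := T.exists_four hG
  -- eleven and twenty-three
  obtain ⟨P, -, y, he11, -, -, hy, hy1⟩ := eleven_data hG
  have hP : Nat.card P = 11 := card_sylow_prime hG (by decide) P
  obtain ⟨Q⟩ := (inferInstance : Nonempty (Sylow 23 G))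
  have hQ : Nat.card Q = 23 := card_sylow_prime hG (by decide) Q
  obtain ⟨z, hz, hz1⟩ := CfsgLib.SmallSylow.exists_mem_ne Q hQ
  -- seven
  obtain ⟨R⟩ := (inferInstance : Nonempty (Sylow 7 G))
  have hR7 : Nat.card R = 7 := card_sylow_prime hG (by decide) R
  obtain ⟨x, hx, hx1⟩ := CfsgLib.SmallSylow.exists_mem_ne R hR7
  obtain ⟨u, hu, huC, -, -, -, -⟩ := T.seven_local hG R
  obtain ⟨K, hK⟩ := exists_reg R hR7
  have he7 := (T.card_reg_seven hG hK).1
  -- five
  obtain ⟨S⟩ := (inferInstance : Nonempty (Sylow 5 G))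
  have hS5 : Nat.card S = 5 := card_sylow_prime hG (by decide) S
  obtain ⟨H, hH⟩ := exists_reg S hS5
  obtain ⟨f, hf, hf1⟩ := CfsgLib.SmallSylow.exists_mem_ne S hS5
  have hH3 : Nat.card H = 3 := by
    have h := hH.card
    rw [(five hG S).2.2.1] at h
    have h' : 5 * Nat.card H = 15 := by rw [← h]
    omega
  obtain ⟨w, hwH, hw⟩ := exists_order Nat.prime_three (show 3 ∣ Nat.card H by rw [hH3])
  have hfw : Commute f w := Subgroup.mem_centralizer_iff.1 (hH.le hwH) f hf
  have hxu : Commute x u := Subgroup.mem_centralizer_iff.1 huC x hx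
  have hox := CfsgLib.SmallSylow.orderOf_mem R hR7 hx hx1
  have hof := CfsgLib.SmallSylow.orderOf_mem S hS5 hf hf1
  have hoy := CfsgLib.SmallSylow.orderOf_mem P hP hy hy1
  have hoz := CfsgLib.SmallSylow.orderOf_mem Q hQ hz hz1
  -- the separations
  have n3 : ¬ IsConj (c * t) (c⁻¹ * t) := fun h => hnr <| by
    have h4 := pow_conj_of_isConj 4 h
    rwa [pow_of_mul hct (by rw [ht]; norm_num) (by rw [hc]),
      pow_of_mul hct.inv_left (by rw [ht]; norm_num) (by rw [orderOf_inv, hc])] at h4
  have n7 := not_conj_inv (P := R) (by norm_num) hR7 (by rw [he7]) hx hx1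
  have n14 : ¬ IsConj (x * u) (x⁻¹ * u) := fun h => n7 <| by
    have h8 := pow_conj_of_isConj 8 h
    rwa [pow_of_mul hxu (by rw [hu]; norm_num) (by rw [hox]),
      pow_of_mul hxu.inv_left (by rw [hu]; norm_num) (by rw [orderOf_inv, hox])] at h8
  have n15 : ¬ IsConj (f * w) (f * w⁻¹) := fun h => by
    obtain ⟨g, hg⟩ := isConj_iff.1 h
    have h6 := congrArg (· ^ 6) hg
    simp only [conj_pow] at h6
    rw [pow_of_mul hfw (by rw [hw]; norm_num) (by rw [hof]),
      pow_of_mul hfw.inv_right (by rw [orderOf_inv, hw]; norm_num) (by rw [hof])] at h6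
    have hgC : g ∈ Subgroup.centralizer ((S : Subgroup G) : Set G) := by
      rw [← (CfsgLib.Blocks.DefectOne.setup_sylow S hS5).star f hf hf1]
      exact Subgroup.mem_centralizer_singleton_iff.2 (mul_inv_eq_iff_eq_mul.1 h6)
    obtain ⟨a, ha, k, hk, rfl⟩ := hH.exists_mul hS5 hgC
    haveI : Fact (Nat.Prime 3) := ⟨Nat.prime_three⟩
    haveI : IsCyclic H := isCyclic_of_prime_card hH3
    letI : CommGroup H := IsCyclic.commGroup
    have hkw : k * w = w * k := congrArg Subtype.val (mul_comm (⟨k, hk⟩ : H) ⟨w, hwH⟩)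
    have haw : a * w = w * a := Subgroup.mem_centralizer_iff.1 (hH.le hwH) a ha
    have hgw : Commute (a * k) w := (show Commute a w from haw).mul_left hkw
    have e : w = w⁻¹ := by
      have e1 : (a * k) * (f * w) * (a * k)⁻¹ = f * w := by
        calc (a * k) * (f * w) * (a * k)⁻¹ = ((a * k) * f * (a * k)⁻¹) * ((a * k) * w * (a * k)⁻¹) := by group
          _ = f * w := by rw [h6, hgw.eq, mul_inv_cancel_right]
      rw [e1] at hg
      exact mul_left_cancel hg
    have h2 : w ^ 2 = 1 := by rw [pow_two]; nth_rw 2 [e]; exact mul_inv_cancel w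
    have := orderOf_dvd_of_pow_eq_one h2
    rw [hw] at this
    norm_num at this
  have n11 := not_conj_inv (P := P) (by norm_num) hP (by rw [he11]) hy hy1
  have n23 := not_conj_inv (P := Q) (by norm_num) hQ (by rw [(twenty_three hG Q).1]) hz hz1
  let v : Fin 18 → G :=
    ![1, t, g4, f, c, c⁻¹, c * t, c⁻¹ * t, x, x⁻¹, y, y⁻¹, x * u, x⁻¹ * u, f * w, f * w⁻¹, z, z⁻¹]
  let o : Fin 18 → ℕ := ![1, 2, 4, 5, 3, 3, 6, 6, 7, 7, 11, 11, 14, 14, 15, 15, 23, 23]
  have h6a : orderOf (c * t) = 6 := by
    rw [hct.orderOf_mul_eq_mul_orderOf_of_coprime (by rw [hc, ht]; norm_num), hc, ht]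
  have h6b : orderOf (c⁻¹ * t) = 6 := by
    rw [hct.inv_left.orderOf_mul_eq_mul_orderOf_of_coprime (by rw [orderOf_inv, hc, ht]; norm_num), orderOf_inv, hc, ht]
  have h14a : orderOf (x * u) = 14 := by
    rw [hxu.orderOf_mul_eq_mul_orderOf_of_coprime (by rw [hox, hu]; norm_num), hox, hu]
  have h14b : orderOf (x⁻¹ * u) = 14 := by
    rw [hxu.inv_left.orderOf_mul_eq_mul_orderOf_of_coprime (by rw [orderOf_inv, hox, hu]; norm_num), orderOf_inv, hox, hu]
  have h15a : orderOf (f * w) = 15 := by
    rw [hfw.orderOf_mul_eq_mul_orderOf_of_coprime (by rw [hof, hw]; norm_num), hof, hw]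
  have h15b : orderOf (f * w⁻¹) = 15 := by
    rw [hfw.inv_right.orderOf_mul_eq_mul_orderOf_of_coprime (by rw [orderOf_inv, hof, hw]; norm_num), orderOf_inv, hof, hw]
  have ho : ∀ i, orderOf (v i) = o i := by
    intro i; fin_cases i <;> simp [v, o, ht, hg4, hof, hc, hox, hoy, hoz, h6a, h6b, h14a, h14b, h15a, h15b]
  have hι : Function.Injective fun i => ConjClasses.mk (v i) := by
    intro i i' h
    simp only [ConjClasses.mk_eq_mk_iff_isConj] at h
    have e := orderOf_of_isConj h
    rw [ho, ho] at e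
    fin_cases i <;> fin_cases i' <;> simp [o] at e ⊢ <;>
      first
        | exact hnr h
        | exact hnr h.symm
        | exact n3 h
        | exact n3 h.symm
        | exact n7 h
        | exact n7 h.symm
        | exact n11 h
        | exact n11 h.symm
        | exact n14 h
        | exact n14 h.symm
        | exact n15 h
        | exact n15 h.symm
        | exact n23 h
        | exact n23 h.symm
  have h1 := Nat.card_le_card_of_injective _ hι
  rw [Nat.card_fin, T.card_classes] at h1
  omega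

/-- The centraliser of an element of order three commuting with an involution. -/
theorem Tbl.cc_three (T : Tbl G) (hG : IsM23 G) {c t : G} (hc : orderOf c = 3) (ht : orderOf t = 2)
    (hct : Commute c t) : cc c = 180 :=
  (T.three_col hG hc (T.real_three hG hc ht hct)).1

end CfsgSimpleM23
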