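/-
A group of order twenty-one acting on an abelian group, and fixed points of conjugation modulo a prime.
-/
import Mathlib

set_option autoImplicit false
set_option linter.style.haveILetI false
set_option linter.unusedSectionVars false

namespace CfsgSimpleM23

universe u

/-- Conjugation by an element of order dividing `p` fixes as many elements of an invariant set, modulo `p`. -/
theorem card_fixed_mod {G : Type u} [Group G] [Finite G] {p : ℕ} [Fact p.Prime] {S : Set G} {z : G}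
    (hz : z ^ p = 1) (hS : ∀ s ∈ S, z * s * z⁻¹ ∈ S) :
    Nat.card S % p = Nat.card {s : G | s ∈ S ∧ Commute s z} % p := by
  classical
  haveI := Fintype.ofFinite G
  let f : Function.End S := fun s => ⟨z * s.1 * z⁻¹, hS _ s.2⟩
  have hit : ∀ (n : ℕ) (s : S), ((f ^ n) s).1 = z ^ n * s.1 * (z ^ n)⁻¹ := by
    intro n
    induction n with
    | zero => intro s; show s.1 = _; simp
    | succ n ih =>
      intro s
      rw [pow_succ, pow_succ]
      show ((f ^ n) (f s)).1 = _
      rw [ih]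
      show z ^ n * (z * s.1 * z⁻¹) * (z ^ n)⁻¹ = _
      group
  have hf : f ^ p ^ 1 = 1 := by
    funext s
    refine Subtype.ext ?_
    rw [pow_one, hit, hz]
    show (1 : G) * _ * (1 : G)⁻¹ = _
    simp
    rfl
  have h := Equiv.Perm.card_fixedPoints_modEq hf
  rw [Nat.card_eq_fintype_card, Nat.card_eq_fintype_card]
  refine h.trans (congrArg (· % p) ?_)
  refine Fintype.card_congr
    { toFun := fun x => ⟨x.1.1, x.1.2, ?_⟩
      invFun := fun x => ⟨⟨x.1, x.2.1⟩, ?_⟩
      left_inv := fun _ => rfl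
      right_inv := fun _ => rfl }
  · have h2 : z * x.1.1 * z⁻¹ = x.1.1 := congrArg Subtype.val x.2
    exact (mul_inv_eq_iff_eq_mul.mp h2).symm
  · exact Subtype.ext (mul_inv_eq_iff_eq_mul.mpr x.2.2.symm)

/-- A group of order twenty-one without fixed points on an abelian group: the group has exponent seven. -/
theorem frob_abelian {Q : Type u} [Group Q] {A : Subgroup Q} (hA : ∀ a ∈ A, ∀ b ∈ A, a * b = b * a) {x c : Q}
    {k : ℕ} (hk : k = 2 ∨ k = 4) (hx : x ^ 7 = 1) (hc : c ^ 3 = 1) (hcx : c * x * c⁻¹ = x ^ k)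
    (hxA : x ∈ Subgroup.normalizer (A : Set Q)) (hcA : c ∈ Subgroup.normalizer (A : Set Q))
    (fx : ∀ v ∈ A, Commute v x → v = 1) (fc : ∀ v ∈ A, Commute v c → v = 1) : ∀ v ∈ A, v ^ 7 = 1 := by
  classical
  letI : CommGroup A := { (inferInstance : Group A) with mul_comm := fun a b => Subtype.ext (hA _ a.2 _ b.2) }
  have hn : ∀ {g : Q}, g ∈ Subgroup.normalizer (A : Set Q) → ∀ v ∈ A, g * v * g⁻¹ ∈ A :=
    fun hg v hv => (Subgroup.mem_normalizer_iff.1 hg v).1 hv
  intro v hv
  let P : ℕ → A → A := fun i w => ⟨x ^ i * w * (x ^ i)⁻¹, hn (pow_mem hxA i) _ w.2⟩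
  have hmod : ∀ i w, P i w = P (i % 7) w := fun i w => Subtype.ext (by
    show x ^ i * (w : Q) * (x ^ i)⁻¹ = x ^ (i % 7) * (w : Q) * (x ^ (i % 7))⁻¹
    rw [pow_eq_pow_mod i hx])
  let X : A →* A :=
    { toFun := fun w => ⟨x * w * x⁻¹, hn hxA _ w.2⟩
      map_one' := Subtype.ext (by simp)
      map_mul' := fun a b => Subtype.ext (show x * ((a : Q) * b) * x⁻¹ = (x * a * x⁻¹) * (x * b * x⁻¹) by group) }
  have hnorm : ∀ w : A, P 0 w * P 1 w * P 2 w * P 3 w * P 4 w * P 5 w * P 6 w = 1 := by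
    intro w
    set N := P 0 w * P 1 w * P 2 w * P 3 w * P 4 w * P 5 w * P 6 w with hN
    have hX : ∀ i, X (P i w) = P (i + 1) w := fun i => Subtype.ext (by
      show x * (x ^ i * (w : Q) * (x ^ i)⁻¹) * x⁻¹ = x ^ (i + 1) * (w : Q) * (x ^ (i + 1))⁻¹
      rw [pow_succ']
      group)
    have h7 : P 7 w = P 0 w := hmod 7 w
    have e : X N = N := by
      rw [hN]
      simp only [map_mul, hX, h7]
      simp only [mul_comm, mul_left_comm, mul_assoc]
    refine Subtype.ext (fx _ N.2 ?_)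
    exact (mul_inv_eq_iff_eq_mul.1 (congrArg Subtype.val e)).symm
  let Cc : A → A := fun w => ⟨c * w * c⁻¹, hn hcA _ w.2⟩
  set v' : A := ⟨v, hv⟩ with hv'
  set e1 := (8 - k) % 7 with he1
  set e2 := (22 - k * k) % 7 with he2
  have hw : ∀ i : ℕ, v' * P (e1 * i) (Cc v') * P (e2 * i) (Cc (Cc v')) = 1 := by
    intro i
    have hconj : ∀ j : ℕ, c * x ^ j * c⁻¹ = x ^ (k * j) := fun j => by rw [← conj_pow, hcx, ← pow_mul]
    set d := x ^ i * c * (x ^ i)⁻¹ with hd
    have hd1 : d = x ^ (e1 * i) * c := by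
      have h1 : (x ^ i)⁻¹ = x ^ (6 * i) := inv_eq_of_mul_eq_one_right (by
        rw [← pow_add, pow_eq_pow_mod _ hx, show (i + 6 * i) % 7 = 0 by omega, pow_zero])
      rw [hd, h1, mul_assoc, show c * x ^ (6 * i) = x ^ (k * (6 * i)) * c by rw [← hconj]; group, ← mul_assoc,
        ← pow_add]
      congr 1
      refine pow_eq_pow_of_modEq ?_ hx
      rcases hk with rfl | rfl <;> (simp only [e1, Nat.ModEq]; omega)
    have hd2 : d * d = x ^ (e2 * i) * (c * c) := by
      rw [hd1, mul_assoc, ← mul_assoc c, show c * x ^ (e1 * i) = x ^ (k * (e1 * i)) * c by rw [← hconj]; group]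
      simp only [← mul_assoc, ← pow_add]
      congr 2
      refine pow_eq_pow_of_modEq ?_ hx
      rcases hk with rfl | rfl <;> (simp only [e1, e2, Nat.ModEq]; omega)
    have hd3 : d * d * d = 1 := by
      rw [hd, ← pow_two, ← pow_succ, conj_pow, hc]; group
    have hdA : d ∈ Subgroup.normalizer (A : Set Q) :=
      mul_mem (mul_mem (pow_mem hxA i) hcA) (inv_mem (pow_mem hxA i))
    have f1 : ((P (e1 * i) (Cc v') : A) : Q) = d * v * d⁻¹ := by
      show x ^ (e1 * i) * (c * v * c⁻¹) * (x ^ (e1 * i))⁻¹ = _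
      rw [hd1]; group
    have f2 : ((P (e2 * i) (Cc (Cc v')) : A) : Q) = (d * d) * v * (d * d)⁻¹ := by
      show x ^ (e2 * i) * (c * (c * v * c⁻¹) * c⁻¹) * (x ^ (e2 * i))⁻¹ = _
      rw [hd2]; group
    set W := v' * P (e1 * i) (Cc v') * P (e2 * i) (Cc (Cc v')) with hW
    have hWd : (W : Q) * d = d * W := by
      have hWv : (W : Q) = v * (d * v * d⁻¹) * ((d * d) * v * (d * d)⁻¹) := by
        rw [hW]; push_cast; rw [f1, f2]
      have e : d * (W : Q) * d⁻¹ = (d * v * d⁻¹) * ((d * d) * v * (d * d)⁻¹) * v := by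
        rw [hWv]
        calc _ = (d * v * d⁻¹) * ((d * d) * v * (d * d)⁻¹) * ((d * d * d) * v * (d * d * d)⁻¹) := by group
          _ = _ := by rw [hd3]; group
      have hcomm : (d * v * d⁻¹) * ((d * d) * v * (d * d)⁻¹) * v = (W : Q) := by
        rw [hWv, hA _ (mul_mem (hn hdA _ hv) (hn (mul_mem hdA hdA) _ hv)) _ hv]
        group
      exact (mul_inv_eq_iff_eq_mul.1 (e.trans hcomm)).symm
    have h0 : (x ^ i)⁻¹ * (W : Q) * x ^ i = 1 := by
      refine fc _ ?_ ?_
      · have := hn (inv_mem (pow_mem hxA i)) _ W.2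
        simpa using this
      · show _ * c = c * _
        calc (x ^ i)⁻¹ * (W : Q) * x ^ i * c = (x ^ i)⁻¹ * ((W : Q) * d) * x ^ i := by rw [hd]; group
          _ = (x ^ i)⁻¹ * (d * W) * x ^ i := by rw [hWd]
          _ = _ := by rw [hd]; group
    refine Subtype.ext ?_
    calc (W : Q) = x ^ i * ((x ^ i)⁻¹ * (W : Q) * x ^ i) * (x ^ i)⁻¹ := by group
      _ = 1 := by rw [h0]; group
  have hprod : ∏ i : Fin 7, (v' * P (e1 * i) (Cc v') * P (e2 * i) (Cc (Cc v'))) = 1 :=
    Finset.prod_eq_one fun i _ => hw i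
  have hsort : ∀ e : ℕ, (e = 4 ∨ e = 6) → ∀ w, P (e * 0) w * P (e * 1) w * P (e * 2) w * P (e * 3) w * P (e * 4) w *
      P (e * 5) w * P (e * 6) w = 1 := by
    intro e he w
    rw [← hnorm w, hmod (e * 0), hmod (e * 1), hmod (e * 2), hmod (e * 3), hmod (e * 4), hmod (e * 5), hmod (e * 6)]
    rcases he with rfl | rfl <;> (norm_num; simp only [mul_comm, mul_left_comm, mul_assoc])
  have hall : ∀ e : ℕ, (e = 4 ∨ e = 6) → ∀ w, ∏ i : Fin 7, P (e * i) w = 1 := fun e he w => by
    rw [Fin.prod_univ_seven]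
    exact hsort e he w
  have : v' ^ 7 = 1 := by
    rw [Finset.prod_mul_distrib, Finset.prod_mul_distrib, Finset.prod_const, Finset.card_univ, Fintype.card_fin,
      hall e1 (by rcases hk with rfl | rfl <;> simp [e1]), hall e2 (by rcases hk with rfl | rfl <;> simp [e2]),
      mul_one, mul_one] at hprod
    exact hprod
  simpa [v'] using congrArg Subtype.val this

end CfsgSimpleM23
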