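/-
Simple groups of order 10200960: a normal subgroup of order sixteen in the centraliser of an involution.
-/
import Cfsg.Agent.Lib.SimpleM23.CentThree
import Cfsg.Agent.Lib.SimpleM23.Frob
import Cfsg.Agent.Lib.DegreeGraphSmall.Sections

set_option autoImplicit false
set_option linter.style.haveILetI false
set_option linter.unusedSectionVars false

namespace CfsgSimpleM23

open Cfsg CfsgLib.CharTheory CfsgSimpleM11
open CfsgSimpleM22 (cc)

universe u
variable {G : Type u} [Group G] [Fintype G]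

/-- In a finite group a subgroup is normalised by an element mapping it into itself. -/
theorem mem_normalizer_of_maps {S : Subgroup G} {g : G} (h : ∀ y ∈ S, g * y * g⁻¹ ∈ S) :
    g ∈ Subgroup.normalizer (S : Set G) := by
  refine Subgroup.mem_normalizer_iff_map_conj_eq.mpr ?_
  refine Subgroup.eq_of_le_of_card_ge ?_ (le_of_eq (Subgroup.card_map_of_injective (MulAut.conj g).injective).symm)
  rintro _ ⟨y, hy, rfl⟩
  exact h y hy

/-- Two elements of a prime order dividing the order of a subgroup exactly once. -/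
theorem conj_into {K : Subgroup G} {p : ℕ} [Fact p.Prime] (hK : ¬ p ^ 2 ∣ Nat.card K) {x y : G} (hx : x ∈ K)
    (hy : y ∈ K) (hox : orderOf x = p) (hoy : orderOf y = p) : ∃ g ∈ K, g * y * g⁻¹ ∈ Subgroup.zpowers x := by
  set x' : K := ⟨x, hx⟩
  set y' : K := ⟨y, hy⟩
  have hox' : orderOf x' = p := (Subgroup.orderOf_mk x hx).trans hox
  have hoy' : orderOf y' = p := (Subgroup.orderOf_mk y hy).trans hoy
  have hsyl : ∀ w : K, orderOf w = p → ∃ P : Sylow p K, (P : Subgroup K) = Subgroup.zpowers w := fun w hw => by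
    obtain ⟨P, hP⟩ := (IsPGroup.of_card (n := 1) (by rw [Nat.card_zpowers, hw, pow_one]) :
      IsPGroup p (Subgroup.zpowers w)).exists_le_sylow
    refine ⟨P, (Subgroup.eq_of_le_of_card_ge hP ?_).symm⟩
    obtain ⟨n, hn⟩ := IsPGroup.iff_card.1 P.isPGroup'
    rw [Nat.card_zpowers, hw, hn]
    rcases Nat.lt_or_ge n 2 with h | h
    · exact (Nat.pow_le_pow_right (Fact.out : p.Prime).pos (Nat.lt_succ_iff.1 h)).trans (by rw [pow_one])
    · exact absurd ((pow_dvd_pow p h).trans (hn ▸ Subgroup.card_subgroup_dvd_card (P : Subgroup K))) hK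
  obtain ⟨P, hP⟩ := hsyl x' hox'
  obtain ⟨Q, hQ⟩ := hsyl y' hoy'
  obtain ⟨g, hg⟩ := MulAction.exists_smul_eq K Q P
  refine ⟨g, g.2, ?_⟩
  have hm : g * y' * g⁻¹ ∈ (P : Subgroup K) := by
    rw [← hg]
    rw [Sylow.coe_subgroup_smul]
    exact ⟨y', hQ ▸ Subgroup.mem_zpowers y', rfl⟩
  rw [hP] at hm
  obtain ⟨k, hk⟩ := Subgroup.mem_zpowers_iff.1 hm
  exact Subgroup.mem_zpowers_iff.2 ⟨k, congrArg Subtype.val hk⟩

/-- An involution with elements of orders seven and three in its centraliser. -/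
structure Loc (G : Type u) [Group G] [Fintype G] where
  t : G
  x : G
  c : G
  k : ℕ
  ht : orderOf t = 2
  hx : orderOf x = 7
  hc : orderOf c = 3
  hxt : Commute x t
  hct : Commute c t
  hk : k = 2 ∨ k = 4
  hcx : c * x * c⁻¹ = x ^ k
  cct : cc t = 2688
  cc3 : cc c = 180
  card_cent : Nat.card (Subgroup.centralizer ({x} : Set G)) = 14
  card_norm : Nat.card (Subgroup.normalizer ((Subgroup.zpowers x : Subgroup G) : Set G)) = 42
  norm_le : Subgroup.normalizer ((Subgroup.zpowers x : Subgroup G) : Set G) ≤ Subgroup.centralizer ({t} : Set G)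
  uniq : ∀ v : G, Commute v x → orderOf v = 2 → v = t

theorem Tbl.exists_loc (T : Tbl G) (hG : IsM23 G) {t : G} (ht : orderOf t = 2) : ∃ L : Loc G, L.t = t := by
  haveI : Fact (Nat.Prime 7) := ⟨by norm_num⟩
  obtain ⟨R, H, hR, htH⟩ := exists_sylow_reg (p := 7) hG (by decide) (by rw [ht]; norm_num)
    (show 7 ∣ cc t by rw [T.cc_inv t ht]; norm_num)
  obtain ⟨s, hs, hsC, hC14, hN42, hNle, huniq⟩ := T.seven_local hG R
  obtain rfl : t = s := huniq t (hR.le htH) ht
  have hR7 : Nat.card R = 7 := card_sylow_prime hG (by decide) R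
  obtain ⟨x, hx, hx1⟩ := CfsgLib.SmallSylow.exists_mem_ne R hR7
  have hox := CfsgLib.SmallSylow.orderOf_mem R hR7 hx hx1
  have hz : Subgroup.zpowers x = (R : Subgroup G) :=
    (CfsgLib.Blocks.DefectOne.zpowers_eq (CfsgLib.Blocks.DefectOne.setup_sylow R hR7) hR7 hx hx1).1
  have hstar := (CfsgLib.Blocks.DefectOne.setup_sylow R hR7).star x hx hx1
  obtain ⟨c, hcN, hc⟩ := exists_order (K := Subgroup.normalizer ((R : Subgroup G) : Set G)) Nat.prime_three
    (by rw [hN42]; norm_num)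
  have hct : Commute c t := Subgroup.mem_centralizer_singleton_iff.1 (hNle hcN)
  have hcxR : c * x * c⁻¹ ∈ Subgroup.zpowers x := hz ▸ (Subgroup.mem_normalizer_iff.1 hcN x).1 hx
  obtain ⟨j, hj⟩ := (Submonoid.mem_powers_iff _ _).1 (mem_powers_iff_mem_zpowers.2 hcxR)
  obtain ⟨k, hk7, hjk⟩ : ∃ k, k < 7 ∧ c * x * c⁻¹ = x ^ k :=
    ⟨j % 7, Nat.mod_lt _ (by norm_num), by rw [← hox, pow_mod_orderOf, hj]⟩
  have hk' : k = 2 ∨ k = 4 := by
    have e3 : x ^ (k * k * k) = x := by
      have e : c * (c * (c * x * c⁻¹) * c⁻¹) * c⁻¹ = x := by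
        calc _ = c ^ 3 * x * (c ^ 3)⁻¹ := by simp only [pow_succ, pow_zero, one_mul]; group
          _ = x := by rw [← hc, pow_orderOf_eq_one]; group
      rw [hjk, ← conj_pow, hjk, ← pow_mul, ← conj_pow, hjk, ← pow_mul] at e
      rwa [mul_assoc]
    have hm : (k * k * k) % 7 = 1 := by
      have := pow_inj_mod.1 (e3.trans (pow_one x).symm)
      rw [hox] at this
      exact this
    have hk1 : k ≠ 1 := fun e => by
      rw [e, pow_one] at hjk
      have hcC : c ∈ Subgroup.centralizer ((R : Subgroup G) : Set G) := by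
        rw [← hstar]
        exact Subgroup.mem_centralizer_singleton_iff.2 (mul_inv_eq_iff_eq_mul.1 hjk)
      have := Subgroup.orderOf_dvd_natCard _ hcC
      rw [hC14, hc] at this
      norm_num at this
    interval_cases k <;> simp_all
  refine ⟨⟨t, x, c, k, ht, hox, hc, Subgroup.mem_centralizer_iff.1 hsC x hx, hct, hk', hjk, T.cc_inv t ht,
    T.cc_three hG hc ht hct, ?_, ?_, ?_, fun v hv hv2 => huniq v ?_ hv2⟩, rfl⟩
  · rw [hstar, hC14]
  · rw [hz, hN42]
  · rw [hz]; exact hNle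
  · rw [← hstar]; exact Subgroup.mem_centralizer_singleton_iff.2 hv.eq

namespace Loc

variable (L : Loc G)

/-- The centraliser. -/
abbrev C : Subgroup G := Subgroup.centralizer ({L.t} : Set G)

/-- Subgroups containing the involution and normal in the centraliser. -/
structure NormC (N : Subgroup G) : Prop where
  mem : L.t ∈ N
  le : N ≤ L.C
  norm : L.C ≤ Subgroup.normalizer (N : Set G)

theorem card_C : Nat.card L.C = 2688 := L.cct

theorem t_mem : L.t ∈ L.C := Subgroup.mem_centralizer_singleton_iff.2 rfl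

theorem x_mem : L.x ∈ L.C := Subgroup.mem_centralizer_singleton_iff.2 L.hxt.eq

theorem c_mem : L.c ∈ L.C := Subgroup.mem_centralizer_singleton_iff.2 L.hct.eq

theorem t_ne : L.t ≠ 1 := inv_ne_one L.ht

theorem tt : L.t * L.t = 1 := by rw [← pow_two, ← L.ht, pow_orderOf_eq_one]

theorem comm_t {v : G} (hv : v ∈ L.C) : Commute v L.t := Subgroup.mem_centralizer_singleton_iff.1 hv

/-- An element centralised by the element of order seven, of order prime to seven. -/
theorem fix7 {v : G} (hv : Commute v L.x) (h7 : ¬ 7 ∣ orderOf v) : v = 1 ∨ v = L.t := by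
  have hd : orderOf v ∣ 14 :=
    L.card_cent ▸ Subgroup.orderOf_dvd_natCard _ (Subgroup.mem_centralizer_singleton_iff.2 hv.eq)
  have h2 : orderOf v ∣ 2 :=
    (((Nat.Prime.coprime_iff_not_dvd (by norm_num)).2 h7).symm).dvd_of_dvd_mul_right (show orderOf v ∣ 2 * 7 from hd)
  rcases (Nat.dvd_prime Nat.prime_two).1 h2 with e | e
  · exact Or.inl (orderOf_eq_one_iff.1 e)
  · exact Or.inr (L.uniq v hv e)

/-- The subgroup generated by the involution. -/
def Z : Subgroup L.C := Subgroup.zpowers ⟨L.t, L.t_mem⟩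

instance : L.Z.Normal := by
  refine ⟨fun z hz g => ?_⟩
  obtain ⟨m, rfl⟩ := Subgroup.mem_zpowers_iff.1 hz
  refine Subgroup.mem_zpowers_iff.2 ⟨m, ?_⟩
  refine Subtype.ext ?_
  show L.t ^ m = (g : G) * L.t ^ m * (g : G)⁻¹
  rw [((L.comm_t g.2).zpow_right m).eq, mul_inv_cancel_right]

theorem card_Z : Nat.card L.Z = 2 := by
  rw [Z, Nat.card_zpowers, Subgroup.orderOf_mk, L.ht]

theorem mem_Z {z : L.C} : z ∈ L.Z ↔ (z : G) = 1 ∨ (z : G) = L.t := by
  constructor
  · intro hz
    obtain ⟨m, hm⟩ := (Submonoid.mem_powers_iff _ _).1 (mem_powers_iff_mem_zpowers.2 hz)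
    rw [← hm]
    push_cast
    rcases Nat.even_or_odd m with ⟨r, rfl⟩ | ⟨r, rfl⟩
    · exact Or.inl (by rw [← two_mul, pow_mul, pow_two, L.tt, one_pow])
    · exact Or.inr (by rw [pow_succ, pow_mul, pow_two, L.tt, one_pow, one_mul])
  · rintro (h | h)
    · rw [show z = 1 from Subtype.ext h]; exact one_mem _
    · rw [show z = ⟨L.t, L.t_mem⟩ from Subtype.ext h]; exact Subgroup.mem_zpowers _

/-- The quotient map. -/
def φ : L.C →* L.C ⧸ L.Z := QuotientGroup.mk' L.Z

theorem φ_eq_one {z : L.C} : L.φ z = 1 ↔ (z : G) = 1 ∨ (z : G) = L.t :=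
  (QuotientGroup.eq_one_iff z).trans L.mem_Z

/-- The preimage of a subgroup of the quotient. -/
def lift (M : Subgroup (L.C ⧸ L.Z)) : Subgroup G := (M.comap L.φ).map L.C.subtype

theorem mem_lift {M : Subgroup (L.C ⧸ L.Z)} {z : G} :
    z ∈ L.lift M ↔ ∃ h : z ∈ L.C, L.φ ⟨z, h⟩ ∈ M := by
  constructor
  · rintro ⟨w, hw, rfl⟩; exact ⟨w.2, hw⟩
  · rintro ⟨h, hm⟩; exact ⟨⟨z, h⟩, hm, rfl⟩

theorem card_lift (M : Subgroup (L.C ⧸ L.Z)) : Nat.card (L.lift M) = 2 * Nat.card M := by
  rw [lift, Subgroup.card_map_of_injective L.C.subtype_injective, ← L.card_Z, mul_comm]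
  have h1 := Subgroup.card_mul_index (M.comap L.φ)
  rw [Subgroup.index_comap_of_surjective (f := L.φ) _ (QuotientGroup.mk'_surjective _)] at h1
  have h2 := M.card_mul_index
  have h3 := Subgroup.card_eq_card_quotient_mul_card_subgroup L.Z
  refine Nat.eq_of_mul_eq_mul_right (Nat.pos_of_ne_zero (M.index_ne_zero_of_finite)) ?_
  rw [h1, h3, ← h2]
  ring

theorem lift_normC {M : Subgroup (L.C ⧸ L.Z)} (hM : M.Normal) : L.NormC (L.lift M) where
  mem := L.mem_lift.2 ⟨L.t_mem, by rw [L.φ_eq_one.2 (Or.inr rfl)]; exact one_mem _⟩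
  le := fun z hz => (L.mem_lift.1 hz).1
  norm := fun g hg => mem_normalizer_of_maps fun z hz => by
    obtain ⟨h, hm⟩ := L.mem_lift.1 hz
    refine L.mem_lift.2 ⟨mul_mem (mul_mem hg h) (inv_mem hg), ?_⟩
    have : L.φ ⟨g * z * g⁻¹, mul_mem (mul_mem hg h) (inv_mem hg)⟩ = L.φ ⟨g, hg⟩ * L.φ ⟨z, h⟩ * (L.φ ⟨g, hg⟩)⁻¹ := by
      rw [← map_inv, ← map_mul, ← map_mul]; rfl
    rw [this]
    exact hM.conj_mem _ hm _

variable {L}

theorem NormC.conj {N : Subgroup G} (hN : L.NormC N) {g z : G} (hg : g ∈ L.C) (hz : z ∈ N) : g * z * g⁻¹ ∈ N :=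
  (Subgroup.mem_normalizer_iff.1 (hN.norm hg) z).1 hz

theorem NormC.card_dvd {N : Subgroup G} (hN : L.NormC N) : Nat.card N ∣ 2688 :=
  L.card_C ▸ Subgroup.card_dvd_of_le hN.le

/-- Without elements of order seven the order is two modulo seven. -/
theorem NormC.mod_seven {N : Subgroup G} (hN : L.NormC N) (h7 : ¬ 7 ∣ Nat.card N) : Nat.card N % 7 = 2 := by
  haveI : Fact (Nat.Prime 7) := ⟨by norm_num⟩
  have h := card_fixed_mod (p := 7) (S := (N : Set G)) (z := L.x) (by rw [← L.hx, pow_orderOf_eq_one])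
    fun s hs => hN.conj L.x_mem hs
  rw [show Nat.card N = Nat.card (N : Set G) from rfl, h]
  have e : {s : G | s ∈ (N : Set G) ∧ Commute s L.x} = ({1, L.t} : Set G) := by
    ext s
    simp only [Set.mem_setOf_eq, SetLike.mem_coe, Set.mem_insert_iff, Set.mem_singleton_iff]
    constructor
    · rintro ⟨hs, hc⟩
      exact L.fix7 hc fun hd => h7 (hd.trans (Subgroup.orderOf_dvd_natCard N hs))
    · rintro (rfl | rfl)
      · exact ⟨one_mem N, Commute.one_left _⟩
      · exact ⟨hN.mem, L.hxt.symm⟩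
  rw [e, Nat.card_coe_set_eq, Set.ncard_pair L.t_ne.symm]

/-- The possible orders; in the case 896 a subgroup of order 128 is also normal. -/
theorem NormC.cases {N : Subgroup G} (hN : L.NormC N) : Nat.card N = 2 ∨ Nat.card N = 16 ∨ Nat.card N = 128 ∨
    Nat.card N = 2688 ∨ (Nat.card N = 896 ∧ ∃ K, L.NormC K ∧ Nat.card K = 128) := by
  classical
  by_cases h7 : 7 ∣ Nat.card N
  swap
  · have h1 := hN.mod_seven h7
    have h2 := hN.card_dvd
    have key : divs.all (fun d => (2688 % d != 0) || (d % 7 != 2) || [2, 16, 128].contains d) = true := by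
      decide +kernel
    have := List.all_eq_true.1 key _ (mem_divs (h2.trans ⟨3795, by norm_num⟩))
    simp only [h1, Nat.mod_eq_zero_of_dvd h2, bne_self_eq_false, Bool.false_or, List.contains_iff_mem, List.mem_cons,
      List.not_mem_nil, or_false] at this
    rcases this with e | e | e
    exacts [Or.inl e, Or.inr (Or.inl e), Or.inr (Or.inr (Or.inl e))]
  haveI : Fact (Nat.Prime 7) := ⟨by norm_num⟩
  obtain ⟨y, hy, hoy⟩ := exists_order (by norm_num : Nat.Prime 7) h7
  have hC49 : ¬ 7 ^ 2 ∣ Nat.card L.C := by rw [L.card_C]; norm_num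
  have hxN : L.x ∈ N := by
    obtain ⟨g, hg, hgy⟩ := conj_into hC49 L.x_mem (hN.le hy) L.hx hoy
    have h1 : g * y * g⁻¹ ∈ N := hN.conj hg hy
    obtain ⟨j, hj⟩ := (Submonoid.mem_powers_iff _ _).1 (mem_powers_iff_mem_zpowers.2 hgy)
    have hj7 : ¬ 7 ∣ j := fun hd => by
      obtain ⟨r, rfl⟩ := hd
      rw [pow_mul, ← L.hx, pow_orderOf_eq_one, one_pow, eq_mul_inv_iff_mul_eq, one_mul] at hj
      have hy1 : y = 1 := by
        have := congrArg (g⁻¹ * ·) hj
        simpa using this.symm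
      rw [hy1, orderOf_one] at hoy
      norm_num at hoy
    obtain ⟨r, hr⟩ := Nat.exists_mul_mod_eq_one_of_coprime
      (((Nat.Prime.coprime_iff_not_dvd (by norm_num : Nat.Prime 7)).2 hj7).symm) (by norm_num : 1 < 7)
    have : (g * y * g⁻¹) ^ r = L.x := by
      rw [← hj, ← pow_mul, ← pow_mod_orderOf, L.hx, hr.2, pow_one]
    rw [← this]; exact pow_mem h1 _
  set NR := Subgroup.normalizer ((Subgroup.zpowers L.x : Subgroup G) : Set G) with hNR
  haveI : (N.subgroupOf L.C).Normal := (Subgroup.normal_subgroupOf_iff_le_normalizer hN.le).2 hN.norm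
  let ψ : NR →* L.C ⧸ N.subgroupOf L.C :=
    (QuotientGroup.mk' _).comp (Subgroup.inclusion L.norm_le)
  have hsurj : Function.Surjective ψ := by
    intro q
    obtain ⟨⟨g, hg⟩, rfl⟩ := QuotientGroup.mk'_surjective _ q
    obtain ⟨n, hn, hnx⟩ := conj_into (p := 7) (K := N)
      (fun h => hC49 (h.trans (Subgroup.card_dvd_of_le hN.le))) hxN (hN.conj hg hxN) L.hx
      (by rw [← MulAut.conj_apply, MulEquiv.orderOf_eq, L.hx])
    have hngN : n * g ∈ NR := by
      refine mem_normalizer_of_maps fun z hz => ?_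
      obtain ⟨m, rfl⟩ := Subgroup.mem_zpowers_iff.1 hz
      rw [← conj_zpow]
      refine Subgroup.zpow_mem _ ?_ m
      rwa [show n * g * L.x * (n * g)⁻¹ = n * (g * L.x * g⁻¹) * n⁻¹ by group]
    refine ⟨⟨n * g, hngN⟩, ?_⟩
    show QuotientGroup.mk' _ (⟨n * g, _⟩ : L.C) = QuotientGroup.mk' _ ⟨g, hg⟩
    rw [QuotientGroup.mk'_eq_mk']
    refine ⟨⟨(n * g)⁻¹ * g, mul_mem (inv_mem (mul_mem (hN.le hn) hg)) hg⟩, ?_, Subtype.ext ?_⟩
    · rw [Subgroup.mem_subgroupOf]
      show (n * g)⁻¹ * g ∈ N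
      have := hN.conj (inv_mem hg) (inv_mem hn)
      rw [inv_inv] at this
      rwa [show (n * g)⁻¹ * g = g⁻¹ * n⁻¹ * g by group]
    · show n * g * ((n * g)⁻¹ * g) = g
      group
  have hker14 : 14 ∣ Nat.card ψ.ker := by
    have hxm : (⟨L.x, Subgroup.le_normalizer (Subgroup.mem_zpowers L.x)⟩ : NR) ∈ ψ.ker :=
      (QuotientGroup.eq_one_iff _).2 (Subgroup.mem_subgroupOf.2 hxN)
    have htn : L.t ∈ NR := mem_normalizer_of_maps fun z hz => by
      obtain ⟨m, rfl⟩ := Subgroup.mem_zpowers_iff.1 hz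
      rw [((L.hxt.symm).zpow_right m).eq, mul_inv_cancel_right]
      exact Subgroup.zpow_mem _ (Subgroup.mem_zpowers _) m
    have htm : (⟨L.t, htn⟩ : NR) ∈ ψ.ker := (QuotientGroup.eq_one_iff _).2 (Subgroup.mem_subgroupOf.2 hN.mem)
    have h1 := Subgroup.orderOf_dvd_natCard _ hxm
    have h2 := Subgroup.orderOf_dvd_natCard _ htm
    rw [Subgroup.orderOf_mk, L.hx] at h1
    rw [Subgroup.orderOf_mk, L.ht] at h2
    exact (show Nat.Coprime 7 2 by norm_num).mul_dvd_of_dvd_of_dvd h1 h2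
  have hidx : Nat.card ψ.ker * (N.subgroupOf L.C).index = 42 := by
    rw [← L.card_norm, show (N.subgroupOf L.C).index = ψ.ker.index by
      rw [Subgroup.index_ker, MonoidHom.range_eq_top_of_surjective _ hsurj]
      simp [Subgroup.index], Subgroup.card_mul_index]
  have hNi : Nat.card N * (N.subgroupOf L.C).index = 2688 := by
    rw [← L.card_C, ← Subgroup.card_mul_index (N.subgroupOf L.C),
      Nat.card_congr (Subgroup.subgroupOfEquivOfLe hN.le).toEquiv]
  obtain ⟨r, hr⟩ := hker14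
  rw [hr] at hidx
  have hr3 : r * (N.subgroupOf L.C).index = 3 := by rw [mul_assoc] at hidx; omega
  rcases (Nat.dvd_prime Nat.prime_three).1 (Dvd.intro_left r hr3) with hi | hi
  · rw [hi, mul_one] at hNi
    exact Or.inr (Or.inr (Or.inr (Or.inl hNi)))
  refine Or.inr (Or.inr (Or.inr (Or.inr ⟨by rw [hi] at hNi; omega, ?_⟩)))
  have hN896 : Nat.card N = 896 := by rw [hi] at hNi; omega
  -- transfer
  set xN : N := ⟨L.x, hxN⟩
  obtain ⟨P, hP⟩ := (IsPGroup.of_card (n := 1) (by rw [Nat.card_zpowers, Subgroup.orderOf_mk, L.hx, pow_one]) :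
    IsPGroup 7 (Subgroup.zpowers xN)).exists_le_sylow
  have hPc : Nat.card P = 7 := by
    rw [Sylow.card_eq_multiplicity P, hN896, show (896 : ℕ) = 7 * 128 by norm_num,
      Nat.factorization_mul (by norm_num) (by norm_num), Finsupp.add_apply, Nat.Prime.factorization_self (by norm_num),
      Nat.factorization_eq_zero_of_not_dvd (by norm_num : ¬ 7 ∣ 128), add_zero, pow_one]
  have hPeq : Subgroup.zpowers xN = (P : Subgroup N) :=
    Subgroup.eq_of_le_of_card_ge hP (by rw [hPc, Nat.card_zpowers, Subgroup.orderOf_mk, L.hx])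
  have hker : ∀ g : NR, g ∈ ψ.ker → (g : G) ∈ Subgroup.centralizer ({L.x} : Set G) := by
    have hr1 : r = 1 := by rw [hi] at hr3; omega
    rw [hr1, mul_one] at hr
    have hle : Subgroup.centralizer ({L.x} : Set G) ≤ NR := fun g hg => mem_normalizer_of_maps fun z hz => by
      obtain ⟨m, rfl⟩ := Subgroup.mem_zpowers_iff.1 hz
      have hcg : Commute g L.x := Subgroup.mem_centralizer_singleton_iff.1 hg
      rw [(hcg.zpow_right m).eq, mul_inv_cancel_right]
      exact Subgroup.zpow_mem _ (Subgroup.mem_zpowers _) m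
    intro g hg
    by_contra hgC
    have hsub : (Subgroup.centralizer ({L.x} : Set G)).subgroupOf NR ≤ ψ.ker := by
      intro z hz
      refine (QuotientGroup.eq_one_iff _).2 (Subgroup.mem_subgroupOf.2 ?_)
      have hz' := Subgroup.mem_centralizer_singleton_iff.1 (Subgroup.mem_subgroupOf.1 hz)
      set CX := Subgroup.centralizer ({L.x} : Set G)
      have hxC : L.x ∈ CX := Subgroup.mem_centralizer_singleton_iff.2 rfl
      have htC : L.t ∈ CX := Subgroup.mem_centralizer_singleton_iff.2 L.hxt.symm.eq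
      have h14 : (Subgroup.zpowers L.x ⊔ Subgroup.zpowers L.t) = CX := by
        refine Subgroup.eq_of_le_of_card_ge (sup_le (Subgroup.zpowers_le.2 hxC) (Subgroup.zpowers_le.2 htC)) ?_
        rw [L.card_cent]
        refine Nat.le_of_dvd Nat.card_pos ((show Nat.Coprime 7 2 by norm_num).mul_dvd_of_dvd_of_dvd ?_ ?_)
        · exact L.hx ▸ Subgroup.orderOf_dvd_natCard _ (le_sup_left (a := Subgroup.zpowers L.x) (Subgroup.mem_zpowers L.x))
        · exact L.ht ▸ Subgroup.orderOf_dvd_natCard _ (le_sup_right (b := Subgroup.zpowers L.t) (Subgroup.mem_zpowers L.t))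
      have hzC : (z : G) ∈ CX := Subgroup.mem_subgroupOf.1 hz
      rw [← h14] at hzC
      exact (sup_le (Subgroup.zpowers_le.2 hxN) (Subgroup.zpowers_le.2 hN.mem)) hzC
    have e := Subgroup.eq_of_le_of_card_ge hsub (by
      rw [hr, Nat.card_congr (Subgroup.subgroupOfEquivOfLe hle).toEquiv, L.card_cent])
    rw [← e] at hg
    exact hgC (Subgroup.mem_subgroupOf.1 hg)
  have hnc : Subgroup.normalizer ((P : Subgroup N) : Set N) ≤ Subgroup.centralizer ((P : Subgroup N) : Set N) := by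
    intro g hg
    rw [← hPeq] at hg ⊢
    have hgN : (g : G) ∈ NR := mem_normalizer_of_maps fun z hz => by
      obtain ⟨m, rfl⟩ := Subgroup.mem_zpowers_iff.1 hz
      obtain ⟨j, hj⟩ := Subgroup.mem_zpowers_iff.1
        ((Subgroup.mem_normalizer_iff.1 hg (xN ^ m)).1 (Subgroup.zpow_mem _ (Subgroup.mem_zpowers _) m))
      exact Subgroup.mem_zpowers_iff.2 ⟨j, by simpa [xN] using congrArg Subtype.val hj⟩
    have h1 := Subgroup.mem_centralizer_singleton_iff.1 (hker ⟨g, hgN⟩
      ((QuotientGroup.eq_one_iff _).2 (Subgroup.mem_subgroupOf.2 g.2)))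
    rw [Subgroup.mem_centralizer_iff]
    intro z hz
    obtain ⟨m, rfl⟩ := Subgroup.mem_zpowers_iff.1 hz
    exact Subtype.ext ((show Commute (g : G) L.x from h1).zpow_right m).eq.symm
  set K := (MonoidHom.transferSylow P hnc).ker with hK
  have hKc : Nat.card K = 128 := by
    have h := (MonoidHom.ker_transferSylow_isComplement' P hnc).card_mul_card
    rw [hPc, hN896, ← hK] at h
    omega
  have hKmem : ∀ z : N, z ∈ K ↔ z ^ 128 = 1 := by
    intro z
    refine ⟨fun hz => orderOf_dvd_iff_pow_eq_one.1 (hKc ▸ Subgroup.orderOf_dvd_natCard K hz), fun hz => ?_⟩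
    have h1 : (MonoidHom.transferSylow P hnc z) ^ 128 = 1 := by rw [← map_pow, hz, map_one]
    have h2 : (MonoidHom.transferSylow P hnc z) ^ 7 = 1 := by
      exact orderOf_dvd_iff_pow_eq_one.1 ((orderOf_dvd_natCard _).trans hPc.dvd)
    rw [hK, MonoidHom.mem_ker]
    simpa using pow_gcd_eq_one.2 ⟨h1, h2⟩
  refine ⟨K.map N.subtype, ⟨⟨⟨L.t, hN.mem⟩, (hKmem _).2 (Subtype.ext ?_), rfl⟩, ?_, ?_⟩, ?_⟩
  · show L.t ^ 128 = 1
    exact orderOf_dvd_iff_pow_eq_one.1 (by rw [L.ht]; norm_num)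
  · rintro _ ⟨z, -, rfl⟩; exact hN.le z.2
  · intro g hg
    refine mem_normalizer_of_maps ?_
    rintro _ ⟨z, hz, rfl⟩
    refine ⟨⟨g * z * g⁻¹, hN.conj hg z.2⟩, (hKmem _).2 (Subtype.ext ?_), rfl⟩
    show (g * (z : G) * g⁻¹) ^ 128 = 1
    rw [conj_pow, show (z : G) ^ 128 = 1 from congrArg Subtype.val ((hKmem z).1 hz), mul_one, mul_inv_cancel]
  · rw [Subgroup.card_map_of_injective N.subtype_injective, hKc]

end Loc

end CfsgSimpleM23
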