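/-
Simple groups of order 10200960: the elementary abelian subgroup of order sixteen in the centraliser of an involution.
-/
import Cfsg.Agent.Lib.SimpleM23.CentInv

set_option autoImplicit false
set_option linter.style.haveILetI false
set_option linter.unusedSectionVars false

namespace CfsgSimpleM23

open Cfsg
open CfsgSimpleM22 (cc)

universe u
variable {G : Type u} [Group G] [Fintype G]

namespace Loc

variable {L : Loc G}

/-- An element commuting with one of odd order up to the involution commutes with it. -/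
theorem comm_of_mod {g v : G} {n : ℕ} (hn : n % 2 = 1) (hg : g ^ n = 1) (hgt : Commute g L.t)
    (h : g * v * g⁻¹ = v ∨ g * v * g⁻¹ = v * L.t) : Commute v g := by
  rcases h with h | h
  · exact (mul_inv_eq_iff_eq_mul.1 h).symm
  · exfalso
    have key : ∀ j : ℕ, g ^ j * v * (g ^ j)⁻¹ = v * L.t ^ j := by
      intro j
      induction j with
      | zero => simp
      | succ j ih =>
        calc g ^ (j + 1) * v * (g ^ (j + 1))⁻¹ = g * (g ^ j * v * (g ^ j)⁻¹) * g⁻¹ := by rw [pow_succ']; group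
          _ = (g * v * g⁻¹) * (g * L.t ^ j * g⁻¹) := by rw [ih]; group
          _ = v * L.t * L.t ^ j := by rw [h, (hgt.pow_right j).eq, mul_inv_cancel_right]
          _ = v * L.t ^ (j + 1) := by rw [pow_succ', mul_assoc]
    have e := key n
    rw [hg, one_mul, inv_one, mul_one] at e
    have e2 : L.t ^ n = 1 := mul_eq_left.1 e.symm
    have e3 := orderOf_dvd_of_pow_eq_one e2
    rw [L.ht] at e3
    omega

/-- An element of order three in the normaliser of the element of order seven fixes more than the involution. -/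
theorem exists_fixed_three {A : Subgroup G} (hA : L.NormC A) {a : ℕ} (ha : Nat.card A = 2 ^ a)
    (h2 : 2 < Nat.card A) (hcomm : ∀ v ∈ A, ∀ w ∈ A, v * w * v⁻¹ * w⁻¹ = 1 ∨ v * w * v⁻¹ * w⁻¹ = L.t) :
    ∃ v ∈ A, v ≠ 1 ∧ v ≠ L.t ∧ Commute v L.c := by
  classical
  by_contra hno
  push Not at hno
  set A' : Subgroup (L.C ⧸ L.Z) := (A.subgroupOf L.C).map L.φ with hA'
  set x' := L.φ ⟨L.x, L.x_mem⟩ with hx'
  set c' := L.φ ⟨L.c, L.c_mem⟩ with hc'
  have hmemA : ∀ q ∈ A', ∃ (v : G) (hv : v ∈ L.C), v ∈ A ∧ L.φ ⟨v, hv⟩ = q := by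
    rintro _ ⟨⟨v, hv⟩, hvA, rfl⟩
    exact ⟨v, hv, Subgroup.mem_subgroupOf.1 hvA, rfl⟩
  have hnorm : ∀ g : L.C, L.φ g ∈ Subgroup.normalizer (A' : Set (L.C ⧸ L.Z)) := by
    haveI : (A.subgroupOf L.C).Normal := (Subgroup.normal_subgroupOf_iff_le_normalizer hA.le).2 hA.norm
    haveI : A'.Normal := Subgroup.Normal.map inferInstance _ (QuotientGroup.mk'_surjective _)
    intro g
    rw [Subgroup.normalizer_eq_top]
    exact Subgroup.mem_top _
  have hmk : ∀ {g v : L.C}, Commute (L.φ v) (L.φ g) →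
      (g : G) * v * (g : G)⁻¹ = v ∨ (g : G) * v * (g : G)⁻¹ = v * L.t := by
    intro g v h
    have e : L.φ (v⁻¹ * (g * v * g⁻¹)) = 1 := by
      rw [map_mul, map_mul, map_mul, map_inv, map_inv, ← h.eq, mul_inv_cancel_right, inv_mul_cancel]
    rcases L.φ_eq_one.1 e with e' | e' <;> push_cast at e'
    · exact Or.inl (inv_mul_eq_one.1 e').symm
    · exact Or.inr (eq_mul_of_inv_mul_eq e')
  have habel : ∀ p ∈ A', ∀ q ∈ A', p * q = q * p := by
    intro p hp q hq
    obtain ⟨v, hv, hvA, rfl⟩ := hmemA p hp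
    obtain ⟨w, hw, hwA, rfl⟩ := hmemA q hq
    have e : L.φ (⟨v, hv⟩ * ⟨w, hw⟩ * ⟨v, hv⟩⁻¹ * ⟨w, hw⟩⁻¹) = 1 := L.φ_eq_one.2 (hcomm v hvA w hwA)
    simp only [map_mul, map_inv] at e
    rwa [mul_inv_eq_one, mul_inv_eq_iff_eq_mul] at e
  have hfix : ∀ (n : ℕ) (g : L.C), n % 2 = 1 → (g : G) ^ n = 1 → Commute (g : G) L.t →
      (∀ v ∈ A, Commute v (g : G) → v = 1 ∨ v = L.t) → ∀ q ∈ A', Commute q (L.φ g) → q = 1 := by
    intro n g hn hg hgt hfx q hq hqc
    obtain ⟨v, hv, hvA, rfl⟩ := hmemA q hq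
    exact L.φ_eq_one.2 (hfx v hvA (comm_of_mod hn hg hgt (hmk hqc)))
  have hc3 : L.c ^ 3 = 1 := by rw [← L.hc, pow_orderOf_eq_one]
  have hx7 : L.x ^ 7 = 1 := by rw [← L.hx, pow_orderOf_eq_one]
  have h := frob_abelian habel (x := x') (c := c') L.hk
    (by rw [hx', ← map_pow, show (⟨L.x, L.x_mem⟩ : L.C) ^ 7 = 1 from Subtype.ext hx7, map_one])
    (by rw [hc', ← map_pow, show (⟨L.c, L.c_mem⟩ : L.C) ^ 3 = 1 from Subtype.ext hc3, map_one])
    (by
      rw [hx', hc', ← map_inv, ← map_mul, ← map_mul, ← map_pow]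
      exact congrArg L.φ (Subtype.ext L.hcx))
    (hnorm _) (hnorm _)
    (hfix 7 ⟨L.x, L.x_mem⟩ (by norm_num) hx7 L.hxt fun v hv hvx => L.fix7 hvx fun hd => by
      have h7 := hd.trans (Subgroup.orderOf_dvd_natCard A hv)
      rw [ha] at h7
      have := (Nat.prime_dvd_prime_iff_eq (by norm_num) Nat.prime_two).1
        ((by norm_num : Nat.Prime 7).dvd_of_dvd_pow h7)
      norm_num at this)
    (hfix 3 ⟨L.c, L.c_mem⟩ (by norm_num) hc3 L.hct fun v hv hvc => by
      by_contra hn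
      push Not at hn
      exact hno v hv hn.1 hn.2 hvc)
  have hsub : (A : Set G) ⊆ ({1, L.t} : Set G) := by
    intro v hv
    have hq : L.φ ⟨v, hA.le hv⟩ ∈ A' := ⟨⟨v, hA.le hv⟩, Subgroup.mem_subgroupOf.2 hv, rfl⟩
    have h7 := h _ hq
    have h2a : (L.φ ⟨v, hA.le hv⟩) ^ 2 ^ a = 1 := by
      rw [← map_pow, show (⟨v, hA.le hv⟩ : L.C) ^ 2 ^ a = 1 from Subtype.ext (by
        show v ^ 2 ^ a = 1
        exact orderOf_dvd_iff_pow_eq_one.1 (ha ▸ Subgroup.orderOf_dvd_natCard A hv)), map_one]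
    have hgcd := pow_gcd_eq_one.2 ⟨h7, h2a⟩
    rw [show Nat.gcd 7 (2 ^ a) = 1 from Nat.Coprime.pow_right a (by norm_num), pow_one] at hgcd
    simpa using L.φ_eq_one.1 hgcd
  have := Nat.card_mono (Set.toFinite _) hsub
  rw [show Nat.card (({1, L.t} : Set G)) = 2 by rw [Nat.card_coe_set_eq, Set.ncard_pair L.t_ne.symm]] at this
  change Nat.card A ≤ 2 at this
  omega

/-- The commutators are trivial modulo the involution in a minimal case. -/
theorem comm_mod {N : Subgroup G} (hN : L.NormC N) {a : ℕ} (ha : Nat.card N = 2 ^ a) (h2 : 2 < Nat.card N)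
    (hmin : ∀ M : Subgroup G, L.NormC M → M ≤ N → 2 < Nat.card M → M = N) :
    ∀ v ∈ N, ∀ w ∈ N, v * w * v⁻¹ * w⁻¹ = 1 ∨ v * w * v⁻¹ * w⁻¹ = L.t := by
  classical
  haveI : Fact (Nat.Prime 2) := ⟨Nat.prime_two⟩
  haveI : (N.subgroupOf L.C).Normal := (Subgroup.normal_subgroupOf_iff_le_normalizer hN.le).2 hN.norm
  set N' : Subgroup (L.C ⧸ L.Z) := (N.subgroupOf L.C).map L.φ with hN'
  haveI hN'n : N'.Normal := Subgroup.Normal.map inferInstance _ (QuotientGroup.mk'_surjective _)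
  have hlift : L.lift N' = N := by
    ext z
    rw [L.mem_lift]
    constructor
    · rintro ⟨hz, ⟨⟨w, hw⟩, hwN, hwz⟩⟩
      have e : L.φ (⟨w, hw⟩⁻¹ * ⟨z, hz⟩) = 1 := by rw [map_mul, map_inv, hwz, inv_mul_cancel]
      have hwN' : w ∈ N := Subgroup.mem_subgroupOf.1 hwN
      rcases L.φ_eq_one.1 e with e' | e' <;> push_cast at e'
      · rw [← inv_mul_eq_one.1 e']; exact hwN'
      · rw [eq_mul_of_inv_mul_eq e']; exact mul_mem hwN' hN.mem
    · intro hz
      exact ⟨hN.le hz, ⟨⟨z, hN.le hz⟩, Subgroup.mem_subgroupOf.2 hz, rfl⟩⟩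
  have hcardN' : 2 * Nat.card N' = Nat.card N := by rw [← L.card_lift, hlift]
  have hp : IsPGroup 2 N' := (IsPGroup.of_card (n := a) (G := (N.subgroupOf L.C : Subgroup L.C)) (by
    rw [Nat.card_congr (Subgroup.subgroupOfEquivOfLe hN.le).toEquiv, ha])).map _
  haveI : Nontrivial N' := Finite.one_lt_card_iff_nontrivial.1 (by omega)
  set Zc : Subgroup (L.C ⧸ L.Z) := (Subgroup.center N').map N'.subtype with hZc
  haveI : Zc.Normal := by
    refine ⟨?_⟩
    rintro _ ⟨z, hz, rfl⟩ g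
    refine ⟨⟨g * z * g⁻¹, hN'n.conj_mem _ z.2 g⟩, Subgroup.mem_center_iff.2 fun w => Subtype.ext ?_, rfl⟩
    have e : (g⁻¹ * (w : L.C ⧸ L.Z) * g) * z = z * (g⁻¹ * w * g) := congrArg Subtype.val
      (Subgroup.mem_center_iff.1 hz ⟨g⁻¹ * w * g, by simpa using hN'n.conj_mem _ w.2 g⁻¹⟩)
    show (w : L.C ⧸ L.Z) * (g * z * g⁻¹) = g * z * g⁻¹ * w
    calc (w : L.C ⧸ L.Z) * (g * z * g⁻¹) = g * ((g⁻¹ * w * g) * z) * g⁻¹ := by group
      _ = g * ((z : L.C ⧸ L.Z) * (g⁻¹ * w * g)) * g⁻¹ := by rw [e]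
      _ = _ := by group
  have hZN : L.lift Zc = N := by
    refine hmin _ (L.lift_normC inferInstance) (fun z hz => ?_) ?_
    · obtain ⟨h, hm⟩ := L.mem_lift.1 hz
      rw [← hlift]
      exact L.mem_lift.2 ⟨h, (Subgroup.map_subtype_le _) hm⟩
    · rw [L.card_lift, hZc, Subgroup.card_map_of_injective N'.subtype_injective]
      have := hp.center_nontrivial
      have : 1 < Nat.card (Subgroup.center N') := Finite.one_lt_card_iff_nontrivial.2 this
      omega
  intro v hv w hw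
  have hv' : v ∈ L.lift Zc := hZN.symm ▸ hv
  obtain ⟨hvC, ⟨z, hz, hzv⟩⟩ := L.mem_lift.1 hv'
  have hwC := hN.le hw
  have hw' : L.φ ⟨w, hwC⟩ ∈ N' := ⟨⟨w, hwC⟩, Subgroup.mem_subgroupOf.2 hw, rfl⟩
  have e : L.φ ⟨w, hwC⟩ * L.φ ⟨v, hvC⟩ = L.φ ⟨v, hvC⟩ * L.φ ⟨w, hwC⟩ := by
    rw [← hzv]; exact congrArg Subtype.val (Subgroup.mem_center_iff.1 hz ⟨_, hw'⟩)
  have : L.φ (⟨v, hvC⟩ * ⟨w, hwC⟩ * ⟨v, hvC⟩⁻¹ * ⟨w, hwC⟩⁻¹) = 1 := by
    simp only [map_mul, map_inv]
    rw [← e, mul_inv_cancel_right, mul_inv_cancel]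
  exact L.φ_eq_one.1 this

/-- A normal subgroup of order 128 contains no further element fixed by the element of order three. -/
theorem false_of_128 {N : Subgroup G} (hN : L.NormC N) (hc : Nat.card N = 128) {v : G} (hv : v ∈ N) (hv1 : v ≠ 1)
    (hvt : v ≠ L.t) (hvc : Commute v L.c) : False := by
  classical
  haveI : Fact (Nat.Prime 3) := ⟨Nat.prime_three⟩
  have hm := card_fixed_mod (p := 3) (S := (N : Set G)) (z := L.c) (by rw [← L.hc, pow_orderOf_eq_one])
    (fun s hs => hN.conj L.c_mem hs)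
  set K := N ⊓ Subgroup.centralizer ({L.c} : Set G)
  have hK : {s : G | s ∈ (N : Set G) ∧ Commute s L.c} = (K : Set G) := by
    ext s
    simp only [Set.mem_setOf_eq, SetLike.mem_coe, K, Subgroup.mem_inf, Subgroup.mem_centralizer_singleton_iff]
    exact Iff.rfl
  rw [hK] at hm
  change Nat.card N % 3 = Nat.card K % 3 at hm
  rw [hc] at hm
  have hd : Nat.card K ∣ 4 := by
    have hc3 : Nat.card (Subgroup.centralizer ({L.c} : Set G)) = 180 := L.cc3
    have := Nat.dvd_gcd (hc ▸ Subgroup.card_dvd_of_le (inf_le_left : K ≤ N))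
      (hc3 ▸ Subgroup.card_dvd_of_le (inf_le_right : K ≤ Subgroup.centralizer ({L.c} : Set G)))
    rwa [show Nat.gcd 128 180 = 4 by rfl] at this
  have h3 : 2 < Nat.card K := by
    have hsub : ({1, L.t, v} : Finset G) ⊆ (K : Set G).toFinset := by
      intro z hz
      simp only [Finset.mem_insert, Finset.mem_singleton] at hz
      rw [Set.mem_toFinset]
      rcases hz with rfl | rfl | rfl
      · exact one_mem K
      · exact ⟨hN.mem, Subgroup.mem_centralizer_singleton_iff.2 L.hct.symm.eq⟩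
      · exact ⟨hv, Subgroup.mem_centralizer_singleton_iff.2 hvc.eq⟩
    have := Finset.card_le_card hsub
    rw [Set.toFinset_card, ← Nat.card_eq_fintype_card,
      Finset.card_insert_of_notMem (by simp [L.t_ne.symm, hv1.symm]), Finset.card_pair hvt.symm] at this
    exact this
  have : Nat.card K = 4 := by
    have := Nat.le_of_dvd (by norm_num) hd
    interval_cases h : Nat.card K <;> omega
  omega

variable (L)

/-- A subgroup of order sixteen containing the involution and normal in the centraliser. -/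
theorem exists_sixteen : ∃ E : Subgroup G, L.NormC E ∧ Nat.card E = 16 := by
  classical
  by_contra hno
  push Not at hno
  have h128 : ∀ N : Subgroup G, L.NormC N → Nat.card N ≠ 128 := by
    intro N hN hc
    have hcomm := comm_mod hN (a := 7) (by rw [hc]; norm_num) (by omega) fun M hM hle h2 => by
      refine Subgroup.eq_of_le_of_card_ge hle ?_
      rcases hM.cases with e | e | e | e | ⟨e, -⟩
      · omega
      · exact absurd e (hno M hM)
      all_goals omega
    obtain ⟨v, hv, hv1, hvt, hvc⟩ := exists_fixed_three hN (a := 7) (by rw [hc]; norm_num) (by omega) hcomm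
    exact false_of_128 hN hc hv hv1 hvt hvc
  have hall : ∀ N : Subgroup G, L.NormC N → Nat.card N = 2 ∨ Nat.card N = 2688 := by
    intro N hN
    rcases hN.cases with e | e | e | e | ⟨-, K, hK, e⟩
    · exact Or.inl e
    · exact absurd e (hno N hN)
    · exact absurd e (h128 N hN)
    · exact Or.inr e
    · exact absurd e (h128 K hK)
  have hcard : Nat.card (L.C ⧸ L.Z) = 1344 := by
    have h := Subgroup.card_eq_card_quotient_mul_card_subgroup L.Z
    rw [L.card_Z, L.card_C] at h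
    omega
  haveI : Nontrivial (L.C ⧸ L.Z) := Finite.one_lt_card_iff_nontrivial.1 (by omega)
  haveI : IsSimpleGroup (L.C ⧸ L.Z) := ⟨fun M hM => by
    have h := hall _ (L.lift_normC hM)
    rw [L.card_lift] at h
    rcases h with e | e
    · exact Or.inl (Subgroup.eq_bot_of_card_eq _ (by omega))
    · exact Or.inr (Subgroup.eq_top_of_card_eq _ (by omega))⟩
  have hnc : ¬ IsMulCommutative (L.C ⧸ L.Z) := fun h => by
    have e : L.φ (⟨L.c, L.c_mem⟩ * ⟨L.x, L.x_mem⟩ * ⟨L.c, L.c_mem⟩⁻¹ * ⟨L.x, L.x_mem⟩⁻¹) = 1 := by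
      simp only [map_mul, map_inv]
      rw [h.is_comm.comm (L.φ ⟨L.c, L.c_mem⟩), mul_inv_cancel_right, mul_inv_cancel]
    have e' := L.φ_eq_one.1 e
    push_cast at e'
    rw [L.hcx] at e'
    have h2 : (L.x ^ L.k * L.x⁻¹) ^ 2 = 1 := by
      rcases e' with e' | e' <;> rw [e']
      · exact one_pow 2
      · rw [pow_two, L.tt]
    rcases L.hk with hk | hk <;> rw [hk] at h2
    · rw [show (L.x ^ 2 * L.x⁻¹) ^ 2 = L.x ^ 2 by group] at h2
      have := orderOf_dvd_of_pow_eq_one h2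
      rw [L.hx] at this
      norm_num at this
    · rw [show (L.x ^ 4 * L.x⁻¹) ^ 2 = L.x ^ 6 by group] at h2
      have := orderOf_dvd_of_pow_eq_one h2
      rw [L.hx] at this
      norm_num at this
  have hm := CfsgLib.DegreeGraphSmall.simple_mem hnc (by rw [hcard]; norm_num)
  rw [hcard] at hm
  simp [CfsgLib.DegreeGraphSmall.smallOrders] at hm

end Loc

end CfsgSimpleM23
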