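/-
Simple groups of order 10200960: the elementary abelian subgroup of an involution, recognised from the centraliser.
-/
import Cfsg.Agent.Lib.SimpleM23.CentSixteen

set_option autoImplicit false
set_option linter.style.haveILetI false
set_option linter.unusedSectionVars false

namespace CfsgSimpleM23

open Cfsg
open CfsgSimpleM22 (cc)

universe u
variable {G : Type u} [Group G] [Fintype G]

namespace Loc

/-- The subgroup of order sixteen with its properties. -/
structure Six (L : Loc G) (E : Subgroup G) : Prop where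
  normC : L.NormC E
  card : Nat.card E = 16
  comm : ∀ a ∈ E, ∀ b ∈ E, a * b = b * a
  sq : ∀ a ∈ E, a * a = 1
  cent : Subgroup.centralizer (E : Set G) = E
  fixed : ∃ v ∈ E, v ≠ 1 ∧ v ≠ L.t ∧ Commute v L.c

variable {L : Loc G}

theorem not_mem_of_card {N : Subgroup G} {S : Finset G} (h : Nat.card N < S.card) : ∃ z ∈ S, z ∉ N := by
  classical
  by_contra hc
  push Not at hc
  have := Finset.card_le_card (show S ⊆ (N : Set G).toFinset from fun z hz => Set.mem_toFinset.2 (hc z hz))
  rw [Set.toFinset_card, ← Nat.card_eq_fintype_card] at this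
  change _ ≤ Nat.card N at this
  omega

theorem exists_outside {N M : Subgroup G} (h : Nat.card N < Nat.card M) : ∃ z ∈ M, z ∉ N := by
  by_contra hc
  push Not at hc
  exact absurd (Subgroup.card_le_of_le (show M ≤ N from hc)) (by omega)

theorem abelian_of_sixteen {E : Subgroup G} (hE : L.NormC E) (hc : Nat.card E = 16)
    (hcomm : ∀ v ∈ E, ∀ w ∈ E, v * w * v⁻¹ * w⁻¹ = 1 ∨ v * w * v⁻¹ * w⁻¹ = L.t) :
    ∀ a ∈ E, ∀ b ∈ E, a * b = b * a := by
  classical
  set M := E ⊓ Subgroup.centralizer (E : Set G) with hM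
  have hMn : L.NormC M := by
    refine ⟨⟨hE.mem, Subgroup.mem_centralizer_iff.2 fun z hz => (L.comm_t (hE.le hz)).eq⟩,
      fun z hz => hE.le hz.1, fun g hg => mem_normalizer_of_maps fun z hz => ⟨hE.conj hg hz.1, ?_⟩⟩
    refine Subgroup.mem_centralizer_iff.2 ?_
    intro w hw
    have hw' : g⁻¹ * w * g ∈ E := by simpa using hE.conj (inv_mem hg) hw
    have e := Subgroup.mem_centralizer_iff.1 hz.2 _ hw'
    calc w * (g * z * g⁻¹) = g * ((g⁻¹ * w * g) * z) * g⁻¹ := by group
      _ = g * (z * (g⁻¹ * w * g)) * g⁻¹ := by rw [e]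
      _ = _ := by group
  have hle : Nat.card M ≤ 16 := hc ▸ Subgroup.card_le_of_le inf_le_left
  rcases hMn.cases with e | e | e | e | ⟨e, -⟩
  case' inr.inl =>
    have : M = E := Subgroup.eq_of_le_of_card_ge inf_le_left (by omega)
    intro a ha b hb
    exact (Subgroup.mem_centralizer_iff.1 (this.symm ▸ hb : b ∈ M).2 a ha)
  all_goals (try omega)
  exfalso
  have hcen : ∀ z ∈ E, (∀ w ∈ E, w * z = z * w) → z = 1 ∨ z = L.t := by
    intro z hz hzc
    by_contra hn
    push Not at hn
    obtain ⟨w, hw, hwM⟩ := not_mem_of_card (N := M) (S := {1, L.t, z}) (by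
      rw [e, Finset.card_insert_of_notMem (by simp [L.t_ne.symm, hn.1.symm]), Finset.card_pair hn.2.symm]
      norm_num)
    simp only [Finset.mem_insert, Finset.mem_singleton] at hw
    rcases hw with rfl | rfl | rfl
    exacts [hwM (one_mem M), hwM hMn.mem, hwM ⟨hz, Subgroup.mem_centralizer_iff.2 hzc⟩]
  -- the centraliser of an element has index at most two
  have hidx : ∀ (a : G) (W : Subgroup G), W ≤ E → a ∈ E →
      Nat.card W ≤ 2 * Nat.card (W ⊓ Subgroup.centralizer ({a} : Set G) : Subgroup G) := by
    intro a W hW ha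
    set A := W ⊓ Subgroup.centralizer ({a} : Set G) with hA
    by_cases hall : W ≤ A
    · have := Subgroup.card_le_of_le hall; omega
    obtain ⟨e0, he0, he0A⟩ := SetLike.not_le_iff_exists.1 hall
    have hsub : (W : Set G).toFinset ⊆ (A : Set G).toFinset ∪ (A : Set G).toFinset.image (e0 * ·) := by
      intro w hw
      rw [Set.mem_toFinset] at hw
      rw [Finset.mem_union, Set.mem_toFinset, Finset.mem_image]
      by_cases hwA : w ∈ A
      · exact Or.inl hwA
      refine Or.inr ⟨e0⁻¹ * w, ?_, mul_inv_cancel_left e0 w⟩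
      rw [Set.mem_toFinset]
      have hne : ∀ v ∈ W, v ∉ A → v * a * v⁻¹ = L.t * a := by
        intro v hv hvA
        rcases hcomm v (hW hv) a ha with h | h
        · exfalso
          refine hvA ⟨hv, Subgroup.mem_centralizer_singleton_iff.2 ?_⟩
          rwa [mul_inv_eq_one, mul_inv_eq_iff_eq_mul] at h
        · rw [← h]; group
      refine Subgroup.mem_inf.2 ⟨W.mul_mem (W.inv_mem he0) hw, Subgroup.mem_centralizer_singleton_iff.2 ?_⟩
      have h2 : e0 * a * e0⁻¹ = w * a * w⁻¹ := (hne e0 he0 he0A).trans (hne w hw hwA).symm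
      calc e0⁻¹ * w * a = e0⁻¹ * (w * a * w⁻¹) * w := by group
        _ = e0⁻¹ * (e0 * a * e0⁻¹) * w := by rw [h2]
        _ = a * (e0⁻¹ * w) := by group
    have := (Finset.card_le_card hsub).trans ((Finset.card_union_le _ _).trans
      (Nat.add_le_add_left Finset.card_image_le _))
    simp only [Set.toFinset_card, ← Nat.card_eq_fintype_card] at this
    change Nat.card W ≤ Nat.card A + Nat.card A at this
    omega
  obtain ⟨a, ha, hane⟩ := exists_outside (N := M) (M := E) (by omega)
  set A := E ⊓ Subgroup.centralizer ({a} : Set G) with hA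
  have hA8 : 8 ≤ Nat.card A := by have := hidx a E le_rfl ha; rw [hc, ← hA] at this; omega
  have htA : L.t ∈ A := ⟨hE.mem, Subgroup.mem_centralizer_singleton_iff.2 (L.comm_t (hE.le ha)).symm.eq⟩
  have haA : a ∈ A := ⟨ha, Subgroup.mem_centralizer_singleton_iff.2 rfl⟩
  have ha1 : a ≠ 1 := fun e => hane (e ▸ one_mem M)
  have hat : a ≠ L.t := fun e => hane (e ▸ hMn.mem)
  have hsq : ∀ z ∈ E, ∀ w ∈ E, z * z * w = w * (z * z) := by
    intro z hz w hw
    rcases hcomm z hz w hw with h | h
    · rw [mul_inv_eq_one, mul_inv_eq_iff_eq_mul] at h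
      rw [mul_assoc, h, ← mul_assoc, h, mul_assoc]
    · have h' : z * w = L.t * w * z := by rw [← h]; group
      have ht' : z * L.t = L.t * z := (L.comm_t (hE.le hz)).eq
      calc z * z * w = z * (L.t * w * z) := by rw [mul_assoc, h']
        _ = L.t * (z * w) * z := by rw [← mul_assoc, ← mul_assoc, ht', mul_assoc L.t z w]
        _ = (L.t * L.t) * w * (z * z) := by rw [h']; group
        _ = w * (z * z) := by rw [L.tt, one_mul]
  have haa : a * a = 1 ∨ a * a = L.t := hcen _ (mul_mem ha ha) fun w hw => (hsq a ha w hw).symm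
  -- the subgroup generated by the involution and `a`
  let Q : Finset G := {1, L.t, a, L.t * a}
  obtain ⟨b, hb, hbQ⟩ : ∃ b ∈ A, b ∉ Q := by
    by_contra hn
    push Not at hn
    have := Finset.card_le_card (show (A : Set G).toFinset ⊆ Q from fun z hz => hn z (Set.mem_toFinset.1 hz))
    rw [Set.toFinset_card, ← Nat.card_eq_fintype_card] at this
    change Nat.card A ≤ _ at this
    have : Q.card ≤ 4 := Finset.card_le_four
    omega
  set W := A ⊓ Subgroup.centralizer ({b} : Set G) with hW
  have htW : L.t ∈ W := ⟨htA, Subgroup.mem_centralizer_singleton_iff.2 (L.comm_t (hE.le hb.1)).symm.eq⟩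
  have haW : a ∈ W := ⟨haA, Subgroup.mem_centralizer_singleton_iff.2
    (Subgroup.mem_centralizer_singleton_iff.1 hb.2).symm⟩
  have hbW : b ∈ W := ⟨hb, Subgroup.mem_centralizer_singleton_iff.2 rfl⟩
  have hW8 : Nat.card W = 8 := by
    have hlt : Nat.card W < 16 := by
      by_contra hge
      have : W = E := Subgroup.eq_of_le_of_card_ge (inf_le_left.trans inf_le_left) (by omega)
      rcases hcen a ha (fun w hw => Subgroup.mem_centralizer_singleton_iff.1 (this.symm ▸ hw : w ∈ W).1.2) with e | e
      exacts [ha1 e, hat e]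
    obtain ⟨z, hz, hzW⟩ : ∃ z, z ∈ W ∧ z ∉ Q := ⟨b, hbW, hbQ⟩
    have h5 : 5 ≤ Nat.card W := by
      have hsub : insert b Q ⊆ (W : Set G).toFinset := by
        intro z hz
        simp only [Q, Finset.mem_insert, Finset.mem_singleton] at hz
        rw [Set.mem_toFinset]
        rcases hz with rfl | rfl | rfl | rfl | rfl
        exacts [hbW, one_mem W, htW, haW, mul_mem htW haW]
      have := Finset.card_le_card hsub
      rw [Set.toFinset_card, ← Nat.card_eq_fintype_card, Finset.card_insert_of_notMem hbQ] at this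
      change _ ≤ Nat.card W at this
      have hQ : Q.card = 4 := by
        simp only [Q]
        rw [Finset.card_insert_of_notMem, Finset.card_insert_of_notMem, Finset.card_pair]
        · exact fun e => L.t_ne (mul_eq_right.1 e.symm)
        · simp only [Finset.mem_insert, Finset.mem_singleton, not_or]
          exact ⟨hat.symm, fun e => ha1 (mul_eq_left.1 e.symm)⟩
        · simp only [Finset.mem_insert, Finset.mem_singleton, not_or]
          refine ⟨L.t_ne.symm, ha1.symm, fun e => hat ?_⟩
          rw [← inv_eq_of_mul_eq_one_right e.symm]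
          exact inv_eq_of_mul_eq_one_right L.tt
      omega
    have hd : Nat.card W ∣ 16 := hc ▸ Subgroup.card_dvd_of_le (inf_le_left.trans inf_le_left)
    interval_cases h : Nat.card W <;> omega
  -- the centre of that subgroup is all of it
  set V := W ⊓ Subgroup.centralizer (W : Set G) with hV
  have hVW : V = W := by
    refine Subgroup.eq_of_le_of_card_ge inf_le_left ?_
    have hin : ∀ z : G, z = L.t ∨ z = a ∨ z = b → z ∈ V := by
      rintro z (rfl | rfl | rfl) <;> refine ⟨‹_›, Subgroup.mem_centralizer_iff.2 fun w hw => ?_⟩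
      · exact (L.comm_t (hE.le hw.1.1)).eq
      · exact Subgroup.mem_centralizer_singleton_iff.1 hw.1.2
      · exact Subgroup.mem_centralizer_singleton_iff.1 hw.2
    have hsub : insert b Q ⊆ (V : Set G).toFinset := by
      intro z hz
      simp only [Q, Finset.mem_insert, Finset.mem_singleton] at hz
      rw [Set.mem_toFinset]
      rcases hz with rfl | rfl | rfl | rfl | rfl
      exacts [hin _ (Or.inr (Or.inr rfl)), one_mem V, hin _ (Or.inl rfl), hin _ (Or.inr (Or.inl rfl)),
        mul_mem (hin _ (Or.inl rfl)) (hin _ (Or.inr (Or.inl rfl)))]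
    have h5 := Finset.card_le_card hsub
    rw [Set.toFinset_card, ← Nat.card_eq_fintype_card, Finset.card_insert_of_notMem hbQ] at h5
    change _ ≤ Nat.card V at h5
    have hd : Nat.card V ∣ 8 := hW8 ▸ Subgroup.card_dvd_of_le inf_le_left
    have hQ : 4 ≤ Q.card := by
      simp only [Q]
      rw [Finset.card_insert_of_notMem, Finset.card_insert_of_notMem, Finset.card_pair]
      · exact fun e => L.t_ne (mul_eq_right.1 e.symm)
      · simp only [Finset.mem_insert, Finset.mem_singleton, not_or]
        exact ⟨hat.symm, fun e => ha1 (mul_eq_left.1 e.symm)⟩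
      · simp only [Finset.mem_insert, Finset.mem_singleton, not_or]
        refine ⟨L.t_ne.symm, ha1.symm, fun e => hat ?_⟩
        rw [← inv_eq_of_mul_eq_one_right e.symm]
        exact inv_eq_of_mul_eq_one_right L.tt
    rcases Nat.lt_or_ge (Nat.card V) 8 with h | h
    · interval_cases h' : Nat.card V <;> omega
    · omega
  obtain ⟨d, hd, hdW⟩ := exists_outside (N := W) (M := E) (by omega)
  set W' := W ⊓ Subgroup.centralizer ({d} : Set G) with hW'
  have hW'4 : 4 ≤ Nat.card W' := by
    have := hidx d W (inf_le_left.trans inf_le_left) hd; rw [hW8, ← hW'] at this; omega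
  obtain ⟨z, hz, hzM⟩ := exists_outside (N := M) (M := W') (by omega)
  refine hzM ⟨hz.1.1.1, Subgroup.mem_centralizer_iff.2 fun w hw => ?_⟩
  set Y := E ⊓ Subgroup.centralizer ({z} : Set G) with hY
  have hWY : W ≤ Y := fun w hw => ⟨hw.1.1, Subgroup.mem_centralizer_singleton_iff.2
    (Subgroup.mem_centralizer_iff.1 (hVW.symm ▸ hz.1 : z ∈ V).2 w hw)⟩
  have hdY : d ∈ Y := ⟨hd, Subgroup.mem_centralizer_singleton_iff.2
    (Subgroup.mem_centralizer_singleton_iff.1 hz.2).symm⟩
  have hYE : Y = E := by
    refine Subgroup.eq_of_le_of_card_ge inf_le_left ?_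
    have h1 : 8 < Nat.card Y := by
      rw [← hW8]
      refine lt_of_le_of_ne (Subgroup.card_le_of_le hWY) fun e => hdW ?_
      rw [Subgroup.eq_of_le_of_card_ge hWY e.ge]
      exact hdY
    have h2 : Nat.card Y ∣ 16 := hc ▸ Subgroup.card_dvd_of_le inf_le_left
    obtain ⟨r, hr⟩ := h2
    rcases Nat.lt_or_ge r 2 with h | h
    · interval_cases r <;> omega
    · nlinarith
  exact Subgroup.mem_centralizer_singleton_iff.1 (hYE.symm ▸ hw : w ∈ Y).2

variable (L)

theorem exists_six : ∃ E : Subgroup G, L.Six E := by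
  classical
  obtain ⟨E, hE, hc⟩ := L.exists_sixteen
  have h24 : Nat.card E = 2 ^ 4 := by rw [hc]; norm_num
  have hcomm := comm_mod hE h24 (by omega) fun M hM hle h2 => by
    refine Subgroup.eq_of_le_of_card_ge hle ?_
    rcases hM.cases with e | e | e | e | ⟨e, -⟩ <;> omega
  have hab := abelian_of_sixteen hE hc hcomm
  obtain ⟨v, hv, hv1, hvt, hvc⟩ := exists_fixed_three hE h24 (by omega) hcomm
  have hsq : ∀ a ∈ E, a * a = 1 := by
    set K : Subgroup G :=
      { carrier := {a | a ∈ E ∧ a * a = 1}
        one_mem' := ⟨one_mem E, one_mul 1⟩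
        mul_mem' := fun {a b} ha hb => ⟨mul_mem ha.1 hb.1, by
          calc a * b * (a * b) = a * (b * a) * b := by group
            _ = a * (a * b) * b := by rw [hab b hb.1 a ha.1]
            _ = (a * a) * (b * b) := by group
            _ = 1 := by rw [ha.2, hb.2, one_mul]⟩
        inv_mem' := fun {a} ha => ⟨inv_mem ha.1, by rw [← mul_inv_rev, ha.2, inv_one]⟩ } with hKd
    set R : Subgroup G :=
      { carrier := {r | ∃ a ∈ E, a * a = r}
        one_mem' := ⟨1, one_mem E, one_mul 1⟩
        mul_mem' := fun {r s} hr hs => by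
          obtain ⟨a, ha, rfl⟩ := hr
          obtain ⟨b, hb, rfl⟩ := hs
          exact ⟨a * b, mul_mem ha hb, by
            calc a * b * (a * b) = a * (b * a) * b := by group
              _ = a * (a * b) * b := by rw [hab b hb a ha]
              _ = (a * a) * (b * b) := by group⟩
        inv_mem' := fun {r} hr => by
          obtain ⟨a, ha, rfl⟩ := hr
          exact ⟨a⁻¹, inv_mem ha, by rw [mul_inv_rev]⟩ } with hRd
    have hKn : L.NormC K := ⟨⟨hE.mem, L.tt⟩, fun z hz => hE.le hz.1, fun g hg => mem_normalizer_of_maps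
      fun z hz => ⟨hE.conj hg hz.1, by
        calc g * z * g⁻¹ * (g * z * g⁻¹) = g * (z * z) * g⁻¹ := by group
          _ = 1 := by rw [hz.2, mul_one, mul_inv_cancel]⟩⟩
    have hK16 : Nat.card K ≤ 16 := hc ▸ Subgroup.card_le_of_le (fun z hz => hz.1 : K ≤ E)
    rcases hKn.cases with e | e | e | e | ⟨e, -⟩
    · exfalso
      -- then the squares form a normal subgroup of order eight
      let sqHom : E →* R :=
        { toFun := fun a => ⟨(a : G) * a, a, a.2, rfl⟩
          map_one' := Subtype.ext (one_mul 1)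
          map_mul' := fun a b => Subtype.ext (by
            show (a : G) * b * (a * b) = a * a * (b * b)
            calc (a : G) * b * (a * b) = a * (b * a) * b := by group
              _ = a * (a * b) * b := by rw [hab b b.2 a a.2]
              _ = (a * a) * (b * b) := by group) }
      have hsurj : Function.Surjective sqHom := fun ⟨r, a, ha, hr⟩ => ⟨⟨a, ha⟩, Subtype.ext hr⟩
      have hker : Nat.card sqHom.ker = 2 := by
        rw [← e]
        exact Nat.card_congr
          { toFun := fun a => ⟨a.1.1, a.1.2, congrArg Subtype.val a.2⟩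
            invFun := fun z => ⟨⟨z.1, z.2.1⟩, Subtype.ext z.2.2⟩
            left_inv := fun _ => rfl
            right_inv := fun _ => rfl }
      have hR8 : Nat.card R = 8 := by
        have h := sqHom.ker.card_mul_index
        rw [Subgroup.index_ker, MonoidHom.range_eq_top_of_surjective _ hsurj, Subgroup.card_top, hker, hc] at h
        omega
      obtain ⟨r, hr, hro⟩ := exists_order Nat.prime_two (show 2 ∣ Nat.card R by rw [hR8]; norm_num)
      have hrK : r ∈ K := by
        obtain ⟨a, ha, har⟩ := hr
        exact ⟨har ▸ mul_mem ha ha, by rw [← pow_two, ← hro, pow_orderOf_eq_one]⟩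
      have hrt : r = L.t := by
        by_contra hne
        obtain ⟨z, hz, hzK⟩ := not_mem_of_card (N := K) (S := {1, L.t, r}) (by
          rw [e, Finset.card_insert_of_notMem (by simp [L.t_ne.symm, (inv_ne_one hro).symm]),
            Finset.card_pair (Ne.symm hne)]
          norm_num)
        simp only [Finset.mem_insert, Finset.mem_singleton] at hz
        rcases hz with rfl | rfl | rfl
        exacts [hzK (one_mem K), hzK hKn.mem, hzK hrK]
      have hRn : L.NormC R := ⟨hrt ▸ hr, fun z ⟨a, ha, hz⟩ => hz ▸ hE.le (mul_mem ha ha),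
        fun g hg => mem_normalizer_of_maps fun z ⟨a, ha, hz⟩ => ⟨g * a * g⁻¹, hE.conj hg ha, by
          rw [← hz]; group⟩⟩
      rcases hRn.cases with e' | e' | e' | e' | ⟨e', -⟩ <;> omega
    · intro a ha
      have : K = E := Subgroup.eq_of_le_of_card_ge (fun z hz => hz.1) (by omega)
      exact (this.symm ▸ ha : a ∈ K).2
    all_goals omega
  refine ⟨E, hE, hc, hab, hsq, ?_, v, hv, hv1, hvt, hvc⟩
  set M := Subgroup.centralizer (E : Set G) with hM
  have hMn : L.NormC M := ⟨Subgroup.mem_centralizer_iff.2 fun z hz => (L.comm_t (hE.le hz)).eq,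
    fun z hz => Subgroup.mem_centralizer_singleton_iff.2 (Subgroup.mem_centralizer_iff.1 hz _ hE.mem).symm,
    fun g hg => mem_normalizer_of_maps fun z hz => Subgroup.mem_centralizer_iff.2 fun w hw => by
      have hw' : g⁻¹ * w * g ∈ E := by simpa using hE.conj (inv_mem hg) hw
      have e := Subgroup.mem_centralizer_iff.1 hz _ hw'
      calc w * (g * z * g⁻¹) = g * ((g⁻¹ * w * g) * z) * g⁻¹ := by group
        _ = g * (z * (g⁻¹ * w * g)) * g⁻¹ := by rw [e]
        _ = _ := by group⟩
  have hEM : E ≤ M := fun a ha => Subgroup.mem_centralizer_iff.2 fun b hb => hab b hb a ha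
  have hge := Subgroup.card_le_of_le hEM
  rcases hMn.cases with e | e | e | e | ⟨-, K, hK, e⟩
  · omega
  · exact (Subgroup.eq_of_le_of_card_ge hEM (by omega)).symm
  · exact absurd (hEM hv) (fun h => false_of_128 hMn e h hv1 hvt hvc)
  · exfalso
    have hMC : M = L.C := Subgroup.eq_of_le_of_card_ge hMn.le (by rw [L.card_C, e])
    have hx : L.x ∈ M := hMC ▸ L.x_mem
    rcases L.fix7 (v := v) (show Commute v L.x from Subgroup.mem_centralizer_iff.1 hx v hv) (fun h => by
      have := h.trans (Subgroup.orderOf_dvd_natCard E hv)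
      rw [hc] at this
      norm_num at this) with e' | e'
    exacts [hv1 e', hvt e']
  · -- the Sylow two-subgroup would be normal
    exfalso
    haveI : Fact (Nat.Prime 2) := ⟨Nat.prime_two⟩
    have hEK : E ≤ K := by
      haveI : (K.subgroupOf L.C).Normal := (Subgroup.normal_subgroupOf_iff_le_normalizer hK.le).2 hK.norm
      have hp : IsPGroup 2 (K.subgroupOf L.C) := IsPGroup.of_card (n := 7) (by
        rw [Nat.card_congr (Subgroup.subgroupOfEquivOfLe hK.le).toEquiv, e]; norm_num)
      have hpE : IsPGroup 2 (E.subgroupOf L.C) := IsPGroup.of_card (n := 4) (by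
        rw [Nat.card_congr (Subgroup.subgroupOfEquivOfLe hE.le).toEquiv, hc]; norm_num)
      have hs : IsPGroup 2 (E.subgroupOf L.C ⊔ K.subgroupOf L.C : Subgroup L.C) := hpE.to_sup_of_normal_right hp
      obtain ⟨n, hn⟩ := IsPGroup.iff_card.1 hs
      have hd := Subgroup.card_subgroup_dvd_card (E.subgroupOf L.C ⊔ K.subgroupOf L.C)
      rw [hn, L.card_C] at hd
      have hn7 : n ≤ 7 := by
        by_contra h8
        have h256 : 2 ^ 8 ∣ 2688 := (pow_dvd_pow 2 (Nat.lt_of_not_le h8)).trans hd
        norm_num at h256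
      have hle := le_sup_right (a := E.subgroupOf L.C) (b := K.subgroupOf L.C)
      have heq := Subgroup.eq_of_le_of_card_ge hle (by
        rw [hn, Nat.card_congr (Subgroup.subgroupOfEquivOfLe hK.le).toEquiv, e]
        exact Nat.pow_le_pow_right (by norm_num) hn7)
      intro z hz
      have : (⟨z, hE.le hz⟩ : L.C) ∈ E.subgroupOf L.C ⊔ K.subgroupOf L.C :=
        le_sup_left (b := K.subgroupOf L.C) (show (⟨z, hE.le hz⟩ : L.C) ∈ E.subgroupOf L.C from hz)
      rw [← heq] at this
      exact this
    exact false_of_128 hK e (hEK hv) hv1 hvt hvc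

end Loc

end CfsgSimpleM23
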