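/-
Simple groups of order 10200960: the elementary abelian subgroup is determined by orders of centralisers.
-/
import Cfsg.Agent.Lib.SimpleM23.SixData

set_option autoImplicit false
set_option linter.style.haveILetI false
set_option linter.unusedSectionVars false

namespace CfsgSimpleM23

open Cfsg CfsgSimpleM11
open CfsgSimpleM22 (cc)

universe u
variable {G : Type u} [Group G] [Fintype G]

/-- A subgroup acting freely by multiplication divides the size of an invariant set. -/
theorem dvd_card_of_mul_mem {F : Subgroup G} {S : Set G} (h : ∀ f ∈ F, ∀ s ∈ S, f * s ∈ S) :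
    Nat.card F ∣ Nat.card S := by
  classical
  letI : MulAction F S :=
    { smul := fun f s => ⟨f.1 * s.1, h f.1 f.2 s.1 s.2⟩
      one_smul := fun s => Subtype.ext (one_mul s.1)
      mul_smul := fun a b s => Subtype.ext (mul_assoc a.1 b.1 s.1) }
  have hfree : ∀ s : S, MulAction.stabilizer F s = ⊥ := fun s => eq_bot_iff.mpr fun f hf => by
    have e : f.1 * s.1 = s.1 := congrArg Subtype.val hf
    exact Subgroup.mem_bot.mpr (Subtype.ext (mul_eq_right.mp e))
  rw [Nat.card_congr (MulAction.selfEquivOrbitsQuotientProd hfree), Nat.card_prod]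
  exact dvd_mul_left _ _

namespace Loc

variable {L : Loc G}

/-- An element of the given order is conjugate in the centraliser to a power of the standard one. -/
theorem conj_std {p : ℕ} [Fact p.Prime] (hp : ¬ p ^ 2 ∣ 2688) {x y : G} (hx : x ∈ L.C) (hy : y ∈ L.C)
    (hox : orderOf x = p) (hoy : orderOf y = p) {v : G} (hvy : Commute v y) :
    ∃ g ∈ L.C, Commute (g * v * g⁻¹) x := by
  obtain ⟨g, hg, hgy⟩ := conj_into (p := p) (by rw [L.card_C]; exact hp) hx hy hox hoy
  refine ⟨g, hg, ?_⟩
  have h1 : g * y * g⁻¹ ≠ 1 := fun e => by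
    have : y = 1 := by
      have := congrArg (fun z => g⁻¹ * z * g) e
      simpa [mul_assoc] using this
    rw [this, orderOf_one] at hoy
    exact (Fact.out : p.Prime).ne_one hoy.symm
  have hz : Subgroup.zpowers (g * y * g⁻¹) = Subgroup.zpowers x := by
    refine Subgroup.eq_of_le_of_card_ge (Subgroup.zpowers_le.2 hgy) ?_
    rw [Nat.card_zpowers, Nat.card_zpowers, hox, ← MulAut.conj_apply, MulEquiv.orderOf_eq, hoy]
  obtain ⟨m, hm⟩ := Subgroup.mem_zpowers_iff.1 (hz.symm ▸ Subgroup.mem_zpowers x : x ∈ Subgroup.zpowers (g * y * g⁻¹))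
  rw [← hm]
  refine Commute.zpow_right ?_ m
  show g * v * g⁻¹ * (g * y * g⁻¹) = g * y * g⁻¹ * (g * v * g⁻¹)
  calc g * v * g⁻¹ * (g * y * g⁻¹) = g * (v * y) * g⁻¹ := by group
    _ = g * (y * v) * g⁻¹ := by rw [hvy.eq]
    _ = _ := by group

theorem conj_eq_or {E : Subgroup G} (hE : L.Six E) {g v : G} (hg : g ∈ L.C)
    (h : g * v * g⁻¹ = 1 ∨ g * v * g⁻¹ = L.t) : v = 1 ∨ v = L.t := by
  rcases h with h | h
  · left
    calc v = g⁻¹ * (g * v * g⁻¹) * g := by group
      _ = 1 := by rw [h]; group
  · right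
    calc v = g⁻¹ * (g * v * g⁻¹) * g := by group
      _ = g⁻¹ * (L.t * g) := by rw [h, mul_assoc]
      _ = L.t := by rw [← (L.comm_t hg).eq, inv_mul_cancel_left]

/-- No element of order seven commutes with a further element of the subgroup. -/
theorem Six.not_seven {E : Subgroup G} (hE : L.Six E) {e : G} (he : e ∈ E) (h1 : e ≠ 1) (ht : e ≠ L.t) :
    ¬ 7 ∣ Nat.card (L.C ⊓ Subgroup.centralizer ({e} : Set G) : Subgroup G) := fun h7 => by
  haveI : Fact (Nat.Prime 7) := ⟨by norm_num⟩
  obtain ⟨y, hy, hoy⟩ := exists_order (by norm_num : Nat.Prime 7) h7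
  obtain ⟨g, hg, hgc⟩ := conj_std (L := L) (p := 7) (by norm_num) L.x_mem hy.1 L.hx hoy
    (v := e) (Subgroup.mem_centralizer_singleton_iff.1 hy.2).symm
  have h7' : ¬ 7 ∣ orderOf (g * e * g⁻¹) := fun h => by
    have := h.trans (Subgroup.orderOf_dvd_natCard E (hE.normC.conj hg he))
    rw [hE.card] at this
    norm_num at this
  rcases conj_eq_or hE hg (L.fix7 hgc h7') with e' | e'
  exacts [h1 e', ht e']

/-- An involution outside commutes with no element of order three. -/
theorem Six.not_three {E : Subgroup G} (hE : L.Six E) {u : G} (hu : u ∈ L.C) (hu4 : u ^ 4 = 1) (huE : u ∉ E) :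
    ¬ 3 ∣ Nat.card (L.C ⊓ Subgroup.centralizer ({u} : Set G) : Subgroup G) := fun h3 => by
  classical
  haveI : Fact (Nat.Prime 3) := ⟨Nat.prime_three⟩
  obtain ⟨y, hy, hoy⟩ := exists_order Nat.prime_three h3
  obtain ⟨g, hg, hgc⟩ := conj_std (L := L) (p := 3) (by norm_num) L.c_mem hy.1 L.hc hoy
    (v := u) (Subgroup.mem_centralizer_singleton_iff.1 hy.2).symm
  set v := g * u * g⁻¹ with hv
  have hvC : v ∈ L.C := mul_mem (mul_mem hg hu) (inv_mem hg)
  have hvE : v ∉ E := fun h => huE (by
    have := hE.normC.conj (inv_mem hg) h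
    simpa [hv, mul_assoc] using this)
  have hv4 : v ^ 4 = 1 := by rw [hv, conj_pow, hu4, mul_one, mul_inv_cancel]
  obtain ⟨e, he, he1, het, hec⟩ := hE.fixed
  have hC3 : Nat.card (Subgroup.centralizer ({L.c} : Set G)) = 180 := L.cc3
  haveI : Fact (Nat.Prime 2) := ⟨Nat.prime_two⟩
  -- the subgroup generated by the subgroup and the involution
  have hEv : ∀ z ∈ E, v * z * v⁻¹ ∈ E := fun z hz => hE.normC.conj hvC hz
  set F := E ⊔ Subgroup.zpowers v with hF
  haveI : (E.subgroupOf L.C).Normal := (Subgroup.normal_subgroupOf_iff_le_normalizer hE.normC.le).2 hE.normC.norm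
  have hpF : IsPGroup 2 F := by
    have hpE : IsPGroup 2 E := IsPGroup.of_card (n := 4) (by rw [hE.card]; norm_num)
    obtain ⟨m, -, hm⟩ := (Nat.dvd_prime_pow Nat.prime_two).1
      (orderOf_dvd_of_pow_eq_one (show v ^ 2 ^ 2 = 1 from hv4))
    have hv' : IsPGroup 2 (Subgroup.zpowers v) := IsPGroup.of_card (n := m) (by rw [Nat.card_zpowers, hm])
    exact hpE.to_sup_of_normal_left' hv' (Subgroup.zpowers_le.2 (hE.normC.norm hvC))
  set P := F ⊓ Subgroup.centralizer ({L.c} : Set G) with hP
  obtain ⟨n, hn⟩ := IsPGroup.iff_card.1 hpF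
  have hd : Nat.card P ∣ 4 := by
    have h1 : Nat.card P ∣ 2 ^ n := hn ▸ Subgroup.card_dvd_of_le (inf_le_left : P ≤ F)
    obtain ⟨k, -, hk⟩ := (Nat.dvd_prime_pow Nat.prime_two).1 h1
    have h2 : 2 ^ k ∣ 180 := hk ▸ hC3 ▸ Subgroup.card_dvd_of_le (inf_le_right : P ≤ Subgroup.centralizer ({L.c} : Set G))
    rw [hk]
    refine pow_dvd_pow 2 (m := k) (n := 2) ?_
    by_contra h3
    have : (2 : ℕ) ^ 3 ∣ 180 := (pow_dvd_pow 2 (by omega)).trans h2
    norm_num at this
  have hmem : ∀ z ∈ E, Commute z L.c → z ∈ P := fun z hz hzc =>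
    ⟨le_sup_left (b := Subgroup.zpowers v) hz, Subgroup.mem_centralizer_singleton_iff.2 hzc.eq⟩
  have hvP : v ∈ P := ⟨le_sup_right (a := E) (Subgroup.mem_zpowers v), Subgroup.mem_centralizer_singleton_iff.2 hgc.eq⟩
  obtain ⟨z, hz, hzP⟩ := not_mem_of_card (N := P) (S := {1, L.t, e, L.t * e, v}) (by
    have hle := Nat.le_of_dvd (by norm_num) hd
    have hte : L.t * e ∈ E := mul_mem hE.normC.mem he
    have h5 : ({1, L.t, e, L.t * e, v} : Finset G).card = 5 := by
      rw [Finset.card_insert_of_notMem, Finset.card_insert_of_notMem, Finset.card_insert_of_notMem, Finset.card_pair]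
      · exact fun h => hvE (h ▸ hte)
      · simp only [Finset.mem_insert, Finset.mem_singleton, not_or]
        exact ⟨fun h => L.t_ne (mul_eq_right.1 h.symm), fun h => hvE (h ▸ he)⟩
      · simp only [Finset.mem_insert, Finset.mem_singleton, not_or]
        exact ⟨het.symm, fun h => he1 (mul_eq_left.1 h.symm), fun h => hvE (h ▸ hE.normC.mem)⟩
      · simp only [Finset.mem_insert, Finset.mem_singleton, not_or]
        refine ⟨L.t_ne.symm, he1.symm, fun h => het ?_, fun h => hvE (h ▸ one_mem E)⟩
        rw [← inv_eq_of_mul_eq_one_right h.symm]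
        exact inv_eq_of_mul_eq_one_right L.tt
    omega)
  simp only [Finset.mem_insert, Finset.mem_singleton] at hz
  rcases hz with rfl | rfl | rfl | rfl | rfl
  exacts [hzP (one_mem P), hzP (hmem _ hE.normC.mem L.hct.symm), hzP (hmem _ he hec),
    hzP (hmem _ (mul_mem hE.normC.mem he) (L.hct.symm.mul_left hec)), hzP hvP]

/-- Orders of centralisers of the other elements. -/
theorem Six.card_inf {E : Subgroup G} (hE : L.Six E)
    (h98 : Nat.card {u : G // orderOf u = 2 ∧ Commute u L.t ∧ u ≠ L.t} = 98) {e : G} (he : e ∈ E) (h1 : e ≠ 1)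
    (ht : e ≠ L.t) : Nat.card (L.C ⊓ Subgroup.centralizer ({e} : Set G) : Subgroup G) = 192 := by
  classical
  letI : MulAction L.C G := MulAction.compHom G ((MulAut.conj : G →* MulAut G).comp L.C.subtype)
  have hsmul : ∀ (g : L.C) (z : G), g • z = (g : G) * z * (g : G)⁻¹ := fun g z => rfl
  set O := MulAction.orbit L.C e with hO
  have hoc : Nat.card O * Nat.card (L.C ⊓ Subgroup.centralizer ({e} : Set G) : Subgroup G) = 2688 := by
    rw [← L.card_C, ← Subgroup.card_mul_index (MulAction.stabilizer L.C e), mul_comm]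
    congr 1
    · rw [← Nat.card_congr (Subgroup.subgroupOfEquivOfLe
        (inf_le_left : L.C ⊓ Subgroup.centralizer ({e} : Set G) ≤ L.C)).toEquiv]
      refine Nat.card_congr (Equiv.subtypeEquivRight fun g => ?_)
      rw [Subgroup.mem_subgroupOf, Subgroup.mem_inf, MulAction.mem_stabilizer_iff, hsmul,
        mul_inv_eq_iff_eq_mul]
      exact ⟨fun h => Subgroup.mem_centralizer_singleton_iff.1 h.2,
        fun h => ⟨g.2, Subgroup.mem_centralizer_singleton_iff.2 h⟩⟩
    · rw [Subgroup.index, Nat.card_congr (MulAction.orbitEquivQuotientStabilizer L.C e)]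
  have hOE : ∀ z ∈ O, z ∈ E ∧ z ≠ 1 ∧ z ≠ L.t := by
    rintro _ ⟨g, rfl⟩
    simp only [hsmul]
    refine ⟨hE.normC.conj g.2 he, fun h => ?_, fun h => ?_⟩ <;>
      rcases conj_eq_or hE g.2 (by first | exact Or.inl h | exact Or.inr h) with e' | e'
    all_goals first | exact h1 e' | exact ht e'
  have h7 := hE.not_seven he h1 ht
  have hO14 : Nat.card O ≤ 14 := by
    have hsub : O.toFinset ⊆ ((E : Set G).toFinset.erase 1).erase L.t := by
      intro z hz
      obtain ⟨a, b, c⟩ := hOE z (Set.mem_toFinset.1 hz)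
      exact Finset.mem_erase.2 ⟨c, Finset.mem_erase.2 ⟨b, Set.mem_toFinset.2 a⟩⟩
    have := Finset.card_le_card hsub
    rw [Set.toFinset_card, ← Nat.card_eq_fintype_card, Finset.card_erase_of_mem
      (Finset.mem_erase.2 ⟨L.t_ne, Set.mem_toFinset.2 hE.normC.mem⟩), Finset.card_erase_of_mem
      (Set.mem_toFinset.2 (one_mem E)), Set.toFinset_card, ← Nat.card_eq_fintype_card] at this
    change Nat.card O ≤ Nat.card E - 1 - 1 at this
    rw [hE.card] at this
    exact this
  have hO7 : 7 ∣ Nat.card O := by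
    refine ((by norm_num : Nat.Prime 7).dvd_mul.1 ?_).resolve_right h7
    rw [hoc]; norm_num
  obtain ⟨k, hk⟩ := hO7
  have hk2 : k ≠ 0 := fun e => by rw [hk, e] at hoc; simp at hoc
  rcases (show k = 1 ∨ k = 2 by omega) with rfl | rfl
  swap
  · rw [hk] at hoc; omega
  -- two orbits of length seven are impossible
  exfalso
  have hcl : ∀ z ∈ O, ∀ g ∈ L.C, g * z * g⁻¹ ∈ O := by
    rintro _ ⟨a, rfl⟩ g hg
    refine ⟨⟨g, hg⟩ * a, ?_⟩
    simp only [hsmul, Subgroup.coe_mul]
    group
  have hte : ∀ z ∈ O, L.t * z ∉ O := by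
    intro z hz htz
    have hmul : ∀ w ∈ O, L.t * w ∈ O := by
      intro w hw
      have hw' : w ∈ MulAction.orbit L.C z := by rw [MulAction.orbit_eq_iff.2 hz]; exact hw
      obtain ⟨a, rfl⟩ := hw'
      simp only [hsmul]
      have := hcl _ htz a a.2
      rwa [show (a : G) * (L.t * z) * (a : G)⁻¹ = L.t * ((a : G) * z * (a : G)⁻¹) by
        rw [← mul_assoc (a : G), (L.comm_t a.2).eq]; group] at this
    have := dvd_card_of_mul_mem (F := Subgroup.zpowers L.t) (S := O) (fun f hf w hw => by
      obtain ⟨m, hm⟩ := (Submonoid.mem_powers_iff _ _).1 (mem_powers_iff_mem_zpowers.2 hf)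
      rw [← hm]
      clear hm
      induction m with
      | zero => simpa using hw
      | succ m ih => rw [pow_succ', mul_assoc]; exact hmul _ ih)
    rw [Nat.card_zpowers, L.ht, hk] at this
    norm_num at this
  have hall : ∀ z ∈ E, z ≠ 1 → z ≠ L.t → z ∈ O ∨ L.t * z ∈ O := by
    intro z hz hz1 hzt
    by_contra hn
    push Not at hn
    have hsub : insert z (O.toFinset ∪ O.toFinset.image (L.t * ·)) ⊆ ((E : Set G).toFinset.erase 1).erase L.t := by
      intro w hw
      rw [Finset.mem_insert, Finset.mem_union, Finset.mem_image] at hw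
      rcases hw with rfl | hw | ⟨w, hw, rfl⟩
      · exact Finset.mem_erase.2 ⟨hzt, Finset.mem_erase.2 ⟨hz1, Set.mem_toFinset.2 hz⟩⟩
      · obtain ⟨a, b, c⟩ := hOE w (Set.mem_toFinset.1 hw)
        exact Finset.mem_erase.2 ⟨c, Finset.mem_erase.2 ⟨b, Set.mem_toFinset.2 a⟩⟩
      · obtain ⟨a, b, c⟩ := hOE w (Set.mem_toFinset.1 hw)
        refine Finset.mem_erase.2 ⟨fun h => b (mul_eq_left.1 h), Finset.mem_erase.2 ⟨fun h => c ?_, Set.mem_toFinset.2
          (mul_mem hE.normC.mem a)⟩⟩
        rw [← inv_eq_of_mul_eq_one_right h]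
        exact inv_eq_of_mul_eq_one_right L.tt
    have h := Finset.card_le_card hsub
    rw [Finset.card_insert_of_notMem, Finset.card_union_of_disjoint, Finset.card_image_of_injective _
      (mul_right_injective L.t), Finset.card_erase_of_mem
      (Finset.mem_erase.2 ⟨L.t_ne, Set.mem_toFinset.2 hE.normC.mem⟩), Finset.card_erase_of_mem
      (Set.mem_toFinset.2 (one_mem E)), Set.toFinset_card, Set.toFinset_card, ← Nat.card_eq_fintype_card,
      ← Nat.card_eq_fintype_card, hk] at h
    · change _ ≤ Nat.card E - 1 - 1 at h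
      rw [hE.card] at h
      omega
    · rw [Finset.disjoint_left]
      intro w hw hw'
      obtain ⟨w', hw'', rfl⟩ := Finset.mem_image.1 hw'
      exact hte w' (Set.mem_toFinset.1 hw'') (Set.mem_toFinset.1 hw)
    · rw [Finset.mem_union, Finset.mem_image]
      rintro (h' | ⟨w, hw, rfl⟩)
      · exact hn.1 (Set.mem_toFinset.1 h')
      · refine hn.2 ?_
        rw [← mul_assoc, L.tt, one_mul]
        exact Set.mem_toFinset.1 hw
  have h8 : ∀ u ∈ L.C, u * u = 1 → u ∉ E →
      Nat.card (E ⊓ Subgroup.centralizer ({u} : Set G) : Subgroup G) = 8 := by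
    intro u hu hu2 huE
    have hui : u⁻¹ = u := inv_eq_of_mul_eq_one_right hu2
    set K := E ⊓ Subgroup.centralizer ({u} : Set G) with hK
    let d : E →* E :=
      { toFun := fun a => ⟨(a : G) * (u * a * u⁻¹), mul_mem a.2 (hE.normC.conj hu a.2)⟩
        map_one' := Subtype.ext (by simp)
        map_mul' := fun a b => Subtype.ext (by
          show (a : G) * b * (u * (a * b) * u⁻¹) = a * (u * a * u⁻¹) * (b * (u * b * u⁻¹))
          calc (a : G) * b * (u * (a * b) * u⁻¹) = a * (b * (u * a * u⁻¹)) * (u * b * u⁻¹) := by group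
            _ = a * ((u * a * u⁻¹) * b) * (u * b * u⁻¹) := by rw [hE.comm _ b.2 _ (hE.normC.conj hu a.2)]
            _ = _ := by group) }
    have hdker : Nat.card d.ker = Nat.card K := Nat.card_congr
      { toFun := fun a => ⟨a.1.1, a.1.2, Subgroup.mem_centralizer_singleton_iff.2 (by
          have h : (a.1 : G) * (u * a.1 * u⁻¹) = 1 := congrArg Subtype.val a.2
          have h' := eq_inv_of_mul_eq_one_right h
          rw [inv_eq_of_mul_eq_one_right (hE.sq _ a.1.2), mul_inv_eq_iff_eq_mul] at h'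
          exact h'.symm)⟩
        invFun := fun z => ⟨⟨z.1, z.2.1⟩, Subtype.ext (by
          show (z.1 : G) * (u * z.1 * u⁻¹) = 1
          rw [← Subgroup.mem_centralizer_singleton_iff.1 z.2.2, mul_inv_cancel_right, hE.sq _ z.2.1])⟩
        left_inv := fun _ => rfl
        right_inv := fun _ => rfl }
    have hdO : ∀ z : G, z ∈ O → z * (u * z * u⁻¹) ≠ L.t := by
      intro z hz h
      refine hte z hz ?_
      obtain ⟨hzE, -, -⟩ := hOE z hz
      rw [← h, hE.comm _ hzE _ (hE.normC.conj hu hzE), mul_assoc, hE.sq _ hzE, mul_one]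
      exact hcl z hz u hu
    have hdt : ∀ a : E, (d a : G) ≠ L.t := by
      intro a h
      change (a : G) * (u * a * u⁻¹) = L.t at h
      rcases eq_or_ne (a : G) 1 with e' | e'
      · rw [e'] at h; simp at h; exact L.t_ne h.symm
      rcases eq_or_ne (a : G) L.t with e'' | e''
      · rw [e'', (L.comm_t hu).eq, mul_inv_cancel_right, L.tt] at h; exact L.t_ne h.symm
      rcases hall a a.2 e' e'' with ha | ha
      · exact hdO _ ha h
      · refine hdO _ ha (Eq.trans ?_ h)
        calc L.t * (a : G) * (u * (L.t * a) * u⁻¹) = L.t * a * ((u * L.t) * a * u⁻¹) := by group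
          _ = L.t * a * ((L.t * u) * a * u⁻¹) := by rw [(L.comm_t hu).eq]
          _ = L.t * (a * L.t) * (u * a * u⁻¹) := by group
          _ = L.t * (L.t * a) * (u * a * u⁻¹) := by rw [hE.comm _ a.2 _ hE.normC.mem]
          _ = (L.t * L.t) * ((a : G) * (u * a * u⁻¹)) := by group
          _ = a * (u * a * u⁻¹) := by rw [L.tt, one_mul]
    set R := d.range.map E.subtype with hR
    have hRK : ∀ r ∈ R, r ∈ K ∧ r ≠ L.t := by
      rintro _ ⟨_, ⟨a, rfl⟩, rfl⟩
      refine ⟨⟨(d a).2, Subgroup.mem_centralizer_singleton_iff.2 ?_⟩, hdt a⟩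
      show ((a : G) * (u * a * u⁻¹)) * u = u * ((a : G) * (u * a * u⁻¹))
      calc (a : G) * (u * a * u⁻¹) * u = (a : G) * (u * a) := by group
        _ = (u * a * u⁻¹) * (a : G) * u := by
          rw [← hE.comm _ a.2 _ (hE.normC.conj hu a.2)]; group
        _ = u * a * (u * (a : G) * u⁻¹) := by rw [hui]; simp only [mul_assoc]
        _ = _ := by group
    have hRc : 2 * Nat.card R ≤ Nat.card K := by
      have hsub : (R : Set G).toFinset ∪ (R : Set G).toFinset.image (L.t * ·) ⊆ (K : Set G).toFinset := by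
        intro z hz
        rw [Finset.mem_union, Finset.mem_image] at hz
        rw [Set.mem_toFinset]
        rcases hz with hz | ⟨w, hw, rfl⟩
        · exact (hRK z (Set.mem_toFinset.1 hz)).1
        · exact mul_mem ⟨hE.normC.mem, Subgroup.mem_centralizer_singleton_iff.2 (L.comm_t hu).symm.eq⟩
            (hRK w (Set.mem_toFinset.1 hw)).1
      have h := Finset.card_le_card hsub
      rw [Finset.card_union_of_disjoint, Finset.card_image_of_injective _ (mul_right_injective L.t),
        Set.toFinset_card, Set.toFinset_card, ← Nat.card_eq_fintype_card, ← Nat.card_eq_fintype_card] at h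
      · change Nat.card R + Nat.card R ≤ Nat.card K at h
        omega
      · rw [Finset.disjoint_left]
        intro w hw hw'
        obtain ⟨w', hw'', rfl⟩ := Finset.mem_image.1 hw'
        rw [Set.mem_toFinset] at hw hw''
        exact (hRK _ (mul_mem hw (inv_mem hw''))).2 (by group)
    have hprod : Nat.card K * Nat.card R = 16 := by
      rw [hR, Subgroup.card_map_of_injective E.subtype_injective, ← hdker, ← Subgroup.index_ker, Subgroup.card_mul_index,
        hE.card]
    have hK16 : Nat.card K < 16 := by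
      refine lt_of_le_of_ne (hE.card ▸ Subgroup.card_le_of_le inf_le_left) fun e => huE ?_
      have hKE : K = E := Subgroup.eq_of_le_of_card_ge inf_le_left (by rw [e, hE.card])
      rw [← hE.cent]
      exact Subgroup.mem_centralizer_iff.2 fun z hz =>
        Subgroup.mem_centralizer_singleton_iff.1 (hKE.symm ▸ hz : z ∈ K).2
    have hd : Nat.card K ∣ 16 := hE.card ▸ Subgroup.card_dvd_of_le inf_le_left
    have hR2 : 2 ≤ Nat.card R := by
      by_contra hlt
      have h1 : Nat.card R ≤ 1 := by omega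
      have := Nat.mul_le_mul_left (Nat.card K) h1
      omega
    interval_cases h : Nat.card K <;> omega
  -- the involutions outside fall into cosets
  set S := Finset.univ.filter fun u : G => (orderOf u = 2 ∧ Commute u L.t ∧ u ≠ L.t) ∧ u ∉ E with hS
  have hS84 : S.card = 84 := by
    have h1 := Finset.card_filter_add_card_filter_not
      (s := Finset.univ.filter fun u : G => orderOf u = 2 ∧ Commute u L.t ∧ u ≠ L.t) (fun u => u ∈ E)
    rw [Finset.filter_filter, Finset.filter_filter, ← hS, show (Finset.univ.filter fun u : G => orderOf u = 2 ∧ Commute u L.t ∧ u ≠ L.t).card = 98 by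
      rw [← Fintype.card_subtype, ← Nat.card_eq_fintype_card, h98]] at h1
    have h2 : (Finset.univ.filter fun u : G => (orderOf u = 2 ∧ Commute u L.t ∧ u ≠ L.t) ∧ u ∈ E) =
        ((E : Set G).toFinset.erase 1).erase L.t := by
      ext z
      simp only [Finset.mem_filter, Finset.mem_univ, true_and, Finset.mem_erase, Set.mem_toFinset, SetLike.mem_coe]
      constructor
      · rintro ⟨⟨a, -, b⟩, c⟩; exact ⟨b, inv_ne_one a, c⟩
      · rintro ⟨a, b, c⟩
        exact ⟨⟨orderOf_eq_prime (by rw [pow_two]; exact hE.sq z c) b, L.comm_t (hE.normC.le c), a⟩, c⟩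
    rw [h2, Finset.card_erase_of_mem (Finset.mem_erase.2 ⟨L.t_ne, Set.mem_toFinset.2 hE.normC.mem⟩),
      Finset.card_erase_of_mem (Set.mem_toFinset.2 (one_mem E)), Set.toFinset_card, ← Nat.card_eq_fintype_card] at h1
    change Nat.card E - 1 - 1 + S.card = 98 at h1
    rw [hE.card] at h1
    omega
  have hdiv : 8 ∣ S.card := by
    rw [Finset.card_eq_sum_card_image (fun u => (QuotientGroup.mk u : G ⧸ E)) S]
    refine Finset.dvd_sum fun q hq => ?_
    obtain ⟨u, hu, rfl⟩ := Finset.mem_image.1 hq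
    obtain ⟨⟨hu2, hut, -⟩, huE⟩ := (Finset.mem_filter.1 hu).2
    have huC : u ∈ L.C := Subgroup.mem_centralizer_singleton_iff.2 hut.eq
    have huu : u * u = 1 := by rw [← pow_two, ← hu2, pow_orderOf_eq_one]
    have hcard : (S.filter fun w => (QuotientGroup.mk w : G ⧸ E) = QuotientGroup.mk u).card =
        Nat.card (E ⊓ Subgroup.centralizer ({u} : Set G) : Subgroup G) := by
      rw [← Nat.card_eq_finsetCard]
      refine Nat.card_congr
        { toFun := fun w => ⟨u⁻¹ * w.1, ?_⟩
          invFun := fun z => ⟨u * z.1, ?_⟩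
          left_inv := fun w => Subtype.ext (mul_inv_cancel_left u w.1)
          right_inv := fun z => Subtype.ext (inv_mul_cancel_left u z.1) }
      · obtain ⟨hw, hwq⟩ := Finset.mem_filter.1 w.2
        obtain ⟨⟨hw2, -, -⟩, -⟩ := (Finset.mem_filter.1 hw).2
        have hz : u⁻¹ * w.1 ∈ E := QuotientGroup.eq.1 hwq.symm
        refine ⟨hz, Subgroup.mem_centralizer_singleton_iff.2 ?_⟩
        have hww : (u * (u⁻¹ * w.1)) * (u * (u⁻¹ * w.1)) = 1 := by
          rw [mul_inv_cancel_left, ← pow_two, ← hw2, pow_orderOf_eq_one]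
        generalize u⁻¹ * w.1 = z at hz hww ⊢
        have h1 := eq_inv_of_mul_eq_one_left hww
        rw [mul_inv_rev, inv_eq_of_mul_eq_one_right (hE.sq z hz), inv_eq_of_mul_eq_one_right huu] at h1
        exact h1.symm
      · have hzu : (z.1 : G) * u = u * z.1 := Subgroup.mem_centralizer_singleton_iff.1 z.2.2
        refine Finset.mem_filter.2 ⟨Finset.mem_filter.2 ⟨Finset.mem_univ _, ⟨?_, ?_, ?_⟩, ?_⟩, ?_⟩
        · refine orderOf_eq_prime ?_ fun h => huE ?_
          · rw [pow_two]
            calc u * z.1 * (u * z.1) = u * (z.1 * u) * z.1 := by group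
              _ = u * (u * z.1) * z.1 := by rw [hzu]
              _ = (u * u) * (z.1 * z.1) := by group
              _ = 1 := by rw [huu, hE.sq _ z.2.1, one_mul]
          · rw [eq_inv_of_mul_eq_one_left h]; exact inv_mem z.2.1
        · exact hut.mul_left (L.comm_t (hE.normC.le z.2.1))
        · intro h; refine huE ?_
          rw [eq_mul_inv_of_mul_eq h]
          exact mul_mem hE.normC.mem (inv_mem z.2.1)
        · intro h; exact huE (by simpa using mul_mem h (inv_mem z.2.1))
        · exact (QuotientGroup.mk_mul_of_mem u z.2.1)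
    rw [hcard, h8 u huC huu huE]
  rw [hS84] at hdiv
  norm_num at hdiv

/-- The subgroup consists of the involutions with centralisers of order 192 inside, with the involution and one. -/
theorem Six.mem_iff {E : Subgroup G} (hE : L.Six E)
    (h98 : Nat.card {u : G // orderOf u = 2 ∧ Commute u L.t ∧ u ≠ L.t} = 98) {u : G} :
    u ∈ E ↔ u = 1 ∨ u = L.t ∨ (orderOf u = 2 ∧ Commute u L.t ∧
      Nat.card (L.C ⊓ Subgroup.centralizer ({u} : Set G) : Subgroup G) = 192) := by
  constructor
  · intro hu
    by_cases h1 : u = 1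
    · exact Or.inl h1
    by_cases h2 : u = L.t
    · exact Or.inr (Or.inl h2)
    exact Or.inr (Or.inr ⟨orderOf_eq_prime (by rw [pow_two]; exact hE.sq u hu) h1, L.comm_t (hE.normC.le hu),
      hE.card_inf h98 hu h1 h2⟩)
  · rintro (rfl | rfl | ⟨ho, hc, h192⟩)
    · exact one_mem E
    · exact hE.normC.mem
    · by_contra huE
      refine hE.not_three (Subgroup.mem_centralizer_singleton_iff.2 hc.eq)
        (orderOf_dvd_iff_pow_eq_one.1 (by rw [ho]; norm_num)) huE ?_
      rw [h192]; norm_num

end Loc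

end CfsgSimpleM23
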