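/-
Simple groups of order 10200960: an involution outside the elementary subgroup commutes with four of its elements.
-/
import Cfsg.Agent.Lib.SimpleM23.SixChar

set_option autoImplicit false
set_option linter.style.haveILetI false
set_option linter.unusedSectionVars false

namespace CfsgSimpleM23

open Cfsg CfsgSimpleM11

universe u
variable {G : Type u} [Group G] [Fintype G]

namespace Loc

variable {L : Loc G}

/-- An involution outside commutes with at least four of the elements. -/
theorem Six.four_le {E : Subgroup G} (hE : L.Six E) {u : G} (hu : u ∈ L.C) (hu2 : u * u = 1) :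
    4 ≤ Nat.card (E ⊓ Subgroup.centralizer ({u} : Set G) : Subgroup G) := by
  classical
  have hui : u⁻¹ = u := inv_eq_of_mul_eq_one_right hu2
  set K := E ⊓ Subgroup.centralizer ({u} : Set G) with hK
  let d : E →* E :=
    { toFun := fun a => ⟨(a : G) * (u * a * u⁻¹), mul_mem a.2 (hE.normC.conj hu a.2)⟩
      map_one' := Subtype.ext (by simp)
      map_mul' := fun a b => Subtype.ext (by
        show (a : G) * b * (u * (a * b) * u⁻¹) = a * (u * a * u⁻¹) * (b * (u * b * u⁻¹))
        calc (a : G) * b * (u * (a * b) * u⁻¹) = a * (b * (u * a * u⁻¹)) * (u * b * u⁻¹) := by group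
          _ = a * ((u * a * u⁻¹) * b) * (u * b * u⁻¹) := by rw [hE.comm _ b.2 _ (hE.normC.conj hu a.2)]
          _ = _ := by group) }
  have hdker : Nat.card d.ker = Nat.card K := Nat.card_congr
    { toFun := fun a => ⟨a.1.1, a.1.2, Subgroup.mem_centralizer_singleton_iff.2 (by
        have h : (a.1 : G) * (u * a.1 * u⁻¹) = 1 := congrArg Subtype.val a.2
        have h' := eq_inv_of_mul_eq_one_right h
        rw [inv_eq_of_mul_eq_one_right (hE.sq _ a.1.2), mul_inv_eq_iff_eq_mul] at h'
        exact h'.symm)⟩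
      invFun := fun z => ⟨⟨z.1, z.2.1⟩, Subtype.ext (by
        show (z.1 : G) * (u * z.1 * u⁻¹) = 1
        rw [← Subgroup.mem_centralizer_singleton_iff.1 z.2.2, mul_inv_cancel_right, hE.sq _ z.2.1])⟩
      left_inv := fun _ => rfl
      right_inv := fun _ => rfl }
  have hRK : Nat.card d.range ≤ Nat.card K := by
    rw [← Subgroup.card_map_of_injective (K := d.range) E.subtype_injective]
    refine Subgroup.card_le_of_le ?_
    rintro _ ⟨_, ⟨a, rfl⟩, rfl⟩
    refine Subgroup.mem_inf.2 ⟨(d a).2, Subgroup.mem_centralizer_singleton_iff.2 ?_⟩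
    show ((a : G) * (u * a * u⁻¹)) * u = u * ((a : G) * (u * a * u⁻¹))
    calc (a : G) * (u * a * u⁻¹) * u = (a : G) * (u * a) := by group
      _ = (u * a * u⁻¹) * (a : G) * u := by
        rw [← hE.comm _ a.2 _ (hE.normC.conj hu a.2)]; group
      _ = u * a * (u * (a : G) * u⁻¹) := by rw [hui]; simp only [mul_assoc]
      _ = _ := by group
  have hprod : Nat.card K * Nat.card d.range = 16 := by
    rw [← hdker, ← Subgroup.index_ker, Subgroup.card_mul_index, hE.card]
  by_contra hlt
  push Not at hlt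
  have h1 := Nat.mul_le_mul_left (Nat.card K) hRK
  interval_cases h : Nat.card K <;> omega

/-- An involution outside commutes with exactly four of the elements. -/
theorem Six.card_four {E : Subgroup G} (hE : L.Six E)
    (h98 : Nat.card {u : G // orderOf u = 2 ∧ Commute u L.t ∧ u ≠ L.t} = 98) {u : G} (hu : u ∈ L.C)
    (hu2 : u * u = 1) (huE : u ∉ E) : Nat.card (E ⊓ Subgroup.centralizer ({u} : Set G) : Subgroup G) = 4 := by
  classical
  by_contra hne
  have h5 : 5 ≤ Nat.card (E ⊓ Subgroup.centralizer ({u} : Set G) : Subgroup G) := by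
    have := hE.four_le hu hu2; omega
  set S := Finset.univ.filter fun w : G => (orderOf w = 2 ∧ Commute w L.t ∧ w ≠ L.t) ∧ w ∉ E with hS
  have hS84 : S.card = 84 := by
    have h1 := Finset.card_filter_add_card_filter_not
      (s := Finset.univ.filter fun w : G => orderOf w = 2 ∧ Commute w L.t ∧ w ≠ L.t) (fun w => w ∈ E)
    rw [Finset.filter_filter, Finset.filter_filter, ← hS, show (Finset.univ.filter fun w : G => orderOf w = 2 ∧ Commute w L.t ∧ w ≠ L.t).card = 98 by
      rw [← Fintype.card_subtype, ← Nat.card_eq_fintype_card, h98]] at h1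
    have h2 : (Finset.univ.filter fun w : G => (orderOf w = 2 ∧ Commute w L.t ∧ w ≠ L.t) ∧ w ∈ E) =
        ((E : Set G).toFinset.erase 1).erase L.t := by
      ext z
      simp only [Finset.mem_filter, Finset.mem_univ, true_and, Finset.mem_erase, Set.mem_toFinset, SetLike.mem_coe]
      constructor
      · rintro ⟨⟨a, -, b⟩, c⟩; exact ⟨b, inv_ne_one a, c⟩
      · rintro ⟨a, b, c⟩
        exact ⟨⟨orderOf_eq_prime (by rw [pow_two]; exact hE.sq z c) b, L.comm_t (hE.normC.le c), a⟩, c⟩
    rw [h2, Finset.card_erase_of_mem (Finset.mem_erase.2 ⟨L.t_ne, Set.mem_toFinset.2 hE.normC.mem⟩),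
      Finset.card_erase_of_mem (Set.mem_toFinset.2 (one_mem E)), Set.toFinset_card, ← Nat.card_eq_fintype_card] at h1
    change Nat.card E - 1 - 1 + S.card = 98 at h1
    rw [hE.card] at h1
    omega
  set π : G → G ⧸ E := fun w => QuotientGroup.mk w with hπ
  -- the fibres
  have hfib : ∀ w ∈ L.C, w * w = 1 → w ∉ E →
      (S.filter fun v => π v = π w).card = Nat.card (E ⊓ Subgroup.centralizer ({w} : Set G) : Subgroup G) := by
    intro u huC huu huE
    have hu2 : orderOf u = 2 := orderOf_eq_prime (by rw [pow_two]; exact huu) fun h => huE (h ▸ one_mem E)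
    have hut : Commute u L.t := L.comm_t huC
    rw [← Nat.card_eq_finsetCard]
    refine Nat.card_congr
      { toFun := fun w => ⟨u⁻¹ * w.1, ?_⟩
        invFun := fun z => ⟨u * z.1, ?_⟩
        left_inv := fun w => Subtype.ext (mul_inv_cancel_left u w.1)
        right_inv := fun z => Subtype.ext (inv_mul_cancel_left u z.1) }
    · obtain ⟨hw, hwq⟩ := Finset.mem_filter.1 w.2
      obtain ⟨⟨hw2, -, -⟩, -⟩ := (Finset.mem_filter.1 hw).2
      have hz : u⁻¹ * w.1 ∈ E := QuotientGroup.eq.1 hwq.symm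
      refine ⟨hz, Subgroup.mem_centralizer_singleton_iff.2 ?_⟩
      have hww : (u * (u⁻¹ * w.1)) * (u * (u⁻¹ * w.1)) = 1 := by
        rw [mul_inv_cancel_left, ← pow_two, ← hw2, pow_orderOf_eq_one]
      generalize u⁻¹ * w.1 = z at hz hww ⊢
      have h1 := eq_inv_of_mul_eq_one_left hww
      rw [mul_inv_rev, inv_eq_of_mul_eq_one_right (hE.sq z hz), inv_eq_of_mul_eq_one_right huu] at h1
      exact h1.symm
    · have hzu : (z.1 : G) * u = u * z.1 := Subgroup.mem_centralizer_singleton_iff.1 z.2.2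
      refine Finset.mem_filter.2 ⟨Finset.mem_filter.2 ⟨Finset.mem_univ _, ⟨?_, ?_, ?_⟩, ?_⟩, ?_⟩
      · refine orderOf_eq_prime ?_ fun h => huE ?_
        · rw [pow_two]
          calc u * z.1 * (u * z.1) = u * (z.1 * u) * z.1 := by group
            _ = u * (u * z.1) * z.1 := by rw [hzu]
            _ = (u * u) * (z.1 * z.1) := by group
            _ = 1 := by rw [huu, hE.sq _ z.2.1, one_mul]
        · rw [eq_inv_of_mul_eq_one_left h]; exact inv_mem z.2.1
      · exact hut.mul_left (L.comm_t (hE.normC.le z.2.1))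
      · intro h; refine huE ?_
        rw [eq_mul_inv_of_mul_eq h]
        exact mul_mem hE.normC.mem (inv_mem z.2.1)
      · intro h; exact huE (by simpa using mul_mem h (inv_mem z.2.1))
      · exact (QuotientGroup.mk_mul_of_mem u z.2.1)
  -- the stabiliser of the coset
  have hm : ∀ g h : G, u⁻¹ * (g * h) * u * (g * h)⁻¹ = (u⁻¹ * g * u * g⁻¹) * (g * (u⁻¹ * h * u * h⁻¹) * g⁻¹) := by
    intro g h; group
  let D : Subgroup G :=
    { carrier := {g | g ∈ L.C ∧ u⁻¹ * g * u * g⁻¹ ∈ E}
      one_mem' := ⟨one_mem _, by simp⟩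
      mul_mem' := fun {g h} hg hh => ⟨mul_mem hg.1 hh.1, by
        rw [hm g h]; exact mul_mem hg.2 (hE.normC.conj hg.1 hh.2)⟩
      inv_mem' := fun {g} hg => ⟨inv_mem hg.1, by
        have := inv_mem (hE.normC.conj (inv_mem hg.1) hg.2)
        rwa [show (g⁻¹ * (u⁻¹ * g * u * g⁻¹) * g⁻¹⁻¹)⁻¹ = u⁻¹ * g⁻¹ * u * g⁻¹⁻¹ by group] at this⟩ }
  have hDC : D ≤ L.C := fun g hg => hg.1
  have hnop : ∀ p : ℕ, p = 3 ∨ p = 7 → ¬ p ∣ Nat.card D := by
    intro p hp hd
    have hpp : p.Prime := by rcases hp with rfl | rfl <;> norm_num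
    haveI := Fact.mk hpp
    obtain ⟨y, hy, hoy⟩ := exists_order hpp hd
    set X : Set G := {w | u⁻¹ * w ∈ E} with hX
    have hXc : Nat.card X = 16 := by
      rw [← hE.card]
      exact Nat.card_congr
        { toFun := fun w => ⟨u⁻¹ * w.1, w.2⟩
          invFun := fun z => ⟨u * z.1, show u⁻¹ * (u * z.1) ∈ E by rw [inv_mul_cancel_left]; exact z.2⟩
          left_inv := fun w => Subtype.ext (mul_inv_cancel_left u w.1)
          right_inv := fun z => Subtype.ext (inv_mul_cancel_left u z.1) }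
    have hmod := card_fixed_mod (p := p) (S := X) (z := y) (by rw [← hoy, pow_orderOf_eq_one]) (fun w hw => by
      show u⁻¹ * (y * w * y⁻¹) ∈ E
      rw [show u⁻¹ * (y * w * y⁻¹) = (u⁻¹ * y * u * y⁻¹) * (y * (u⁻¹ * w) * y⁻¹) by group]
      exact mul_mem hy.2 (hE.normC.conj hy.1 hw))
    obtain ⟨⟨v, hvX, hvy⟩⟩ : Nonempty {s : G | s ∈ X ∧ Commute s y} := by
      refine (Nat.card_pos_iff.1 (Nat.pos_of_ne_zero fun h0 => ?_)).1
      rw [h0, hXc] at hmod
      rcases hp with rfl | rfl <;> norm_num at hmod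
    have hvC : v ∈ L.C := by
      have := mul_mem hu (hE.normC.le hvX)
      rwa [mul_inv_cancel_left] at this
    have hvE : v ∉ E := fun h => huE (by
      have := mul_mem h (inv_mem (show u⁻¹ * v ∈ E from hvX))
      simpa using this)
    have hv4 : v ^ 4 = 1 := by
      have hvv : v * v ∈ E := by
        have h1 := mul_mem (hE.normC.conj hu hvX) (show u⁻¹ * v ∈ E from hvX)
        have h2 : u * (u⁻¹ * v) * u⁻¹ * (u⁻¹ * v) = v * ((u * u)⁻¹ * v) := by group
        rwa [h2, hu2, inv_one, one_mul] at h1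
      calc v ^ 4 = (v * v) * (v * v) := by simp only [pow_succ, pow_zero, one_mul, mul_assoc]
        _ = 1 := hE.sq _ hvv
    rcases hp with rfl | rfl
    · refine hE.not_three hvC hv4 hvE ?_
      have hy' : y ∈ L.C ⊓ Subgroup.centralizer ({v} : Set G) :=
        ⟨hy.1, Subgroup.mem_centralizer_singleton_iff.2 hvy.symm.eq⟩
      exact hoy ▸ Subgroup.orderOf_dvd_natCard _ hy'
    · obtain ⟨g, hg, hgc⟩ := conj_std (L := L) (p := 7) (by norm_num) L.x_mem hy.1 L.hx hoy (v := v) hvy
      have h7' : ¬ 7 ∣ orderOf (g * v * g⁻¹) := fun h => by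
        have := h.trans (orderOf_dvd_of_pow_eq_one (show (g * v * g⁻¹) ^ 4 = 1 by
          rw [conj_pow, hv4, mul_one, mul_inv_cancel]))
        norm_num at this
      rcases conj_eq_or hE hg (L.fix7 hgc h7') with e | e
      exacts [hvE (e ▸ one_mem E), hvE (e ▸ hE.normC.mem)]
  have hD : Nat.card D ≤ 128 := by
    refine Nat.le_of_dvd (by norm_num) ?_
    refine Nat.Coprime.dvd_of_dvd_mul_right ?_ (show Nat.card D ∣ 128 * (3 * 7) from
      (Subgroup.card_dvd_of_le hDC).trans (L.card_C.dvd))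
    exact (((Nat.Prime.coprime_iff_not_dvd Nat.prime_three).2 (hnop 3 (Or.inl rfl))).symm).mul_right
      (((Nat.Prime.coprime_iff_not_dvd (by norm_num : Nat.Prime 7)).2 (hnop 7 (Or.inr rfl))).symm)
  -- the cosets of the conjugates
  set Q := (L.C : Set G).toFinset.image fun g => π (g * u * g⁻¹) with hQ
  have hQ21 : 21 ≤ Q.card := by
    have h1 := Finset.card_le_mul_card_image (f := fun g => π (g * u * g⁻¹)) (L.C : Set G).toFinset (Nat.card D)
      (fun q hq => by
        obtain ⟨g, hg, rfl⟩ := Finset.mem_image.1 hq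
        rw [← Nat.card_eq_finsetCard]
        refine Nat.card_le_card_of_injective (fun h => (⟨g⁻¹ * h.1, ?_⟩ : D)) fun a b hab =>
          Subtype.ext (mul_left_cancel (congrArg Subtype.val hab))
        obtain ⟨hh, hhq⟩ := Finset.mem_filter.1 h.2
        rw [Set.mem_toFinset] at hh hg
        refine ⟨mul_mem (inv_mem hg) hh, ?_⟩
        have h2 := hE.normC.conj (inv_mem hg) (QuotientGroup.eq.1 hhq.symm)
        rwa [show g⁻¹ * ((g * u * g⁻¹)⁻¹ * (h.1 * u * (h.1)⁻¹)) * g⁻¹⁻¹ =
          u⁻¹ * (g⁻¹ * h.1) * u * (g⁻¹ * h.1)⁻¹ by group] at h2)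
    rw [Set.toFinset_card, ← Nat.card_eq_fintype_card, show Nat.card (L.C : Set G) = 2688 from L.card_C, ← hQ] at h1
    nlinarith
  have hQmem : ∀ q ∈ Q, q ∈ S.image π ∧ 4 ≤ (S.filter fun v => π v = q).card := by
    intro q hq
    obtain ⟨g, hg, rfl⟩ := Finset.mem_image.1 hq
    rw [Set.mem_toFinset] at hg
    set w := g * u * g⁻¹
    have hw : w ∈ L.C := mul_mem (mul_mem hg hu) (inv_mem hg)
    have hw2 : w * w = 1 := by
      calc w * w = g * (u * u) * g⁻¹ := by simp only [w]; group
        _ = 1 := by rw [hu2]; group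
    have hwE : w ∉ E := fun h => huE (by
      have := hE.normC.conj (inv_mem hg) h
      simpa [w, mul_assoc] using this)
    have h4 : 4 ≤ (S.filter fun v => π v = π w).card := (hfib w hw hw2 hwE).symm ▸ hE.four_le hw hw2
    obtain ⟨v, hv⟩ := Finset.card_pos.1 (by omega : 0 < (S.filter fun v => π v = π w).card)
    exact ⟨Finset.mem_image.2 ⟨v, (Finset.mem_filter.1 hv).1, (Finset.mem_filter.1 hv).2⟩, h4⟩
  have hqu : π u ∈ Q := Finset.mem_image.2 ⟨1, Set.mem_toFinset.2 (one_mem _), by simp⟩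
  have hsum : ∑ q ∈ Q, (S.filter fun v => π v = q).card ≤ 84 := by
    rw [← hS84, Finset.card_eq_sum_card_image π S]
    exact Finset.sum_le_sum_of_subset fun q hq => (hQmem q hq).1
  rw [← Finset.add_sum_erase _ _ hqu, hfib u hu hu2 huE] at hsum
  have hrest := Finset.card_nsmul_le_sum (Q.erase (π u)) (fun q => (S.filter fun v => π v = q).card) 4
    fun q hq => (hQmem q (Finset.mem_of_mem_erase hq)).2
  rw [Finset.card_erase_of_mem hqu, smul_eq_mul] at hrest
  omega

end Loc

end CfsgSimpleM23
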