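/-
Simple groups of order 10200960: an elementary abelian subgroup of order sixteen whose normaliser has index 253.
-/
import Cfsg.Agent.Lib.SimpleM23.SixCount

set_option autoImplicit false
set_option linter.style.haveILetI false
set_option linter.unusedSectionVars false

namespace CfsgSimpleM23

open Cfsg CfsgSimpleM11
open CfsgSimpleM22 (cc)

universe u
variable {G : Type u} [Group G] [Fintype G]

/-- The subgroup attached to an involution. -/
structure IsE (t : G) (E : Subgroup G) : Prop where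
  mem : t ∈ E
  le : E ≤ Subgroup.centralizer ({t} : Set G)
  norm : Subgroup.centralizer ({t} : Set G) ≤ Subgroup.normalizer (E : Set G)
  card : Nat.card E = 16
  comm : ∀ a ∈ E, ∀ b ∈ E, a * b = b * a
  sq : ∀ a ∈ E, a * a = 1
  cent : Subgroup.centralizer (E : Set G) = E
  mem_iff : ∀ u : G, u ∈ E ↔ u = 1 ∨ u = t ∨ (orderOf u = 2 ∧ Commute u t ∧
    Nat.card (Subgroup.centralizer ({t} : Set G) ⊓ Subgroup.centralizer ({u} : Set G) : Subgroup G) = 192)
  four : ∀ u ∈ Subgroup.centralizer ({t} : Set G), u * u = 1 → u ∉ E →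
    Nat.card (E ⊓ Subgroup.centralizer ({u} : Set G) : Subgroup G) = 4
  no_three : ∀ u ∈ Subgroup.centralizer ({t} : Set G), u ^ 4 = 1 → u ∉ E →
    ¬ 3 ∣ Nat.card (Subgroup.centralizer ({t} : Set G) ⊓ Subgroup.centralizer ({u} : Set G) : Subgroup G)
  trans : ∀ a ∈ E, ∀ b ∈ E, a ≠ 1 → a ≠ t → b ≠ 1 → b ≠ t →
    ∃ g ∈ Subgroup.centralizer ({t} : Set G), g * a * g⁻¹ = b

theorem exists_isE (hG : IsM23 G) (T : Tbl G) {t : G} (ht : orderOf t = 2) : ∃ E, IsE t E := by
  classical
  obtain ⟨L, rfl⟩ := T.exists_loc hG ht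
  obtain ⟨E, hE⟩ := L.exists_six
  have h98 := T.card_inv_commute hG L.ht
  refine ⟨E, ⟨hE.normC.mem, hE.normC.le, hE.normC.norm, hE.card, hE.comm, hE.sq, hE.cent,
    fun u => hE.mem_iff h98, fun u hu hu2 huE => hE.card_four h98 hu hu2 huE,
    fun u hu hu4 huE => hE.not_three hu hu4 huE, ?_⟩⟩
  intro a ha b hb ha1 hat hb1 hbt
  letI : MulAction L.C G := MulAction.compHom G ((MulAut.conj : G →* MulAut G).comp L.C.subtype)
  have hsmul : ∀ (g : L.C) (z : G), g • z = (g : G) * z * (g : G)⁻¹ := fun g z => rfl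
  set O := MulAction.orbit L.C a with hO
  have hoc : Nat.card O * Nat.card (L.C ⊓ Subgroup.centralizer ({a} : Set G) : Subgroup G) = 2688 := by
    rw [← L.card_C, ← Subgroup.card_mul_index (MulAction.stabilizer L.C a), mul_comm]
    congr 1
    · rw [← Nat.card_congr (Subgroup.subgroupOfEquivOfLe
        (inf_le_left : L.C ⊓ Subgroup.centralizer ({a} : Set G) ≤ L.C)).toEquiv]
      refine Nat.card_congr (Equiv.subtypeEquivRight fun g => ?_)
      rw [Subgroup.mem_subgroupOf, Subgroup.mem_inf, MulAction.mem_stabilizer_iff, hsmul, mul_inv_eq_iff_eq_mul]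
      exact ⟨fun h => Subgroup.mem_centralizer_singleton_iff.1 h.2,
        fun h => ⟨g.2, Subgroup.mem_centralizer_singleton_iff.2 h⟩⟩
    · rw [Subgroup.index, Nat.card_congr (MulAction.orbitEquivQuotientStabilizer L.C a)]
  rw [hE.card_inf h98 ha ha1 hat] at hoc
  have hsub : O.toFinset ⊆ ((E : Set G).toFinset.erase 1).erase L.t := by
    intro z hz
    obtain ⟨g, rfl⟩ := Set.mem_toFinset.1 hz
    simp only [hsmul]
    refine Finset.mem_erase.2 ⟨fun h => ?_, Finset.mem_erase.2 ⟨fun h => ?_, Set.mem_toFinset.2 (hE.normC.conj g.2 ha)⟩⟩ <;>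
      rcases Loc.conj_eq_or hE g.2 (by first | exact Or.inl h | exact Or.inr h) with e' | e'
    all_goals first | exact ha1 e' | exact hat e'
  have hb' : b ∈ O.toFinset := by
    have heq := Finset.eq_of_subset_of_card_le hsub (by
      rw [Set.toFinset_card, ← Nat.card_eq_fintype_card, Finset.card_erase_of_mem
        (Finset.mem_erase.2 ⟨L.t_ne, Set.mem_toFinset.2 hE.normC.mem⟩), Finset.card_erase_of_mem
        (Set.mem_toFinset.2 (one_mem E)), Set.toFinset_card, ← Nat.card_eq_fintype_card]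
      change Nat.card E - 1 - 1 ≤ Nat.card O
      rw [hE.card]
      omega)
    rw [heq]
    exact Finset.mem_erase.2 ⟨hbt, Finset.mem_erase.2 ⟨hb1, Set.mem_toFinset.2 hb⟩⟩
  obtain ⟨g, hg⟩ := Set.mem_toFinset.1 hb'
  exact ⟨g, g.2, by rw [← hsmul]; exact hg⟩

theorem IsE.unique {t : G} {E E' : Subgroup G} (h : IsE t E) (h' : IsE t E') : E = E' := by
  ext u; rw [h.mem_iff, h'.mem_iff]

theorem cent_inf_conj (g a b : G) :
    Nat.card (Subgroup.centralizer ({g * a * g⁻¹} : Set G) ⊓ Subgroup.centralizer ({g * b * g⁻¹} : Set G) : Subgroup G) =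
      Nat.card (Subgroup.centralizer ({a} : Set G) ⊓ Subgroup.centralizer ({b} : Set G) : Subgroup G) := by
  rw [← Subgroup.card_map_of_injective (K := Subgroup.centralizer ({a} : Set G) ⊓ Subgroup.centralizer ({b} : Set G))
    (f := (MulAut.conj g).toMonoidHom) (MulAut.conj g).injective]
  congr 2
  ext z
  have key : ∀ a : G, z ∈ Subgroup.centralizer ({g * a * g⁻¹} : Set G) ↔
      g⁻¹ * z * g ∈ Subgroup.centralizer ({a} : Set G) := fun a => by
    simp only [Subgroup.mem_centralizer_singleton_iff]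
    constructor <;> intro h
    · calc g⁻¹ * z * g * a = g⁻¹ * (z * (g * a * g⁻¹)) * g := by group
        _ = g⁻¹ * ((g * a * g⁻¹) * z) * g := by rw [h]
        _ = a * (g⁻¹ * z * g) := by group
    · calc z * (g * a * g⁻¹) = g * ((g⁻¹ * z * g) * a) * g⁻¹ := by group
        _ = g * (a * (g⁻¹ * z * g)) * g⁻¹ := by rw [h]
        _ = _ := by group
  rw [Subgroup.mem_inf, key, key, ← Subgroup.mem_inf]
  constructor
  · intro h; exact ⟨_, h, by show g * (g⁻¹ * z * g) * g⁻¹ = z; group⟩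
  · rintro ⟨w, hw, rfl⟩
    show g⁻¹ * (g * w * g⁻¹) * g ∈ _
    rwa [show g⁻¹ * (g * w * g⁻¹) * g = w by group]

/-- Conjugation carries one subgroup to the other. -/
theorem IsE.conj_mem {t s g : G} {E E' : Subgroup G} (h : IsE t E) (h' : IsE s E') (hg : g * t * g⁻¹ = s) {u : G}
    (hu : u ∈ E) : g * u * g⁻¹ ∈ E' := by
  subst hg
  rcases (h.mem_iff u).1 hu with rfl | rfl | ⟨a, b, c⟩
  · simpa using one_mem E'
  · exact h'.mem
  · refine (h'.mem_iff _).2 (Or.inr (Or.inr ⟨?_, ?_, ?_⟩))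
    · rw [← MulAut.conj_apply, MulEquiv.orderOf_eq, a]
    · show g * u * g⁻¹ * (g * t * g⁻¹) = g * t * g⁻¹ * (g * u * g⁻¹)
      calc g * u * g⁻¹ * (g * t * g⁻¹) = g * (u * t) * g⁻¹ := by group
        _ = g * (t * u) * g⁻¹ := by rw [b.eq]
        _ = _ := by group
    · rw [cent_inf_conj, c]

theorem IsE.conj_eq {t s g : G} {E E' : Subgroup G} (h : IsE t E) (h' : IsE s E') (hg : g * t * g⁻¹ = s) :
    E.map (MulAut.conj g).toMonoidHom = E' := by
  refine Subgroup.eq_of_le_of_card_ge ?_ ?_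
  · rintro _ ⟨u, hu, rfl⟩; exact h.conj_mem h' hg hu
  · rw [Subgroup.card_map_of_injective (f := (MulAut.conj g).toMonoidHom) (MulAut.conj g).injective, h.card, h'.card]

theorem IsE.card_inf {t a : G} {E : Subgroup G} (h : IsE t E) (ha : a ∈ E) (ha1 : a ≠ 1) (hat : a ≠ t) :
    Nat.card (Subgroup.centralizer ({t} : Set G) ⊓ Subgroup.centralizer ({a} : Set G) : Subgroup G) = 192 := by
  rcases (h.mem_iff a).1 ha with e | e | e
  exacts [absurd e ha1, absurd e hat, e.2.2]

theorem IsE.symm {t a : G} {E E' : Subgroup G} (h : IsE t E) (h' : IsE a E') (hT : orderOf t = 2) (ha : a ∈ E)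
    (ha1 : a ≠ 1) (hat : a ≠ t) : t ∈ E' :=
  (h'.mem_iff t).2 (Or.inr (Or.inr ⟨hT, (Subgroup.mem_centralizer_singleton_iff.1 (h.le ha) : Commute a t).symm,
    by rw [inf_comm]; exact h.card_inf ha ha1 hat⟩))

/-- Two different subgroups generate a normal Sylow subgroup of the common centraliser. -/
theorem IsE.join {t a : G} {A B : Subgroup G} (hA : IsE t A) (ht1 : t ≠ 1) (ha : a ∈ A) (ha1 : a ≠ 1) (hat : a ≠ t)
    (hBD : B ≤ Subgroup.centralizer ({t} : Set G) ⊓ Subgroup.centralizer ({a} : Set G))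
    (hBn : Subgroup.centralizer ({t} : Set G) ⊓ Subgroup.centralizer ({a} : Set G) ≤ Subgroup.normalizer (B : Set G))
    (hB : Nat.card B = 16) (htB : t ∈ B) (haB : a ∈ B) (hne : A ≠ B) :
    Nat.card (A ⊔ B : Subgroup G) = 64 ∧ Nat.card (A ⊓ B : Subgroup G) = 4 := by
  classical
  haveI : Fact (Nat.Prime 2) := ⟨Nat.prime_two⟩
  haveI : Fact (Nat.Prime 3) := ⟨Nat.prime_three⟩
  set D := Subgroup.centralizer ({t} : Set G) ⊓ Subgroup.centralizer ({a} : Set G) with hD
  have hAD : A ≤ D := le_inf hA.le fun z hz => Subgroup.mem_centralizer_singleton_iff.2 (hA.comm z hz a ha)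
  have hDA : D ≤ Subgroup.normalizer (A : Set G) := inf_le_left.trans hA.norm
  set S := A ⊔ B with hS
  have hSD : S ≤ D := sup_le hAD hBD
  have hpS : IsPGroup 2 S :=
    (IsPGroup.of_card (n := 4) (by rw [hA.card]; norm_num) : IsPGroup 2 A).to_sup_of_normal_left'
      (IsPGroup.of_card (n := 4) (by rw [hB]; norm_num)) (hBD.trans hDA)
  -- the product formula
  haveI : (A.subgroupOf S).Normal :=
    (Subgroup.normal_subgroupOf_iff_le_normalizer le_sup_left).2 (hSD.trans hDA)
  set ψ : B →* S ⧸ A.subgroupOf S := (QuotientGroup.mk' _).comp (Subgroup.inclusion le_sup_right) with hψ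
  have hsurj : Function.Surjective ψ := by
    intro q
    obtain ⟨⟨s, hs⟩, rfl⟩ := QuotientGroup.mk'_surjective _ q
    have hs' : s ∈ (↑(A ⊔ B) : Set G) := hs
    rw [Subgroup.coe_mul_of_right_le_normalizer_left _ _ (hBD.trans hDA)] at hs'
    obtain ⟨x, hx, y, hy, rfl⟩ := hs'
    refine ⟨⟨y, hy⟩, ?_⟩
    show QuotientGroup.mk' _ (⟨y, _⟩ : S) = QuotientGroup.mk' _ ⟨x * y, hs⟩
    rw [QuotientGroup.mk'_eq_mk']
    refine ⟨⟨y⁻¹ * (x * y), mul_mem (inv_mem (Subgroup.mem_sup_right hy)) hs⟩, ?_, Subtype.ext (mul_inv_cancel_left y (x * y))⟩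
    rw [Subgroup.mem_subgroupOf]
    show y⁻¹ * (x * y) ∈ A
    have := (Subgroup.mem_normalizer_iff.1 (hDA (hBD (inv_mem hy))) x).1 hx
    simpa [mul_assoc] using this
  have hker : Nat.card ψ.ker = Nat.card (A ⊓ B : Subgroup G) := Nat.card_congr
    { toFun := fun z => ⟨z.1.1, Subgroup.mem_subgroupOf.1
        ((QuotientGroup.eq_one_iff (Subgroup.inclusion (le_sup_right : B ≤ S) z.1)).1 z.2), z.1.2⟩
      invFun := fun z => ⟨⟨z.1, z.2.2⟩, (QuotientGroup.eq_one_iff _).2 (Subgroup.mem_subgroupOf.2 z.2.1)⟩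
      left_inv := fun _ => rfl
      right_inv := fun _ => rfl }
  have hform : Nat.card (A ⊓ B : Subgroup G) * Nat.card S = 256 := by
    have h1 := (A.subgroupOf S).card_mul_index
    rw [Nat.card_congr (Subgroup.subgroupOfEquivOfLe (le_sup_left : A ≤ S)).toEquiv, hA.card] at h1
    have h2 := ψ.ker.card_mul_index
    rw [Subgroup.index_ker, MonoidHom.range_eq_top_of_surjective _ hsurj, Subgroup.card_top, hker, hB,
      ← Subgroup.index_eq_card] at h2
    rw [← h1, ← mul_assoc, mul_comm _ 16, mul_assoc, h2]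
    norm_num
  have hI4 : 4 ≤ Nat.card (A ⊓ B : Subgroup G) := by
    have hsub : ({1, t, a, t * a} : Finset G) ⊆ ((A ⊓ B : Subgroup G) : Set G).toFinset := by
      intro z hz
      simp only [Finset.mem_insert, Finset.mem_singleton] at hz
      rw [Set.mem_toFinset]
      rcases hz with rfl | rfl | rfl | rfl
      exacts [one_mem _, ⟨hA.mem, htB⟩, ⟨ha, haB⟩, mul_mem ⟨hA.mem, htB⟩ ⟨ha, haB⟩]
    have h4 : ({1, t, a, t * a} : Finset G).card = 4 := by
      rw [Finset.card_insert_of_notMem, Finset.card_insert_of_notMem, Finset.card_pair]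
      · exact fun e => ht1 (mul_eq_right.1 e.symm)
      · simp only [Finset.mem_insert, Finset.mem_singleton, not_or]
        exact ⟨hat.symm, fun e => ha1 (mul_eq_left.1 e.symm)⟩
      · simp only [Finset.mem_insert, Finset.mem_singleton, not_or]
        refine ⟨ht1.symm, ha1.symm, fun e => hat ?_⟩
        rw [← inv_eq_of_mul_eq_one_right e.symm]
        exact inv_eq_of_mul_eq_one_right (hA.sq t hA.mem)
    have := Finset.card_le_card hsub
    rw [h4, Set.toFinset_card, ← Nat.card_eq_fintype_card] at this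
    exact this
  obtain ⟨n, hn⟩ := IsPGroup.iff_card.1 hpS
  have h16 : 16 < Nat.card S := by
    rw [← hA.card]
    refine lt_of_le_of_ne (Subgroup.card_le_of_le le_sup_left) fun e => hne ?_
    have hAS : A = S := Subgroup.eq_of_le_of_card_ge le_sup_left e.ge
    exact (Subgroup.eq_of_le_of_card_ge (hAS ▸ le_sup_right) (by rw [hA.card, hB])).symm
  have hn56 : n = 5 ∨ n = 6 := by
    have h64 : 2 ^ n ≤ 64 := by rw [← hn]; nlinarith
    have : n ≤ 6 := (Nat.pow_le_pow_iff_right (by norm_num : 1 < 2)).1 (h64.trans (by norm_num))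
    have : 4 < n := (Nat.pow_lt_pow_iff_right (by norm_num : 1 < 2)).1 (by rw [← hn]; exact lt_of_le_of_lt (by norm_num) h16)
    omega
  rcases hn56 with rfl | rfl
  swap
  · refine ⟨by rw [hn]; norm_num, ?_⟩
    rw [hn] at hform; omega
  exfalso
  have hcard : Nat.card D = 192 := hA.card_inf ha ha1 hat
  obtain ⟨y, hy, hoy⟩ := exists_order Nat.prime_three (show 3 ∣ Nat.card D by rw [hcard]; norm_num)
  set X : Set G := {z | z ∈ S ∧ z ∉ A} with hX
  have hXc : Nat.card X = 16 := by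
    have h1 := Finset.card_sdiff_add_card_eq_card (show (A : Set G).toFinset ⊆ (S : Set G).toFinset from
      fun z hz => Set.mem_toFinset.2 ((le_sup_left : A ≤ S) (Set.mem_toFinset.1 hz)))
    rw [Set.toFinset_card, Set.toFinset_card, ← Nat.card_eq_fintype_card, ← Nat.card_eq_fintype_card] at h1
    change _ + Nat.card A = Nat.card S at h1
    rw [hA.card, hn] at h1
    rw [Nat.card_eq_card_toFinset, show X.toFinset = (S : Set G).toFinset \ (A : Set G).toFinset by
      ext z; simp [hX]]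
    omega
  have hSn : ∀ z ∈ S, y * z * y⁻¹ ∈ S := by
    intro z hz
    have hz' : z ∈ (↑(A ⊔ B) : Set G) := hz
    rw [Subgroup.coe_mul_of_right_le_normalizer_left _ _ (hBD.trans hDA)] at hz'
    obtain ⟨p, hp, q, hq, rfl⟩ := hz'
    rw [show y * (p * q) * y⁻¹ = (y * p * y⁻¹) * (y * q * y⁻¹) by group]
    exact mul_mem (Subgroup.mem_sup_left ((Subgroup.mem_normalizer_iff.1 (hDA hy) p).1 hp))
      (Subgroup.mem_sup_right ((Subgroup.mem_normalizer_iff.1 (hBn hy) q).1 hq))
  have hmod := card_fixed_mod (p := 3) (S := X) (z := y) (by rw [← hoy, pow_orderOf_eq_one]) (fun z hz =>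
    ⟨hSn z hz.1, fun h => hz.2 ((Subgroup.mem_normalizer_iff.1 (hDA hy) z).2 h)⟩)
  obtain ⟨⟨v, ⟨hvS, hvA⟩, hvy⟩⟩ : Nonempty {s : G | s ∈ X ∧ Commute s y} := by
    refine (Nat.card_pos_iff.1 (Nat.pos_of_ne_zero fun h0 => ?_)).1
    rw [h0, hXc] at hmod; norm_num at hmod
  have hv4 : v ^ 4 = 1 := by
    have hsq : v * v ∈ A := by
      have := Subgroup.mul_self_mem_of_index_two (H := A.subgroupOf S) (by
        have h := (A.subgroupOf S).card_mul_index
        rw [Nat.card_congr (Subgroup.subgroupOfEquivOfLe (le_sup_left : A ≤ S)).toEquiv, hA.card, hn] at h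
        omega) ⟨v, hvS⟩
      exact this
    calc v ^ 4 = (v * v) * (v * v) := by simp only [pow_succ, pow_zero, one_mul, mul_assoc]
      _ = 1 := hA.sq _ hsq
  refine hA.no_three v (hSD hvS).1 hv4 hvA ?_
  have hy' : y ∈ Subgroup.centralizer ({t} : Set G) ⊓ Subgroup.centralizer ({v} : Set G) :=
    ⟨hy.1, Subgroup.mem_centralizer_singleton_iff.2 hvy.symm.eq⟩
  exact hoy ▸ Subgroup.orderOf_dvd_natCard _ hy'

/-- The subgroup of an involution is that of each of its involutions. -/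
theorem IsE.eq_of_mem (hG : IsM23 G) (T : Tbl G) {t a : G} (ht : orderOf t = 2) {A B : Subgroup G} (hA : IsE t A)
    (hB : IsE a B) (ha : a ∈ A) (ha1 : a ≠ 1) : A = B := by
  classical
  by_cases hat : a = t
  · subst hat; exact hA.unique hB
  by_contra hne
  have htt : t * t = 1 := hA.sq t hA.mem
  have ho : orderOf a = 2 := orderOf_eq_prime (by rw [pow_two]; exact hA.sq a ha) ha1
  have htB := hA.symm hB ht ha ha1 hat
  have hta : t * a ∈ A := mul_mem hA.mem ha
  have hta' : t * a ∈ B := mul_mem htB hB.mem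
  have hta1 : t * a ≠ 1 := fun e => hat (by
    rw [← inv_eq_of_mul_eq_one_right e]; exact inv_eq_of_mul_eq_one_right htt)
  have htat : t * a ≠ t := fun e => ha1 (mul_eq_left.1 e)
  have ht1 : t ≠ 1 := inv_ne_one ht
  have htaa : t * a ≠ a := fun e => ht1 (mul_eq_right.1 e)
  have hoc : orderOf (t * a) = 2 := orderOf_eq_prime (by rw [pow_two]; exact hA.sq _ hta) hta1
  obtain ⟨C, hC⟩ := exists_isE hG T hoc
  -- the three subgroups differ
  obtain ⟨g, hg, hga⟩ := hA.trans a ha (t * a) hta ha1 hat hta1 htat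
  have hgA : A.map (MulAut.conj g).toMonoidHom = A :=
    hA.conj_eq hA (mul_inv_eq_iff_eq_mul.2 (Subgroup.mem_centralizer_singleton_iff.1 hg))
  have hAC : A ≠ C := fun e => hne (Subgroup.map_injective (f := (MulAut.conj g).toMonoidHom)
    (MulAut.conj g).injective (by rw [hgA, hB.conj_eq hC hga, e]))
  obtain ⟨k, hk, hka⟩ := hB.trans t htB (t * a) hta' ht1 (Ne.symm hat) hta1 htaa
  have hkB : B.map (MulAut.conj k).toMonoidHom = B :=
    hB.conj_eq hB (mul_inv_eq_iff_eq_mul.2 (Subgroup.mem_centralizer_singleton_iff.1 hk))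
  have hBC : B ≠ C := fun e => hne (Subgroup.map_injective (f := (MulAut.conj k).toMonoidHom)
    (MulAut.conj k).injective (by rw [hkB, hA.conj_eq hC hka, e]))
  set D := Subgroup.centralizer ({t} : Set G) ⊓ Subgroup.centralizer ({a} : Set G) with hD
  have htC : t ∈ C := hA.symm hC ht hta hta1 htat
  have haC : a ∈ C := hB.symm hC ho hta' hta1 htaa
  have hBD : B ≤ D := le_inf (fun z hz => Subgroup.mem_centralizer_singleton_iff.2 (hB.comm z hz t htB)) hB.le
  have hAD : A ≤ D := le_inf hA.le fun z hz => Subgroup.mem_centralizer_singleton_iff.2 (hA.comm z hz a ha)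
  have hCD : C ≤ D := le_inf (fun z hz => Subgroup.mem_centralizer_singleton_iff.2 (hC.comm z hz t htC))
    (fun z hz => Subgroup.mem_centralizer_singleton_iff.2 (hC.comm z hz a haC))
  have hDC : D ≤ Subgroup.normalizer (C : Set G) := fun z hz => hC.norm (by
    refine Subgroup.mem_centralizer_singleton_iff.2 ?_
    exact (show Commute z t from Subgroup.mem_centralizer_singleton_iff.1 hz.1).mul_right
      (Subgroup.mem_centralizer_singleton_iff.1 hz.2))
  obtain ⟨hS, hAB⟩ := hA.join ht1 ha ha1 hat hBD (inf_le_right.trans hB.norm) hB.card htB hB.mem hne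
  obtain ⟨hS', hAC4⟩ := hA.join ht1 ha ha1 hat hCD hDC hC.card htC haC hAC
  have hBC4 : Nat.card (B ⊓ C : Subgroup G) = 4 := by
    have hCD' : C ≤ Subgroup.centralizer ({a} : Set G) ⊓ Subgroup.centralizer ({t} : Set G) := by
      rw [inf_comm]; exact hCD
    exact (hB.join ha1 htB ht1 (Ne.symm hat) hCD' (by rw [inf_comm]; exact hDC) hC.card haC htC hBC).2
  -- both joins are the normal Sylow subgroup
  haveI : Fact (Nat.Prime 2) := ⟨Nat.prime_two⟩
  set S := A ⊔ B with hSd
  have hDA : D ≤ Subgroup.normalizer (A : Set G) := inf_le_left.trans hA.norm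
  have hCS : C ≤ S := by
    have hSn : C ≤ Subgroup.normalizer (S : Set G) := fun z hz => mem_normalizer_of_maps fun w hw => by
      have hw' : w ∈ (↑(A ⊔ B) : Set G) := hw
      rw [Subgroup.coe_mul_of_right_le_normalizer_left _ _ (hBD.trans hDA)] at hw'
      obtain ⟨p, hp, q, hq, rfl⟩ := hw'
      rw [show z * (p * q) * z⁻¹ = (z * p * z⁻¹) * (z * q * z⁻¹) by group]
      exact mul_mem (Subgroup.mem_sup_left ((Subgroup.mem_normalizer_iff.1 (hDA (hCD hz)) p).1 hp))
        (Subgroup.mem_sup_right ((Subgroup.mem_normalizer_iff.1 (hB.norm (hCD hz).2) q).1 hq))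
    have hp : IsPGroup 2 (S ⊔ C : Subgroup G) :=
      (IsPGroup.of_card (n := 6) (by rw [hS]; norm_num) : IsPGroup 2 S).to_sup_of_normal_left'
        (IsPGroup.of_card (n := 4) (by rw [hC.card]; norm_num)) hSn
    obtain ⟨n, hn⟩ := IsPGroup.iff_card.1 hp
    have hd := Subgroup.card_dvd_of_le (sup_le (sup_le hAD hBD) hCD : S ⊔ C ≤ D)
    rw [hn, hA.card_inf ha ha1 hat] at hd
    have hn6 : n ≤ 6 := by
      by_contra h7
      have : 2 ^ 7 ∣ 192 := (pow_dvd_pow 2 (Nat.lt_of_not_le h7)).trans hd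
      norm_num at this
    rw [Subgroup.eq_of_le_of_card_ge (le_sup_left : S ≤ S ⊔ C) (by
      rw [hn, hS]; exact (Nat.pow_le_pow_right (by norm_num : 0 < 2) hn6).trans (by norm_num))]
    exact le_sup_right
  obtain ⟨c, hc, hcA⟩ := Loc.exists_outside (N := A ⊓ C) (M := C) (by rw [hAC4, hC.card]; norm_num)
  have hc' : c ∈ (↑(A ⊔ B) : Set G) := hCS hc
  rw [Subgroup.coe_mul_of_right_le_normalizer_left _ _ (hBD.trans hDA)] at hc'
  obtain ⟨p, hp, q, hq, rfl⟩ := hc'
  by_cases hqA : q ∈ A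
  · exact hcA ⟨mul_mem hp hqA, hc⟩
  have hI := hA.four q (hBD hq).1 (hB.sq q hq) hqA
  have hIeq : A ⊓ B = A ⊓ Subgroup.centralizer ({q} : Set G) :=
    Subgroup.eq_of_le_of_card_ge (le_inf inf_le_left fun z hz =>
      Subgroup.mem_centralizer_singleton_iff.2 (hB.comm z hz.2 q hq)) (by rw [hAB, hI])
  have hpq : p * q = q * p := by
    have h := eq_inv_of_mul_eq_one_left (hC.sq _ hc)
    rw [mul_inv_rev, inv_eq_of_mul_eq_one_right (hA.sq p hp), inv_eq_of_mul_eq_one_right (hB.sq q hq)] at h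
    exact h
  have hpB : p ∈ B := (hIeq.symm ▸ (⟨hp, Subgroup.mem_centralizer_singleton_iff.2 hpq⟩ :
    p ∈ A ⊓ Subgroup.centralizer ({q} : Set G)) : p ∈ A ⊓ B).2
  -- so the element lies in two of the subgroups
  have hBCA : B ⊓ C = A ⊓ C := by
    have hI0 : ∀ X Y : Subgroup G, Nat.card (X ⊓ Y : Subgroup G) = 4 → t ∈ X ⊓ Y → a ∈ X ⊓ Y →
        ((X ⊓ Y : Subgroup G) : Set G).toFinset = {1, t, a, t * a} := by
      intro X Y h4 htm ham
      refine (Finset.eq_of_subset_of_card_le ?_ ?_).symm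
      · intro z hz
        simp only [Finset.mem_insert, Finset.mem_singleton] at hz
        rw [Set.mem_toFinset]
        rcases hz with rfl | rfl | rfl | rfl
        exacts [one_mem _, htm, ham, mul_mem htm ham]
      · rw [Set.toFinset_card, ← Nat.card_eq_fintype_card]
        change Nat.card (X ⊓ Y : Subgroup G) ≤ _
        rw [h4, Finset.card_insert_of_notMem, Finset.card_insert_of_notMem, Finset.card_pair]
        · exact fun e => htaa e.symm
        · simp only [Finset.mem_insert, Finset.mem_singleton, not_or]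
          exact ⟨Ne.symm hat, fun e => htat e.symm⟩
        · simp only [Finset.mem_insert, Finset.mem_singleton, not_or]
          exact ⟨ht1.symm, ha1.symm, fun e => hta1 e.symm⟩
    refine SetLike.coe_injective (Set.toFinset_inj.1 ?_)
    rw [hI0 B C hBC4 ⟨htB, htC⟩ ⟨hB.mem, haC⟩, hI0 A C hAC4 ⟨hA.mem, htC⟩ ⟨ha, haC⟩]
  exact hcA (hBCA ▸ (⟨mul_mem hpB hq, hc⟩ : p * q ∈ B ⊓ C))

/-- The subgroup of order sixteen with its normaliser. -/
structure Sixteen (G : Type u) [Group G] [Fintype G] where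
  E : Subgroup G
  card : Nat.card E = 16
  comm : ∀ a ∈ E, ∀ b ∈ E, a * b = b * a
  sq : ∀ a ∈ E, a * a = 1
  cent : Subgroup.centralizer (E : Set G) = E
  cent_le : ∀ a ∈ E, a ≠ 1 → Subgroup.centralizer ({a} : Set G) ≤ Subgroup.normalizer (E : Set G)
  trans : ∀ a ∈ E, ∀ b ∈ E, a ≠ 1 → b ≠ 1 → ∃ g ∈ Subgroup.normalizer (E : Set G), g * a * g⁻¹ = b
  ti : ∀ g : G, ∀ a ∈ E, a ≠ 1 → g * a * g⁻¹ ∈ E → g ∈ Subgroup.normalizer (E : Set G)
  card_norm : Nat.card (Subgroup.normalizer (E : Set G)) = 40320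

theorem exists_sixteen_norm (hG : IsM23 G) (T : Tbl G) : Nonempty (Sixteen G) := by
  classical
  obtain ⟨t, ht⟩ := exists_involution hG
  obtain ⟨E, hE⟩ := exists_isE hG T ht
  have hord : ∀ a ∈ E, a ≠ 1 → orderOf a = 2 := fun a ha ha1 =>
    orderOf_eq_prime (by rw [pow_two]; exact hE.sq a ha) ha1
  have hEa : ∀ a ∈ E, a ≠ 1 → IsE a E := fun a ha ha1 => by
    obtain ⟨B, hB⟩ := exists_isE hG T (hord a ha ha1)
    rwa [hE.eq_of_mem hG T ht hB ha ha1]
  have hti : ∀ g : G, ∀ a ∈ E, a ≠ 1 → g * a * g⁻¹ ∈ E → g ∈ Subgroup.normalizer (E : Set G) := by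
    intro g a ha ha1 hga
    have hga1 : g * a * g⁻¹ ≠ 1 := fun e => ha1 (by
      calc a = g⁻¹ * (g * a * g⁻¹) * g := by group
        _ = 1 := by rw [e]; group)
    exact Subgroup.mem_normalizer_iff_map_conj_eq.2 ((hEa a ha ha1).conj_eq (hEa _ hga hga1) rfl)
  have htr : ∀ a ∈ E, ∀ b ∈ E, a ≠ 1 → b ≠ 1 → ∃ g ∈ Subgroup.normalizer (E : Set G), g * a * g⁻¹ = b := by
    intro a ha b hb ha1 hb1
    obtain ⟨g, hg⟩ := isConj_iff.1 (isConj_involution hG T (hord a ha ha1) (hord b hb hb1))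
    exact ⟨g, hti g a ha ha1 (hg ▸ hb), hg⟩
  refine ⟨⟨E, hE.card, hE.comm, hE.sq, hE.cent, fun a ha ha1 => (hEa a ha ha1).norm, htr, hti, ?_⟩⟩
  set N := Subgroup.normalizer (E : Set G) with hN
  letI : MulAction N G := MulAction.compHom G ((MulAut.conj : G →* MulAut G).comp N.subtype)
  have hsmul : ∀ (g : N) (z : G), g • z = (g : G) * z * (g : G)⁻¹ := fun g z => rfl
  have ht1 : t ≠ 1 := inv_ne_one ht
  have horb : MulAction.orbit N t = {z | z ∈ E ∧ z ≠ 1} := by
    ext z
    constructor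
    · rintro ⟨g, rfl⟩
      simp only [Set.mem_setOf_eq, hsmul]
      exact ⟨(Subgroup.mem_normalizer_iff.1 g.2 t).1 hE.mem, fun e => ht1 (by
        calc t = (g : G)⁻¹ * ((g : G) * t * (g : G)⁻¹) * g := by group
          _ = 1 := by rw [e]; group)⟩
    · rintro ⟨hz, hz1⟩
      obtain ⟨g, hg, hgz⟩ := htr t hE.mem z hz ht1 hz1
      exact ⟨⟨g, hg⟩, hgz⟩
  rw [← Subgroup.card_mul_index (MulAction.stabilizer N t), Subgroup.index,
    ← Nat.card_congr (MulAction.orbitEquivQuotientStabilizer N t), horb]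
  have h15 : Nat.card {z : G | z ∈ E ∧ z ≠ 1} = 15 := by
    rw [Nat.card_eq_card_toFinset, show {z : G | z ∈ E ∧ z ≠ 1}.toFinset = (E : Set G).toFinset.erase 1 by
      ext z; simp [and_comm], Finset.card_erase_of_mem (Set.mem_toFinset.2 (one_mem E)), Set.toFinset_card,
      ← Nat.card_eq_fintype_card]
    change Nat.card E - 1 = 15
    rw [hE.card]
  rw [h15, show Nat.card (MulAction.stabilizer N t) = cc t from ?_, T.cc_inv t ht]
  rw [← show Nat.card ((Subgroup.centralizer ({t} : Set G)).subgroupOf N) = cc t from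
    Nat.card_congr (Subgroup.subgroupOfEquivOfLe hE.norm).toEquiv]
  refine Nat.card_congr (Equiv.subtypeEquivRight fun g => ?_)
  rw [MulAction.mem_stabilizer_iff, hsmul, mul_inv_eq_iff_eq_mul, Subgroup.mem_subgroupOf,
    Subgroup.mem_centralizer_singleton_iff]

end CfsgSimpleM23
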