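/-
Simple groups of order 10200960: the normaliser of the subgroup of order sixteen, modulo it, is simple of order 2520.
-/
import Cfsg.Agent.Lib.SimpleM23.Sixteen
import Cfsg.Agent.Lib.SmallSimple.Order2520

set_option autoImplicit false
set_option linter.style.haveILetI false
set_option linter.unusedSectionVars false

namespace CfsgSimpleM23

open Cfsg CfsgSimpleM11
open CfsgSimpleM22 (cc)

universe u
variable {G : Type u} [Group G] [Fintype G]

namespace Loc

variable (L : Loc G)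

/-- No subgroup of order 128 is normal in the centraliser. -/
theorem no_128 {E K : Subgroup G} (hE : L.Six E) (hK : L.NormC K) (hc : Nat.card K = 128) : False := by
  obtain ⟨v, hv, hv1, hvt, hvc⟩ := hE.fixed
  haveI : Fact (Nat.Prime 2) := ⟨Nat.prime_two⟩
  have hp2 : IsPGroup 2 (K ⊔ E : Subgroup G) :=
    (IsPGroup.of_card (n := 7) (by rw [hc]; norm_num) : IsPGroup 2 K).to_sup_of_normal_left'
      (IsPGroup.of_card (n := 4) (by rw [hE.card]; norm_num)) (hE.normC.le.trans hK.norm)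
  obtain ⟨n, hn⟩ := IsPGroup.iff_card.1 hp2
  have hd : Nat.card (K ⊔ E : Subgroup G) ∣ 2688 :=
    (Subgroup.card_dvd_of_le (sup_le hK.le hE.normC.le)).trans L.card_C.dvd
  rw [hn] at hd
  have hn7 : n ≤ 7 := by
    by_contra h8
    have h256 : 2 ^ 8 ∣ 2688 := (pow_dvd_pow 2 (Nat.lt_of_not_le h8)).trans hd
    norm_num at h256
  have heq := Subgroup.eq_of_le_of_card_ge (le_sup_left : K ≤ K ⊔ E) (by
    rw [hn, hc]; exact Nat.pow_le_pow_right (by norm_num : 0 < 2) hn7)
  exact false_of_128 hK hc (heq ▸ Subgroup.mem_sup_right hv) hv1 hvt hvc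

/-- The normal subgroup of order sixteen is unique. -/
theorem sixteen_unique {E F : Subgroup G} (hF : L.NormC F) (hc : Nat.card F = 16) (hE : L.Six E) : F = E := by
  by_contra hne
  haveI : Fact (Nat.Prime 2) := ⟨Nat.prime_two⟩
  have hp2 : IsPGroup 2 (F ⊔ E : Subgroup G) :=
    (IsPGroup.of_card (n := 4) (by rw [hc]; norm_num) : IsPGroup 2 F).to_sup_of_normal_left'
      (IsPGroup.of_card (n := 4) (by rw [hE.card]; norm_num)) (hE.normC.le.trans hF.norm)
  have hsup : L.NormC (F ⊔ E) := ⟨Subgroup.mem_sup_left hF.mem, sup_le hF.le hE.normC.le,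
    fun g hg => mem_normalizer_of_maps fun w hw => by
      have hw' : w ∈ (↑(F ⊔ E) : Set G) := hw
      rw [Subgroup.coe_mul_of_right_le_normalizer_left _ _ (hE.normC.le.trans hF.norm)] at hw'
      obtain ⟨p, hp, q, hq, rfl⟩ := hw'
      rw [show g * (p * q) * g⁻¹ = (g * p * g⁻¹) * (g * q * g⁻¹) by group]
      exact mul_mem (Subgroup.mem_sup_left (hF.conj hg hp)) (Subgroup.mem_sup_right (hE.normC.conj hg hq))⟩
  obtain ⟨n, hn⟩ := IsPGroup.iff_card.1 hp2
  have hgt : 16 < Nat.card (F ⊔ E : Subgroup G) := by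
    rw [← hc]
    refine lt_of_le_of_ne (Subgroup.card_le_of_le le_sup_left) fun e => hne ?_
    have h' : F = F ⊔ E := Subgroup.eq_of_le_of_card_ge le_sup_left e.ge
    exact (Subgroup.eq_of_le_of_card_ge (h' ▸ le_sup_right) (by rw [hc, hE.card])).symm
  rcases hsup.cases with e | e | e | e | ⟨e, -⟩
  · omega
  · omega
  · exact L.no_128 hE hsup e
  all_goals
    rw [hn] at e
    have hodd : 7 ∣ 2 ^ n := by rw [e]; norm_num
    have := (Nat.prime_dvd_prime_iff_eq (by norm_num) Nat.prime_two).1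
      ((by norm_num : Nat.Prime 7).dvd_of_dvd_pow hodd)
    norm_num at this

end Loc

namespace Sixteen

variable (S : Sixteen G)

/-- The normaliser. -/
abbrev N : Subgroup G := Subgroup.normalizer (S.E : Set G)

theorem E_le : S.E ≤ S.N := Subgroup.le_normalizer

/-- The subgroup inside its normaliser. -/
abbrev E' : Subgroup S.N := S.E.subgroupOf S.N

instance : S.E'.Normal := Subgroup.normal_in_normalizer

/-- The quotient. -/
abbrev Q : Type u := S.N ⧸ S.E'

theorem card_Q : Nat.card S.Q = 2520 := by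
  have h := Subgroup.card_eq_card_quotient_mul_card_subgroup S.E'
  rw [Nat.card_congr (Subgroup.subgroupOfEquivOfLe S.E_le).toEquiv, S.card, S.card_norm] at h
  change 40320 = Nat.card S.Q * 16 at h
  omega

theorem exists_ne (t : G) : ∃ a ∈ S.E, a ≠ 1 ∧ a ≠ t := by
  classical
  obtain ⟨a, ha, hn⟩ : ∃ a ∈ S.E, a ∉ ({1, t} : Finset G) := by
    by_contra hc
    push Not at hc
    have := Finset.card_le_card (show (S.E : Set G).toFinset ⊆ {1, t} from fun z hz => hc z (Set.mem_toFinset.1 hz))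
    rw [Set.toFinset_card, ← Nat.card_eq_fintype_card] at this
    change Nat.card S.E ≤ _ at this
    have h2 : ({1, t} : Finset G).card ≤ 2 := Finset.card_le_two
    rw [S.card] at this
    omega
  simp only [Finset.mem_insert, Finset.mem_singleton, not_or] at hn
  exact ⟨a, ha, hn.1, hn.2⟩

theorem orderOf_mem {a : G} (ha : a ∈ S.E) (ha1 : a ≠ 1) : orderOf a = 2 :=
  orderOf_eq_prime (by rw [pow_two]; exact S.sq a ha) ha1

/-- The simplicity of the quotient. -/
theorem simple_Q (hG : IsM23 G) (T : Tbl G) : IsSimpleGroup S.Q := by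
  classical
  haveI : Nontrivial S.Q := Finite.one_lt_card_iff_nontrivial.1 (by rw [S.card_Q]; norm_num)
  refine ⟨fun R hR => ?_⟩
  set π := QuotientGroup.mk' S.E' with hπ
  set M : Subgroup G := (R.comap π).map S.N.subtype with hM
  have hMN : M ≤ S.N := Subgroup.map_subtype_le _
  have hmem : ∀ z (hz : z ∈ S.N), z ∈ M ↔ π ⟨z, hz⟩ ∈ R := fun z hz =>
    ⟨by rintro ⟨w, hw, rfl⟩; exact hw, fun h => ⟨⟨z, hz⟩, h, rfl⟩⟩
  have hEM : S.E ≤ M := fun z hz => (hmem z (S.E_le hz)).2 (by
    rw [show π ⟨z, S.E_le hz⟩ = 1 from (QuotientGroup.eq_one_iff _).2 hz]; exact one_mem R)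
  have hMn : S.N ≤ Subgroup.normalizer (M : Set G) := fun g hg => mem_normalizer_of_maps fun z hz => by
    refine (hmem _ (mul_mem (mul_mem hg (hMN hz)) (inv_mem hg))).2 ?_
    have := hR.conj_mem _ ((hmem z (hMN hz)).1 hz) (π ⟨g, hg⟩)
    rw [← map_inv, ← map_mul, ← map_mul] at this
    exact this
  have hcardM : Nat.card M = 16 * Nat.card R := by
    rw [hM, Subgroup.card_map_of_injective S.N.subtype_injective]
    have h1 := Subgroup.card_mul_index (R.comap π)
    rw [Subgroup.index_comap_of_surjective (f := π) _ (QuotientGroup.mk'_surjective _), S.card_norm] at h1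
    have h2 := R.card_mul_index
    rw [S.card_Q] at h2
    refine Nat.eq_of_mul_eq_mul_right (Nat.pos_of_ne_zero R.index_ne_zero_of_finite) ?_
    rw [h1, mul_assoc, h2]
    norm_num
  obtain ⟨t, ht, ht1, -⟩ := S.exists_ne 1
  have hot := S.orderOf_mem ht ht1
  obtain ⟨L, hL⟩ := T.exists_loc hG hot
  have htC : L.C ≤ S.N := by rw [Loc.C, hL]; exact S.cent_le t ht ht1
  obtain ⟨E₀, hE₀⟩ := L.exists_six
  have hEC : S.E ≤ L.C := fun z hz => Subgroup.mem_centralizer_singleton_iff.2 (by rw [hL]; exact S.comm z hz t ht)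
  have hK : L.NormC (M ⊓ L.C) := ⟨⟨hEM (by rw [hL]; exact ht), L.t_mem⟩, inf_le_right,
    fun g hg => mem_normalizer_of_maps fun z hz =>
      Subgroup.mem_inf.2 ⟨(Subgroup.mem_normalizer_iff.1 (hMn (htC hg)) z).1 hz.1,
        L.C.mul_mem (L.C.mul_mem hg (Subgroup.mem_inf.1 hz).2) (L.C.inv_mem hg)⟩⟩
  have hSn : L.NormC S.E := ⟨by rw [hL]; exact ht, hEC, htC⟩
  have hK16 : 16 ≤ Nat.card (M ⊓ L.C : Subgroup G) := by
    rw [← S.card]; exact Subgroup.card_le_of_le (le_inf hEM hEC)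
  -- the orbit of the involution
  letI : MulAction M G := MulAction.compHom G ((MulAut.conj : G →* MulAut G).comp M.subtype)
  have hsmul : ∀ (g : M) (z : G), g • z = (g : G) * z * (g : G)⁻¹ := fun g z => rfl
  set O := MulAction.orbit M t with hO
  have hstab : Nat.card (MulAction.stabilizer M t) = Nat.card (M ⊓ L.C : Subgroup G) := by
    rw [← Nat.card_congr (Subgroup.subgroupOfEquivOfLe (inf_le_left : M ⊓ L.C ≤ M)).toEquiv]
    refine Nat.card_congr (Equiv.subtypeEquivRight fun g => ?_)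
    rw [MulAction.mem_stabilizer_iff, hsmul, mul_inv_eq_iff_eq_mul, Subgroup.mem_subgroupOf]
    exact ⟨fun h => ⟨g.2, Subgroup.mem_centralizer_singleton_iff.2 (by rw [hL]; exact h)⟩,
      fun h => by have := Subgroup.mem_centralizer_singleton_iff.1 h.2; rwa [hL] at this⟩
  have horb : Nat.card (M ⊓ L.C : Subgroup G) * Nat.card O = Nat.card M := by
    rw [← hstab, hO, Nat.card_congr (MulAction.orbitEquivQuotientStabilizer M t)]
    exact (MulAction.stabilizer M t).card_mul_index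
  have hOE : ∀ z ∈ O, z ∈ S.E ∧ z ≠ 1 := by
    rintro _ ⟨g, rfl⟩
    simp only [hsmul]
    refine ⟨(Subgroup.mem_normalizer_iff.1 (hMN g.2) t).1 ht, fun h => ht1 ?_⟩
    rwa [mul_inv_eq_iff_eq_mul, one_mul, mul_eq_left] at h
  have hOall : ∀ b ∈ S.E, b ≠ 1 → (b ≠ t → ∃ a ∈ O, a ≠ t ∧ (∃ g ∈ L.C, g * a * g⁻¹ = b)) → b ∈ O := by
    intro b hb hb1 h
    by_cases hbt : b = t
    · rw [hbt]; exact MulAction.mem_orbit_self t
    obtain ⟨_, ⟨m, rfl⟩, -, g, hg, hgb⟩ := h hbt
    simp only [hsmul] at hgb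
    have hgm : g * m * g⁻¹ ∈ M := (Subgroup.mem_normalizer_iff.1 (hMn (htC hg)) _).1 m.2
    refine ⟨⟨_, hgm⟩, ?_⟩
    show (⟨_, hgm⟩ : M) • t = b
    rw [hsmul, ← hgb]
    have hgt : g * t = t * g := by rw [← hL]; exact (L.comm_t hg).eq
    show g * (m : G) * g⁻¹ * t * (g * (m : G) * g⁻¹)⁻¹ = g * ((m : G) * t * (m : G)⁻¹) * g⁻¹
    calc g * (m : G) * g⁻¹ * t * (g * (m : G) * g⁻¹)⁻¹ = g * (m : G) * (g⁻¹ * (t * g)) * (m : G)⁻¹ * g⁻¹ := by group
      _ = g * (m : G) * (g⁻¹ * (g * t)) * (m : G)⁻¹ * g⁻¹ := by rw [hgt]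
      _ = _ := by group
  have hfull : (∃ a ∈ O, a ≠ t) → Nat.card O = 15 := by
    rintro ⟨a, ha, hat⟩
    obtain ⟨E', hE'⟩ := exists_isE hG T hot
    have hEE : S.E = E' := by
      have h98 : Nat.card {u : G // orderOf u = 2 ∧ Commute u L.t ∧ u ≠ L.t} = 98 := by
        rw [hL]; exact T.card_inv_commute hG hot
      have hE0' : E₀ = E' := by
        ext w
        rw [hE₀.mem_iff h98, hE'.mem_iff, Loc.C, hL]
      rw [← hE0']
      exact L.sixteen_unique hSn S.card hE₀
    have hsub : (S.E : Set G).toFinset.erase 1 ⊆ O.toFinset := by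
      intro b hb
      obtain ⟨hb1, hb⟩ := Finset.mem_erase.1 hb
      rw [Set.mem_toFinset] at hb ⊢
      refine hOall b hb hb1 fun hbt => ?_
      obtain ⟨g, hg, hgb⟩ := hE'.trans a (hEE ▸ (hOE a ha).1) b (hEE ▸ hb) (hOE a ha).2 hat hb1 hbt
      exact ⟨a, ha, hat, g, by rw [Loc.C, hL]; exact hg, hgb⟩
    have heq : O.toFinset = (S.E : Set G).toFinset.erase 1 := Finset.Subset.antisymm
      (fun z hz => Finset.mem_erase.2 ⟨(hOE z (Set.mem_toFinset.1 hz)).2, Set.mem_toFinset.2 (hOE z (Set.mem_toFinset.1 hz)).1⟩) hsub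
    rw [Nat.card_eq_card_toFinset, heq, Finset.card_erase_of_mem (Set.mem_toFinset.2 (one_mem _)), Set.toFinset_card,
      ← Nat.card_eq_fintype_card]
    change Nat.card S.E - 1 = 15
    rw [S.card]
  by_cases hmove : ∃ a ∈ O, a ≠ t
  swap
  · -- fixed: the orbit is trivial
    left
    push Not at hmove
    have hO1 : Nat.card O = 1 := by
      rw [Nat.card_eq_one_iff_unique]
      exact ⟨⟨fun a b => Subtype.ext ((hmove _ a.2).trans (hmove _ b.2).symm)⟩, ⟨⟨t, MulAction.mem_orbit_self t⟩⟩⟩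
    rw [hO1, mul_one] at horb
    have hMC : M ≤ L.C := inf_eq_left.1 (Subgroup.eq_of_le_of_card_ge inf_le_left (by rw [horb]))
    rcases hK.cases with e | e | e | e | ⟨e, K, hK', e'⟩
    · omega
    · rw [horb, hcardM] at e
      exact Subgroup.eq_bot_of_card_eq _ (by omega)
    · exact (L.no_128 hE₀ hK e).elim
    · -- then `M` is the centraliser, normalised by the whole normaliser
      exfalso
      obtain ⟨a, ha, ha1, hat⟩ := S.exists_ne t
      obtain ⟨g, hg, hga⟩ := S.trans t ht a ha ht1 ha1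
      have hMeq : M = L.C := Subgroup.eq_of_le_of_card_ge hMC (by rw [← horb, e, L.card_C])
      obtain ⟨Ea, hEa⟩ := exists_isE hG T (S.orderOf_mem ha ha1)
      have hfix : ∀ m ∈ M, Commute m a := fun m hm => by
        have hm' : g⁻¹ * m * g ∈ L.C := by
          rw [← hMeq]
          simpa using (Subgroup.mem_normalizer_iff.1 (hMn (inv_mem hg)) m).1 hm
        have h := L.comm_t hm'
        rw [hL] at h
        show m * a = a * m
        rw [← hga]
        calc m * (g * t * g⁻¹) = g * ((g⁻¹ * m * g) * t) * g⁻¹ := by group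
          _ = g * (t * (g⁻¹ * m * g)) * g⁻¹ := by rw [h.eq]
          _ = g * t * g⁻¹ * m := by group
      have hx : Commute a L.x := (hfix _ (hMeq ▸ L.x_mem)).symm
      rcases L.fix7 hx (by rw [S.orderOf_mem ha ha1]; norm_num) with e1 | e1
      · exact ha1 e1
      · exact hat (e1.trans hL)
    · exact (L.no_128 hE₀ hK' e').elim
  -- transitive
  have hO15 := hfull hmove
  rw [hO15, hcardM] at horb
  rcases hK.cases with e | e | e | e | ⟨e, K, hK', e'⟩
  · omega
  · -- order fifteen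
    exfalso
    rw [e] at horb
    have hR15 : Nat.card R = 15 := by omega
    haveI : Fact (Nat.Prime 5) := ⟨by norm_num⟩
    obtain ⟨P⟩ := (inferInstance : Nonempty (Sylow 5 R))
    have hP : Nat.card P = 5 := by
      rw [Sylow.card_eq_multiplicity P, hR15, show (15 : ℕ) = 5 * 3 by norm_num,
        Nat.factorization_mul (by norm_num) (by norm_num), Finsupp.add_apply, Nat.Prime.factorization_self (by norm_num),
        Nat.factorization_eq_zero_of_not_dvd (by norm_num : ¬ 5 ∣ 3), add_zero, pow_one]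
    have hn5 : Nat.card (Sylow 5 R) = 1 := by
      have h1 := card_sylow_modEq_one 5 R
      have h2 : Nat.card (Sylow 5 R) ∣ 3 := by
        have h3 := Sylow.card_dvd_index P
        have h4 := (P : Subgroup R).card_mul_index
        rw [hR15, show Nat.card (P : Subgroup R) = 5 from hP] at h4
        rwa [show (P : Subgroup R).index = 3 by omega] at h3
      rcases (Nat.dvd_prime Nat.prime_three).1 h2 with h | h
      · exact h
      · rw [h] at h1; exact absurd h1 (by decide)
    have hset : ∀ r : R, r ^ 5 = 1 → r ∈ (P : Subgroup R) := fun r hr => by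
      have hp : IsPGroup 5 (Subgroup.zpowers r) := by
        rcases (Nat.dvd_prime (by norm_num : Nat.Prime 5)).1 (orderOf_dvd_of_pow_eq_one hr) with h | h
        · exact IsPGroup.of_card (n := 0) (by rw [Nat.card_zpowers, h, pow_zero])
        · exact IsPGroup.of_card (n := 1) (by rw [Nat.card_zpowers, h, pow_one])
      obtain ⟨P', hP'⟩ := hp.exists_le_sylow
      haveI : Subsingleton (Sylow 5 R) := (Nat.card_eq_one_iff_unique.1 hn5).1
      exact Subsingleton.elim P' P ▸ hP' (Subgroup.mem_zpowers r)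
    set X : Set S.Q := {q | q ∈ R ∧ q ^ 5 = 1} with hX
    have hXc : Nat.card X = 5 := by
      rw [← hP]
      exact Nat.card_congr
        { toFun := fun q => ⟨⟨q.1, q.2.1⟩, hset _ (Subtype.ext q.2.2)⟩
          invFun := fun r => ⟨r.1.1, r.1.2, congrArg Subtype.val (show r.1 ^ 5 = 1 from by
            have h := congrArg Subtype.val (orderOf_dvd_iff_pow_eq_one.1 ((orderOf_dvd_natCard r).trans hP.dvd))
            exact h)⟩
          left_inv := fun _ => rfl
          right_inv := fun _ => rfl }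
    haveI : Fact (Nat.Prime 7) := ⟨by norm_num⟩
    have hxN : L.x ∈ S.N := htC L.x_mem
    set x' := π ⟨L.x, hxN⟩ with hx'
    have hmod := card_fixed_mod (p := 7) (S := X) (z := x') (by
      rw [hx', ← map_pow, show (⟨L.x, hxN⟩ : S.N) ^ 7 = 1 from Subtype.ext (by
        show L.x ^ 7 = 1
        rw [← L.hx, pow_orderOf_eq_one]), map_one]) (fun q hq => ⟨hR.conj_mem q hq.1 x', by
        rw [conj_pow, hq.2, mul_one, mul_inv_cancel]⟩)
    rw [hXc] at hmod
    obtain ⟨⟨⟨q, ⟨hqR, hq5⟩, hqx⟩, hq1⟩⟩ : Nonempty {q : {s : S.Q | s ∈ X ∧ Commute s x'} // q.1 ≠ 1} := by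
      by_contra hne
      rw [not_nonempty_iff] at hne
      have : Nat.card {s : S.Q | s ∈ X ∧ Commute s x'} ≤ 1 := by
        rw [Finite.card_le_one_iff_subsingleton]
        refine ⟨fun a b => Subtype.ext ?_⟩
        have ha : a.1 = 1 := by_contra fun h => hne.false ⟨a, h⟩
        have hb : b.1 = 1 := by_contra fun h => hne.false ⟨b, h⟩
        rw [ha, hb]
      omega
    obtain ⟨⟨y, hy⟩, rfl⟩ := QuotientGroup.mk'_surjective _ q
    set Y : Set G := {w | y⁻¹ * w ∈ S.E} with hY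
    have hYc : Nat.card Y = 16 := by
      rw [← S.card]
      exact Nat.card_congr
        { toFun := fun w => ⟨y⁻¹ * w.1, w.2⟩
          invFun := fun z => ⟨y * z.1, show y⁻¹ * (y * z.1) ∈ S.E by rw [inv_mul_cancel_left]; exact z.2⟩
          left_inv := fun w => Subtype.ext (mul_inv_cancel_left y w.1)
          right_inv := fun z => Subtype.ext (inv_mul_cancel_left y z.1) }
    have hxy : y⁻¹ * L.x * y * L.x⁻¹ ∈ S.E := by
      have h : π (⟨y, hy⟩⁻¹ * ⟨L.x, hxN⟩ * ⟨y, hy⟩ * ⟨L.x, hxN⟩⁻¹) = 1 := by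
        simp only [map_mul, map_inv]
        rw [← hx', mul_assoc _ x' (π ⟨y, hy⟩), ← hqx.eq, ← mul_assoc, inv_mul_cancel, one_mul, mul_inv_cancel]
      exact Subgroup.mem_subgroupOf.1
        ((QuotientGroup.eq_one_iff ((⟨y, hy⟩ : S.N)⁻¹ * (⟨L.x, hxN⟩ : S.N) * (⟨y, hy⟩ : S.N) * (⟨L.x, hxN⟩ : S.N)⁻¹)).1 h)
    have hmod' := card_fixed_mod (p := 7) (S := Y) (z := L.x) (by rw [← L.hx, pow_orderOf_eq_one]) (fun w hw => by
      show y⁻¹ * (L.x * w * L.x⁻¹) ∈ S.E
      rw [show y⁻¹ * (L.x * w * L.x⁻¹) = (y⁻¹ * L.x * y * L.x⁻¹) * (L.x * (y⁻¹ * w) * L.x⁻¹) by group]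
      exact mul_mem hxy ((Subgroup.mem_normalizer_iff.1 hxN _).1 hw))
    obtain ⟨⟨w, hwY, hwx⟩⟩ : Nonempty {s : G | s ∈ Y ∧ Commute s L.x} := by
      refine (Nat.card_pos_iff.1 (Nat.pos_of_ne_zero fun h0 => ?_)).1
      rw [h0, hYc] at hmod'; norm_num at hmod'
    have hw14 : w ^ 14 = 1 := orderOf_dvd_iff_pow_eq_one.1
      (L.card_cent ▸ Subgroup.orderOf_dvd_natCard _ (Subgroup.mem_centralizer_singleton_iff.2 hwx.eq))
    have hwN : w ∈ S.N := by
      have := mul_mem hy (S.E_le hwY)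
      rwa [mul_inv_cancel_left] at this
    have hwq : π ⟨w, hwN⟩ = π ⟨y, hy⟩ := by
      have h : π (⟨y, hy⟩⁻¹ * ⟨w, hwN⟩) = 1 := (QuotientGroup.eq_one_iff _).2 hwY
      rw [map_mul, map_inv, inv_mul_eq_one] at h
      exact h.symm
    have h14 : (π ⟨y, hy⟩) ^ 14 = 1 := by
      rw [← hwq, ← map_pow, show (⟨w, hwN⟩ : S.N) ^ 14 = 1 from Subtype.ext hw14, map_one]
    have hgcd := pow_gcd_eq_one.2 ⟨hq5, h14⟩
    rw [show Nat.gcd 5 14 = 1 from rfl, pow_one] at hgcd
    exact hq1 hgcd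
  · exact (L.no_128 hE₀ hK e).elim
  · right
    rw [e] at horb
    exact Subgroup.eq_top_of_card_eq _ (by rw [S.card_Q]; omega)
  · exfalso
    rw [e] at horb
    have hR : Nat.card R ∣ 2520 := S.card_Q ▸ Subgroup.card_subgroup_dvd_card R
    exact L.no_128 hE₀ hK' e'

end Sixteen

end CfsgSimpleM23
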