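/-
Simple groups of order 10200960: the permutation character on the 253 cosets.
-/
import Cfsg.Agent.Lib.SimpleM23.Quot
import Cfsg.Agent.Lib.SimpleM22.RankThree

set_option autoImplicit false
set_option linter.style.haveILetI false
set_option linter.unusedSectionVars false

namespace CfsgSimpleM23

open Cfsg CfsgLib.CharTheory CfsgSimpleM11
open scoped ComplexConjugate

universe u
variable {G : Type u} [Group G] [Fintype G]

/-- Fixed points on cosets. -/
theorem card_conj_mem (H : Subgroup G) (y : G) :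
    Nat.card {h : G // h⁻¹ * y * h ∈ H} = Nat.card {Q : G ⧸ H // y • Q = Q} * Nat.card H := by
  have hiff : ∀ h : G, h⁻¹ * y * h ∈ H ↔ y • (QuotientGroup.mk h : G ⧸ H) = QuotientGroup.mk h := fun h => by
    show _ ↔ QuotientGroup.mk (y * h) = (QuotientGroup.mk h : G ⧸ H)
    rw [eq_comm, QuotientGroup.eq, mul_assoc]
  rw [← Nat.card_prod]
  refine Nat.card_congr
    { toFun := fun h => (⟨QuotientGroup.mk h.1, (hiff h.1).1 h.2⟩,
        ⟨(QuotientGroup.mk h.1 : G ⧸ H).out⁻¹ * h.1, QuotientGroup.eq.1 (QuotientGroup.out_eq' _)⟩)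
      invFun := fun p => ⟨p.1.1.out * (p.2 : G), (hiff _).2 (by
        rw [QuotientGroup.mk_mul_of_mem _ p.2.2, QuotientGroup.out_eq']; exact p.1.2)⟩
      left_inv := fun h => Subtype.ext (mul_inv_cancel_left _ _)
      right_inv := fun p => ?_ }
  have hs : (QuotientGroup.mk (p.1.1.out * (p.2 : G)) : G ⧸ H) = p.1.1 := by
    rw [QuotientGroup.mk_mul_of_mem _ p.2.2, QuotientGroup.out_eq']
  refine Prod.ext (Subtype.ext hs) (Subtype.ext ?_)
  show (QuotientGroup.mk (p.1.1.out * (p.2 : G)) : G ⧸ H).out⁻¹ * (p.1.1.out * (p.2 : G)) = (p.2 : G)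
  rw [hs, inv_mul_cancel_left]

theorem Tbl.perm253 (T : Tbl G) (hG : IsM23 G) {H : Subgroup G} (hcard : Nat.card H = 40320) :
    Nat.card (MulAction.orbitRel.Quotient H (G ⧸ H)) = 3 ∧
      (∀ t : G, orderOf t = 2 → Nat.card {Q : G ⧸ H // t • Q = Q} = 29) ∧
        ∀ [Fintype H], ∑ y : H, (T.χ 1 : G → ℂ) y = 40320 := by
  classical
  haveI := Fintype.ofFinite H
  choose n hn using exists_fix_mult H
  have hH0 : (Nat.card H : ℂ) ≠ 0 := Nat.cast_ne_zero.2 Nat.card_pos.ne'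
  have htriv : n (triv G) = 1 := by
    have h := hn (triv G)
    simp only [triv_apply] at h
    rw [Finset.sum_const, Finset.card_univ, ← Nat.card_eq_fintype_card, nsmul_eq_mul] at h
    exact_mod_cast (mul_left_cancel₀ hH0 h).symm
  have hone : ∑ χ : IrrCharacter G, (n χ : ℂ) * (dg χ : ℂ) = 253 := by
    have h := mult_column H n hn 1
    rw [Nat.card_congr (Equiv.subtypeUnivEquiv (p := fun h : G => h⁻¹ * 1 * h ∈ H) (fun h : G => by
      rw [mul_one, inv_mul_cancel]; exact one_mem H)), card_eq hG, hcard] at h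
    simp only [irr_degree, map_natCast] at h
    push_cast at h
    linear_combination h / 40320
  have hone' : ∑ χ : IrrCharacter G, n χ * dg χ = 253 := by exact_mod_cast hone
  rw [← Equiv.sum_comp (Equiv.ofBijective T.χ T.bij)] at hone'
  simp only [Equiv.ofBijective_apply, T.deg, sum17, D17, Matrix.cons_val] at hone'
  rw [T.first, htriv] at hone'
  have hv : n (T.χ 1) = 1 ∧ n (T.χ 4) = 1 ∧ n (T.χ 2) = 0 ∧ n (T.χ 3) = 0 ∧ n (T.χ 5) = 0 ∧ n (T.χ 6) = 0 ∧
      n (T.χ 7) = 0 ∧ n (T.χ 8) = 0 ∧ n (T.χ 9) = 0 ∧ n (T.χ 10) = 0 ∧ n (T.χ 11) = 0 ∧ n (T.χ 12) = 0 ∧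
      n (T.χ 13) = 0 ∧ n (T.χ 14) = 0 ∧ n (T.χ 15) = 0 ∧ n (T.χ 16) = 0 := by
    generalize n (T.χ 1) = a, n (T.χ 2) = b, n (T.χ 3) = b', n (T.χ 4) = c, n (T.χ 5) = d, n (T.χ 6) = d',
      n (T.χ 7) = d'', n (T.χ 8) = z8, n (T.χ 9) = z9, n (T.χ 10) = z10, n (T.χ 11) = z11, n (T.χ 12) = z12,
      n (T.χ 13) = z13, n (T.χ 14) = z14, n (T.χ 15) = z15, n (T.χ 16) = z16 at hone' ⊢
    obtain ⟨rfl, rfl, rfl, rfl, rfl, rfl, rfl, rfl, rfl⟩ : z8 = 0 ∧ z9 = 0 ∧ z10 = 0 ∧ z11 = 0 ∧ z12 = 0 ∧ z13 = 0 ∧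
        z14 = 0 ∧ z15 = 0 ∧ z16 = 0 := by omega
    obtain ⟨ha, hb, hc, hd⟩ : a ≤ 11 ∧ b + b' ≤ 5 ∧ c ≤ 1 ∧ d + d' + d'' ≤ 1 := by omega
    obtain ⟨B, hB⟩ : ∃ B, b + b' = B := ⟨_, rfl⟩
    obtain ⟨D, hD⟩ : ∃ D, d + d' + d'' = D := ⟨_, rfl⟩
    have key : 22 * a + 45 * B + 230 * c + 231 * D = 252 := by omega
    rw [hB] at hb
    rw [hD] at hd
    interval_cases B <;> interval_cases D <;> interval_cases c <;> omega
  obtain ⟨h1, h4, h2, h3, h5, h6, h7, h8, h9, h10, h11, h12, h13, h14, h15, h16⟩ := hv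
  refine ⟨?_, fun t ht => ?_, ?_⟩
  · rw [CfsgSimpleM22.card_orbits_cosets H n hn, ← Equiv.sum_comp (Equiv.ofBijective T.χ T.bij)]
    simp only [Equiv.ofBijective_apply, sum17, T.first, htriv, h1, h2, h3, h4, h5, h6, h7, h8, h9, h10, h11, h12, h13,
      h14, h15, h16]
    norm_num
  · have h := mult_column H n hn t
    rw [card_conj_mem H t, ← Equiv.sum_comp (Equiv.ofBijective T.χ T.bij)] at h
    simp only [Equiv.ofBijective_apply, T.invRow t ht, map_intCast, sum17] at h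
    rw [T.first, htriv] at h
    simp only [h1, h2, h3, h4, h5, h6, h7, h8, h9, h10, h11, h12, h13, h14, h15, h16, tvals, Matrix.cons_val] at h
    push_cast at h
    have h' : ((Nat.card {Q : G ⧸ H // t • Q = Q} : ℕ) : ℂ) = ((29 : ℕ) : ℂ) := by
      rw [hcard] at h
      push_cast at h ⊢
      linear_combination -h / 40320
    exact_mod_cast h'
  · intro inst
    refine ((congrArg (fun i : Fintype H => @Finset.sum H ℂ _ (@Finset.univ H i) fun y => (T.χ 1 : G → ℂ) y)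
      (Subsingleton.elim inst _)).trans (hn (T.χ 1))).trans ?_
    rw [h1, hcard]
    norm_num

end CfsgSimpleM23
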