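/-
Simple groups of order 2520: a character of degree seven with one trivial constituent.
-/
import Cfsg.Agent.Lib.SimpleM22.SelfCentral
import Cfsg.Agent.Lib.SimpleM23.Perm253
import Cfsg.Agent.Lib.SmallSimple.Order2520

set_option autoImplicit false
set_option linter.style.haveILetI false
set_option linter.unusedSectionVars false

namespace CfsgSimpleM23

open Cfsg CfsgLib.CharTheory CfsgSimpleM11
open CfsgSimpleM22 (BL exists_BL sgn sgE)
open CfsgLib.SmallSylow (inIdx)

universe u
variable {X : Type u} [Group X] [Fintype X] [IsSimpleGroup X]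

theorem triv_of_dg_one (h : Nat.card X = 2520) {χ : IrrCharacter X} (h1 : dg χ = 1) : χ = triv X := by
  obtain ⟨f, hf⟩ := exists_hom_of_degree_one (isCharacter_of_irr χ.2)
    (by rw [irr_degree]; show (dg χ : ℂ) = 1; rw [h1, Nat.cast_one])
  refine Subtype.ext (funext fun g => ?_)
  have hf1 : f = 1 := by
    rcases (MonoidHom.normal_ker f).eq_bot_or_eq_top with hk | hk
    · exfalso
      obtain ⟨x, y, hxy⟩ := CfsgLib.Order2520.nc h
      exact hxy ((MonoidHom.ker_eq_bot_iff f).1 hk (by rw [map_mul, map_mul, mul_comm]))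
    · exact MonoidHom.ker_eq_top_iff.mp hk
  rw [hf, hf1, triv_apply]
  simp

theorem two_not_int {v : ℂ} (hv : IsIntegral ℤ v) : v + v ≠ 1 := fun h => by
  have hq : v = (((1 / 2 : ℚ)) : ℂ) := by push_cast; linear_combination h / 2
  obtain ⟨z, hz⟩ := exists_int_of_isIntegral_ratCast (hq ▸ hv)
  have h2 : (1 : ℚ) = 2 * z := by rw [← hz]; norm_num
  have h3 : (1 : ℤ) = 2 * z := by exact_mod_cast h2
  omega

theorem perm_deg (H : Subgroup X) [Fintype H] (n : IrrCharacter X → ℕ)
    (hn : ∀ χ : IrrCharacter X, ∑ y : H, (χ : X → ℂ) y = (Nat.card H : ℂ) * n χ) {m : ℕ} (hidx : H.index = m) :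
    ∑ χ, n χ * dg χ = m := by
  have h := mult_column H n hn 1
  rw [Nat.card_congr (Equiv.subtypeUnivEquiv (p := fun h : X => h⁻¹ * 1 * h ∈ H) (fun h : X => by
    rw [mul_one, inv_mul_cancel]; exact one_mem H)), ← H.card_mul_index, hidx] at h
  simp only [irr_degree, map_natCast, Nat.cast_mul] at h
  exact_mod_cast mul_left_cancel₀ (Nat.cast_ne_zero.2 Nat.card_pos.ne') h

theorem perm_val (h : Nat.card X = 2520) (H : Subgroup X) [Fintype H] (n : IrrCharacter X → ℕ)
    (hn : ∀ χ : IrrCharacter X, ∑ y : H, (χ : X → ℂ) y = (Nat.card H : ℂ) * n χ) (hidx : H.index = 7) {y : X}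
    (hy : orderOf y = 5) : ∑ χ : IrrCharacter X, (n χ : ℂ) * (χ : X → ℂ) y = 2 := by
  classical
  haveI : Fact (Nat.Prime 5) := ⟨by norm_num⟩
  haveI : Fintype (X ⧸ H) := Fintype.ofFinite _
  have h1 := mult_column H n hn y
  rw [card_conj_mem H y, Nat.cast_mul, mul_comm (_ : ℂ) (Nat.card H : ℂ)] at h1
  have h2 := mul_left_cancel₀ (Nat.cast_ne_zero.2 Nat.card_pos.ne') h1
  have hcard : Nat.card {Q : X ⧸ H // y • Q = Q} = 2 := by
    have hf : (MulAction.toPermHom X (X ⧸ H) y) ^ 5 ^ 1 = 1 := by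
      rw [← map_pow, pow_one, ← hy, pow_orderOf_eq_one, map_one]
    let f : Function.End (X ⧸ H) := fun Q => y • Q
    have hit : ∀ (k : ℕ) (Q : X ⧸ H), (f ^ k) Q = y ^ k • Q := by
      intro k
      induction k with
      | zero => intro Q; show Q = _; rw [pow_zero, one_smul]
      | succ k ih =>
        intro Q
        rw [pow_succ, pow_succ, mul_smul]
        show (f ^ k) (y • Q) = _
        rw [ih]
    have hmod := Equiv.Perm.card_fixedPoints_modEq (f := f) (p := 5) (n := 1) (by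
      funext Q
      rw [hit, pow_one, ← hy, pow_orderOf_eq_one, one_smul]
      rfl)
    rw [show Fintype.card (X ⧸ H) = 7 by rw [← Nat.card_eq_fintype_card]; exact hidx] at hmod
    have hle : Nat.card {Q : X ⧸ H // y • Q = Q} ≤ 7 :=
      le_trans (Nat.card_le_card_of_injective _ Subtype.val_injective) hidx.le
    have hne : Nat.card {Q : X ⧸ H // y • Q = Q} ≠ 7 := fun e => by
      have hall : ∀ Q : X ⧸ H, y • Q = Q := fun Q => by
        obtain ⟨⟨Q', hQ'⟩, rfl⟩ := ((Nat.bijective_iff_injective_and_card Subtype.val).2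
          ⟨Subtype.val_injective, e.trans hidx.symm⟩).2 Q
        exact hQ'
      have hc : y ∈ H.normalCore := by
        intro g
        have := hall (QuotientGroup.mk g⁻¹)
        have h3 : g⁻¹⁻¹ * (y * g⁻¹) ∈ H := QuotientGroup.eq.1 this.symm
        rwa [inv_inv, ← mul_assoc] at h3
      rcases (Subgroup.normalCore_normal H).eq_bot_or_eq_top with hb | ht
      · rw [hb, Subgroup.mem_bot] at hc
        rw [hc, orderOf_one] at hy
        norm_num at hy
      · have : H = ⊤ := top_le_iff.1 (ht ▸ Subgroup.normalCore_le H)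
        rw [this, Subgroup.index_top] at hidx
        norm_num at hidx
    rw [Nat.card_eq_fintype_card] at hle hne ⊢
    rw [show Fintype.card {Q : X ⧸ H // y • Q = Q} = Fintype.card (Function.fixedPoints f) from
      Fintype.card_congr (Equiv.refl _)] at hle hne ⊢
    unfold Nat.ModEq at hmod
    omega
  rw [hcard] at h2
  have h3 := congrArg (starRingEnd ℂ) h2
  simpa [map_sum, map_mul, map_ofNat] using h3

/-- The character of degree six, and the decomposition. -/
theorem deg7_unique (h : Nat.card X = 2520) : ∃ ψ : IrrCharacter X, dg ψ = 6 ∧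
    ∀ (n : IrrCharacter X → ℕ) (y : X), orderOf y = 5 → n (triv X) = 1 → ∑ χ, n χ * dg χ = 7 →
      ∑ χ : IrrCharacter X, (n χ : ℂ) * (χ : X → ℂ) y = 2 → n ψ = 1 ∧ ∀ χ, χ ≠ triv X → χ ≠ ψ → n χ = 0 := by
  classical
  haveI : Fact (Nat.Prime 7) := ⟨by norm_num⟩
  haveI : Fact (Nat.Prime 5) := ⟨by norm_num⟩
  obtain ⟨P, hP, hC, hN⟩ := CfsgLib.Order2520.prime_data h (q := 7) (by norm_num) (by norm_num) (by norm_num)
    (CfsgLib.Order2520.seven_check h) rfl
  have hCP : Subgroup.centralizer ((P : Subgroup X) : Set X) = (P : Subgroup X) := by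
    haveI : IsCyclic (P : Subgroup X) := isCyclic_of_prime_card (p := 7) hP
    letI : CommGroup (P : Subgroup X) := IsCyclic.commGroup
    refine (Subgroup.eq_of_le_of_card_ge (fun a ha => Subgroup.mem_centralizer_iff.2 fun b hb =>
      congrArg Subtype.val (mul_comm (⟨b, hb⟩ : (P : Subgroup X)) ⟨a, ha⟩)) ?_).symm
    rw [hC]; exact hP.ge
  have he : inIdx P = 3 := by
    have h1 := Subgroup.card_mul_index
      ((Subgroup.centralizer ((P : Subgroup X) : Set X)).subgroupOf (Subgroup.normalizer ((P : Subgroup X) : Set X)))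
    rw [Nat.card_congr (Subgroup.subgroupOfEquivOfLe (Subgroup.centralizer_le_normalizer _)).toEquiv, hC, hN] at h1
    have h2 : 7 * inIdx P = 7 * 3 := h1
    omega
  obtain ⟨B⟩ := exists_BL (by norm_num) P hP (by rw [he]; norm_num)
  have hblock : ∀ χ : IrrCharacter X, χ ≠ triv X → dg χ ≤ 6 →
      (χ ∈ B.xs ∧ dg χ = 6) ∨ (χ ∈ B.ys ∧ (B.f = 3 ∨ B.f = 4) ∧ dg χ = B.f) := by
    intro χ hne hle
    have hpos := CfsgLib.Blocks.irr_charDegree_pos χ
    change 0 < dg χ at hpos
    have hm := B.mem_of_not_dvd hCP (χ := χ) (fun hd => by have := Nat.le_of_dvd hpos hd; omega)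
    rcases List.mem_append.1 ((List.mem_cons.1 hm).resolve_left hne) with hx | hy
    · refine Or.inl ⟨hx, ?_⟩
      have h1 := B.modX χ hx
      have h2 : dg χ ≠ 1 := fun e => hne (triv_of_dg_one h e)
      omega
    · refine Or.inr ⟨hy, ?_, B.degY χ hy⟩
      have h1 := B.modf
      have h2 := B.degY χ hy
      rw [he] at h1
      omega
  have huniq : ∀ a b : IrrCharacter X, a ∈ B.xs → b ∈ B.xs → dg a = 6 → dg b = 6 → a = b := by
    intro a b ha hb ha6 hb6
    by_contra hab
    obtain ⟨u, v, huv⟩ : ∃ u v, B.xs = [u, v] := List.length_eq_two.1 (by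
      have := B.len_xs; rw [he] at this; omega)
    have hu6 : dg u = 6 ∧ dg v = 6 := by
      rw [huv] at ha hb
      simp only [List.mem_cons, List.not_mem_nil, or_false] at ha hb
      rcases ha with rfl | rfl <;> rcases hb with rfl | rfl <;> first | exact absurd rfl hab | exact ⟨ha6, hb6⟩ | exact ⟨hb6, ha6⟩
    obtain ⟨η, hη⟩ := B.exists_eta
    have hrel := B.rel η hη 1 (by rw [orderOf_one]; norm_num)
    rw [huv, he] at hrel
    simp only [List.map_cons, List.map_nil, List.sum_cons, List.sum_nil, irr_degree] at hrel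
    have hf : dg η = B.f := B.degY η hη
    change 1 + ((sgn 7 (dg u) : ℂ) * (dg u : ℂ) + ((sgn 7 (dg v) : ℂ) * (dg v : ℂ) + 0)) +
      (sgE 7 3 B.f : ℂ) * (dg η : ℂ) = 0 at hrel
    rw [hu6.1, hu6.2, hf, show sgn 7 6 = -1 by decide] at hrel
    have hrel' : (1 : ℤ) + ((-1) * 6 + ((-1) * 6 + 0)) + sgE 7 3 B.f * (B.f : ℤ) = 0 := by
      exact_mod_cast hrel
    have hf11 : B.f = 11 := by
      unfold sgE at hrel'
      split_ifs at hrel' <;> omega
    have hd := dg_dvd η
    rw [hf, hf11, h] at hd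
    norm_num at hd
  have key : ∀ (n : IrrCharacter X → ℕ) (y : X), orderOf y = 5 → n (triv X) = 1 → ∑ χ, n χ * dg χ = 7 →
      ∑ χ : IrrCharacter X, (n χ : ℂ) * (χ : X → ℂ) y = 2 →
        ∃ ψ ∈ B.xs, dg ψ = 6 ∧ n ψ = 1 ∧ ∀ χ, χ ≠ triv X → χ ≠ ψ → n χ = 0 := by
    intro n y hy ht hdeg hval
    have hrest : ∑ χ ∈ Finset.univ.erase (triv X), n χ * dg χ = 6 := by
      rw [← Finset.add_sum_erase _ _ (Finset.mem_univ (triv X)), ht, dg_triv] at hdeg
      omega
    have hsmall : ∀ χ, χ ≠ triv X → n χ ≠ 0 → dg χ ≤ 6 := fun χ hχ hn => by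
      have h1 := Finset.single_le_sum (f := fun χ => n χ * dg χ) (fun _ _ => Nat.zero_le _)
        (Finset.mem_erase.2 ⟨hχ, Finset.mem_univ χ⟩)
      rw [hrest] at h1
      exact le_trans (Nat.le_mul_of_pos_left _ (Nat.pos_of_ne_zero hn)) h1
    by_cases h6 : ∃ ψ ∈ B.xs, dg ψ = 6 ∧ n ψ ≠ 0
    · obtain ⟨ψ, hψ, hψ6, hψn⟩ := h6
      have hψt : ψ ≠ triv X := B.xs_ne_triv hψ
      rw [← Finset.add_sum_erase _ _ (Finset.mem_erase.2 ⟨hψt, Finset.mem_univ ψ⟩), hψ6] at hrest
      have hn1 : n ψ = 1 := by omega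
      refine ⟨ψ, hψ, hψ6, hn1, fun χ hχ hχψ => ?_⟩
      rw [hn1] at hrest
      have h0 : ∑ χ ∈ (Finset.univ.erase (triv X)).erase ψ, n χ * dg χ = 0 := by omega
      have h1 := (Finset.sum_eq_zero_iff.1 h0) χ (Finset.mem_erase.2 ⟨hχψ, Finset.mem_erase.2 ⟨hχ, Finset.mem_univ χ⟩⟩)
      rcases Nat.mul_eq_zero.1 h1 with e | e
      · exact e
      · have := CfsgLib.Blocks.irr_charDegree_pos χ
        change 0 < dg χ at this
        omega
    · exfalso
      push Not at h6
      have hys : ∀ χ, χ ≠ triv X → n χ ≠ 0 → χ ∈ B.ys ∧ (B.f = 3 ∨ B.f = 4) ∧ dg χ = B.f := fun χ hχ hn =>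
        (hblock χ hχ (hsmall χ hχ hn)).resolve_left fun hx => hn (h6 χ hx.1 hx.2)
      obtain ⟨η, hη⟩ := B.exists_eta
      set s := ∑ χ ∈ Finset.univ.erase (triv X), n χ with hs
      have e1 : B.f * s = 6 := by
        rw [← hrest, hs, Finset.mul_sum]
        refine Finset.sum_congr rfl fun χ hχ => ?_
        by_cases hn : n χ = 0
        · rw [hn, zero_mul, mul_zero]
        · rw [(hys χ (Finset.mem_erase.1 hχ).1 hn).2.2, mul_comm]
      have e2 : (1 : ℂ) + (s : ℂ) * (η : X → ℂ) y = 2 := by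
        rw [← hval, ← Finset.add_sum_erase _ _ (Finset.mem_univ (triv X)), ht, Nat.cast_one, triv_apply, one_mul, hs,
          Nat.cast_sum, Finset.sum_mul]
        congr 1
        refine Finset.sum_congr rfl fun χ hχ => ?_
        by_cases hn : n χ = 0
        · rw [hn, Nat.cast_zero, zero_mul, zero_mul]
        · rw [B.agree χ (hys χ (Finset.mem_erase.1 hχ).1 hn).1 η hη y (by rw [hy]; norm_num)]
      have hs2 : s = 2 := by
        rcases Nat.eq_zero_or_pos s with h0 | hpos
        · rw [h0, mul_zero] at e1; omega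
        obtain ⟨χ, hχ, hn⟩ := Finset.exists_ne_zero_of_sum_ne_zero (show ∑ χ ∈ Finset.univ.erase (triv X), n χ ≠ 0 by
          rw [← hs]; omega)
        rcases (hys χ (Finset.mem_erase.1 hχ).1 hn).2.1 with e | e <;> rw [e] at e1 <;> omega
      rw [hs2] at e2
      refine two_not_int (isIntegral_of_char (isCharacter_of_irr η.2) y) ?_
      push_cast at e2
      linear_combination e2
  by_cases hex : ∃ ψ ∈ B.xs, dg ψ = 6
  · obtain ⟨ψ, hψ, hψ6⟩ := hex
    refine ⟨ψ, hψ6, fun n y hy ht hdeg hval => ?_⟩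
    obtain ⟨ψ', hψ', h6, h1, h2⟩ := key n y hy ht hdeg hval
    obtain rfl := huniq ψ ψ' hψ hψ' hψ6 h6
    exact ⟨h1, h2⟩
  · -- the permutation character on seven points shows that this does not happen
    exfalso
    obtain ⟨e⟩ := CfsgLib.Order2520.iso h
    set H : Subgroup X := (MulAction.stabilizer (alternatingGroup (Fin 7)) (0 : Fin 7)).comap e.toMonoidHom with hH
    haveI := Fintype.ofFinite H
    choose n hn using exists_fix_mult H
    have hH0 : (Nat.card H : ℂ) ≠ 0 := Nat.cast_ne_zero.2 Nat.card_pos.ne'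
    have htriv : n (triv X) = 1 := by
      have h := hn (triv X)
      simp only [triv_apply] at h
      rw [Finset.sum_const, Finset.card_univ, ← Nat.card_eq_fintype_card, nsmul_eq_mul] at h
      exact_mod_cast (mul_left_cancel₀ hH0 h).symm
    obtain ⟨y, hy⟩ := exists_prime_orderOf_dvd_card' (G := X) 5 (by rw [h]; norm_num)
    have hidx : H.index = 7 := by
      rw [hH, Subgroup.index_comap_of_surjective (f := e.toMonoidHom) _ e.surjective, MulAction.index_stabilizer]
      haveI : MulAction.IsPretransitive (alternatingGroup (Fin 7)) (Fin 7) := by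
        have hc : finRotate 7 ∈ alternatingGroup (Fin 7) := by
          rw [Equiv.Perm.mem_alternatingGroup, sign_finRotate]; decide
        have hrot : ∀ i : Fin 7, ((finRotate 7) ^ (i : ℕ)) 0 = i := by decide +kernel
        refine MulAction.IsPretransitive.mk fun a b => ?_
        refine ⟨(⟨finRotate 7, hc⟩ : alternatingGroup (Fin 7)) ^ (b : ℕ) * ((⟨finRotate 7, hc⟩ : alternatingGroup (Fin 7)) ^ (a : ℕ))⁻¹, ?_⟩
        rw [mul_smul, show ((⟨finRotate 7, hc⟩ : alternatingGroup (Fin 7)) ^ (a : ℕ))⁻¹ • a = 0 from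
          inv_smul_eq_iff.2 (by
            show a = ((⟨finRotate 7, hc⟩ : alternatingGroup (Fin 7)) ^ (a : ℕ) : Equiv.Perm (Fin 7)) 0
            rw [Subgroup.coe_mk, hrot])]
        show ((⟨finRotate 7, hc⟩ : alternatingGroup (Fin 7)) ^ (b : ℕ) : Equiv.Perm (Fin 7)) 0 = b
        rw [Subgroup.coe_mk, hrot]
      rw [MulAction.orbit_eq_univ, Set.ncard_univ, Nat.card_fin]
    obtain ⟨ψ, hψ, h6, -⟩ := key n y hy htriv (perm_deg H n hn hidx) (perm_val h H n hn hidx hy)
    exact hex ⟨ψ, hψ, h6⟩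

end CfsgSimpleM23
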