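/-
Simple groups of order 10200960: the value of the character of degree twenty-two at elements of order five.
-/
import Cfsg.Agent.Lib.SimpleM23.Table

set_option autoImplicit false
set_option linter.style.haveILetI false
set_option linter.unusedSectionVars false

namespace CfsgSimpleM23

open Cfsg CfsgLib.CharTheory CfsgSimpleM11
open CfsgSimpleM22 (cc BL exists_BL sgn sgE ival ival_spec)
open CfsgLib.SmallSylow (inIdx)

universe u
variable {G : Type u} [Group G] [Fintype G]

/-- The powers prime to five are conjugate. -/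
theorem five_rational (hG : IsM23 G) {x : G} (hx : orderOf x = 5) {m : ℕ} (hm : ¬ 5 ∣ m) : IsConj x (x ^ m) := by
  classical
  haveI : Fact (Nat.Prime 5) := ⟨by norm_num⟩
  obtain ⟨P, hP⟩ := (IsPGroup.of_card (n := 1) (by rw [Nat.card_zpowers, hx, pow_one]) :
    IsPGroup 5 (Subgroup.zpowers x)).exists_le_sylow
  have hcard : Nat.card P = 5 := card_sylow_prime hG (by decide) P
  obtain ⟨he, -, -, -⟩ := five hG P
  have hxP := hP (Subgroup.mem_zpowers x)
  set N := Subgroup.normalizer ((P : Subgroup G) : Set G) with hN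
  let f : N →* MulAut (P : Subgroup G) := (P : Subgroup G).normalizerMonoidHom
  haveI : IsCyclic (P : Subgroup G) := isCyclic_of_prime_card (p := 5) hcard
  have hrange : Nat.card f.range = 4 := by
    rw [← Subgroup.index_ker, show f.ker = (Subgroup.centralizer ((P : Subgroup G) : Set G)).subgroupOf N from
      (P : Subgroup G).normalizerMonoidHom_ker]
    exact he
  have htot : Nat.card (MulAut (P : Subgroup G)) = 4 := by
    rw [IsCyclic.card_mulAut, show Nat.card (P : Subgroup G) = 5 from hcard]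
    decide
  have hsurj : f.range = ⊤ := Subgroup.eq_top_of_card_eq _ (hrange.trans htot.symm)
  have hco : (Nat.card (P : Subgroup G)).Coprime m := by
    rw [show Nat.card (P : Subgroup G) = 5 from hcard]
    exact (Fact.out : Nat.Prime 5).coprime_iff_not_dvd.2 hm
  letI : CommGroup (P : Subgroup G) := IsCyclic.commGroup
  let σ : MulAut (P : Subgroup G) := MulEquiv.mk (powCoprime hco) (fun a b => mul_pow a b m)
  obtain ⟨g, hg⟩ : σ ∈ f.range := hsurj ▸ Subgroup.mem_top σ
  refine isConj_iff.2 ⟨g, ?_⟩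
  have h := congrArg Subtype.val (DFunLike.congr_fun hg ⟨x, hxP⟩)
  exact h

theorem Tbl.val22_five (T : Tbl G) (hG : IsM23 G) {x : G} (hx : orderOf x = 5) : (T.χ 1 : G → ℂ) x = 2 := by
  classical
  haveI : Fact (Nat.Prime 5) := ⟨by norm_num⟩
  have hint : ∀ χ : IrrCharacter G, ∃ v : ℤ, (χ : G → ℂ) x = v := fun χ => by
    refine rational_int_of_invariant (isCharacter_of_irr χ.2) x fun m hm => ?_
    have h5 : ¬ 5 ∣ m := fun h => by
      rw [card_eq hG] at hm
      exact absurd (Nat.eq_one_of_dvd_coprimes hm h (by norm_num)) (by norm_num)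
    exact irr_of_isConj χ (five_rational hG hx h5).symm
  obtain ⟨P, hP⟩ := (IsPGroup.of_card (n := 1) (by rw [Nat.card_zpowers, hx, pow_one]) :
    IsPGroup 5 (Subgroup.zpowers x)).exists_le_sylow
  have hcard : Nat.card P = 5 := card_sylow_prime hG (by decide) P
  have hxP := hP (Subgroup.mem_zpowers x)
  have hx1 : x ≠ 1 := fun e => by rw [e, orderOf_one] at hx; norm_num at hx
  obtain ⟨B⟩ := exists_BL (by norm_num) P hcard (two_le_e hG P hcard)
  obtain ⟨he, -, hC15, hlist⟩ := five hG P
  have hperm := hlist B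
  have hy1 : ∃ η, B.ys = [η] := List.length_eq_one_iff.1 (by have := B.len_ys; rw [he] at this; omega)
  obtain ⟨η, hη⟩ := hy1
  have hxs : ∀ χ ∈ B.xs, ival χ x ^ 2 = 1 := fun χ hχ => by
    have h := B.valX χ hχ x hxP hx1 1 (one_mem _) (by rw [orderOf_one]; norm_num)
    rw [mul_one] at h
    rw [CfsgSimpleM22.ival_eq h, sgn]
    split_ifs <;> norm_num
  have hys : ival η x ^ 2 = 1 := by
    have h := B.sumY x hxP hx1 1 (one_mem _) (by rw [orderOf_one]; norm_num)
    rw [hη] at h
    simp only [List.map_cons, List.map_nil, List.sum_cons, List.sum_nil, mul_one, add_zero] at h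
    rw [CfsgSimpleM22.ival_eq h, sgE]
    split_ifs <;> norm_num
  have hblock : ∀ χ ∈ B.xs ++ B.ys, ival χ x ^ 2 = 1 := fun χ hχ => by
    rcases List.mem_append.1 hχ with h | h
    · exact hxs χ h
    · rw [hη, List.mem_singleton] at h; rw [h]; exact hys
  have hnd : (triv G :: (B.xs ++ B.ys)).Nodup := B.nodup
  obtain ⟨v1, hv1⟩ := hint (T.χ 1)
  obtain ⟨v8, hv8⟩ := hint (T.χ 8)
  have h5v1 : v1 ≡ (22 : ℤ) [ZMOD 5] := by
    have := modEq_degree (T.χ 1) (p := 5) (k := 1) (y := x) (by rw [pow_one, ← hx, pow_orderOf_eq_one]) hv1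
    rw [T.deg] at this
    exact this
  have h5v8 : v8 ≡ (253 : ℤ) [ZMOD 5] := by
    have := modEq_degree (T.χ 8) (p := 5) (k := 1) (y := x) (by rw [pow_one, ← hx, pow_orderOf_eq_one]) hv8
    rw [T.deg] at this
    exact this
  have hnot : ∀ i : Fin 17, D17 i = 22 ∨ D17 i = 253 → T.χ i ∉ triv G :: (B.xs ++ B.ys) := by
    intro i hi hmem
    rcases List.mem_cons.1 hmem with e | hm
    · have := T.deg i; rw [e, dg_triv] at this; omega
    · have h := List.mem_map_of_mem (f := fun χ : IrrCharacter G => dg χ) hm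
      have := hperm.subset h
      rw [T.deg] at this
      simp only [List.mem_cons, List.not_mem_nil, or_false] at this
      omega
  have hne : T.χ 1 ≠ T.χ 8 := fun e => absurd (T.bij.1 e) (by decide)
  set s := insert (T.χ 1) (insert (T.χ 8) (triv G :: (B.xs ++ B.ys)).toFinset) with hs
  have hsum := norm_le s (g := x) (fun χ => ival χ x) (fun χ _ => by
    obtain ⟨v, hv⟩ := hint χ
    exact ival_spec hv)
  rw [hs, Finset.sum_insert, Finset.sum_insert, List.sum_toFinset _ hnd, List.map_cons, List.sum_cons,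
    CfsgSimpleM22.ival_eq hv1, CfsgSimpleM22.ival_eq hv8, CfsgSimpleM22.ival_triv] at hsum
  rotate_left
  · rw [List.mem_toFinset]; exact hnot 8 (Or.inr rfl)
  · rw [Finset.mem_insert, List.mem_toFinset]
    rintro (e | e)
    · exact hne e
    · exact hnot 1 (Or.inl rfl) e
  have hlen : (B.xs ++ B.ys).length = 4 := by
    rw [← List.length_map (fun χ : IrrCharacter G => dg χ), hperm.length_eq]; rfl
  have h4 : ((B.xs ++ B.ys).map fun χ => ival χ x ^ 2).sum = 4 := by
    rw [List.map_eq_replicate_iff.2 hblock, hlen]; decide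
  rw [h4] at hsum
  have hcc : cc x = 15 := by
    rw [← hC15, ← (CfsgLib.Blocks.DefectOne.setup_sylow P hcard).star x hxP hx1]
  rw [hcc] at hsum
  have hv8sq : 4 ≤ v8 ^ 2 := by
    have : v8 % 5 = 3 := h5v8
    rcases le_or_gt v8 (-2) with h | h
    · nlinarith
    · have : 2 ≤ v8 := by omega
      nlinarith
  have hmod : v1 % 5 = 2 := h5v1
  push_cast at hsum
  have hv : v1 = 2 := by
    have h9 : v1 ^ 2 < 9 := by linarith
    have : -3 < v1 := by nlinarith
    have : v1 < 3 := by nlinarith
    omega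
  rw [hv1, hv]; norm_num

end CfsgSimpleM23
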