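/-
Simple groups of order 10200960: a suborbit of length 112 on the 253 cosets.
-/
import Cfsg.Agent.Lib.SimpleM23.Perm253

set_option autoImplicit false
set_option linter.style.haveILetI false
set_option linter.unusedSectionVars false

namespace CfsgSimpleM23

open Cfsg CfsgSimpleM11 MulAction
open CfsgSimpleM22 (cc)

universe u
variable {G : Type u} [Group G] [Fintype G]

/-- The conditions on a suborbit. -/
def subOK (x s : ℕ) : Bool :=
  let d := 40320 / x
  (40320 % x == 0) && (d % s == 0) && ((d % 5 != 0) || s == 1 || s == 16) && ((d % 7 != 0) || s != 4) &&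
    (2520 % (d / s) == 0) && (d / s != 180) && (d / s != 210)

theorem suborbit253 : ((List.range 253).all fun x => [1, 2, 4, 8, 16].all fun s => [1, 2, 4, 8, 16].all fun r =>
    !((x * s + (252 - x) * r == 672) && subOK x s && subOK (252 - x) r) ||
      ((x == 112 && s == 1) || (x == 140 && s == 4 && r == 1))) = true := by decide +kernel

/-- No subgroup of order 180 or 210. -/
theorem no_180_210 {X : Type u} [Group X] [Fintype X] [IsSimpleGroup X] (h : Nat.card X = 2520) (L : Subgroup X) :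
    Nat.card L ≠ 180 ∧ Nat.card L ≠ 210 := by
  classical
  -- the normaliser in a subgroup
  have hloc : ∀ {q : ℕ} [Fact q.Prime] {M : ℕ}, q ∣ Nat.card L → ¬ q ^ 2 ∣ 2520 →
      (∃ P : Sylow q X, Nat.card P = q ∧ Nat.card (Subgroup.normalizer ((P : Subgroup X) : Set X)) = M) →
      ∃ d : ℕ, d ∣ M ∧ q ∣ d ∧ d * Nat.card (Sylow q L) = Nat.card L := by
    intro q _ M hq hq2 hex
    obtain ⟨P0, hP0, hN0⟩ := hex
    obtain ⟨P⟩ := (inferInstance : Nonempty (Sylow q L))
    have hPc : Nat.card P = q := by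
      obtain ⟨n, hn⟩ := IsPGroup.iff_card.1 P.isPGroup'
      have h1 : q ∣ Nat.card P := Sylow.dvd_card_of_dvd_card P hq
      rcases Nat.lt_or_ge n 2 with hlt | hge
      · interval_cases n
        · rw [hn, pow_zero] at h1
          exact absurd (Nat.dvd_one.1 h1) (Fact.out : q.Prime).ne_one
        · rw [hn, pow_one]
      · exact absurd ((pow_dvd_pow q hge).trans (hn ▸ (Subgroup.card_subgroup_dvd_card (P : Subgroup L)).trans
          (h ▸ Subgroup.card_subgroup_dvd_card L))) hq2
    set R : Subgroup X := (P : Subgroup L).map L.subtype with hR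
    have hRc : Nat.card R = q := by rw [hR, Subgroup.card_map_of_injective L.subtype_injective]; exact hPc
    obtain ⟨P', hP'⟩ := (IsPGroup.of_card (n := 1) (by rw [hRc, pow_one]) : IsPGroup q R).exists_le_sylow
    have hcP : Nat.card P' = q := (Sylow.card_eq_multiplicity P').trans ((Sylow.card_eq_multiplicity P0).symm.trans hP0)
    have heq : R = (P' : Subgroup X) := Subgroup.eq_of_le_of_card_ge hP' (by rw [hRc]; exact hcP.le)
    set Nl := Subgroup.normalizer ((P : Subgroup L) : Set L) with hNl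
    refine ⟨Nat.card Nl, ?_, ?_, ?_⟩
    · have hNP' : Nat.card (Subgroup.normalizer ((P' : Subgroup X) : Set X)) = M := by
        obtain ⟨g, hg⟩ := MulAction.exists_smul_eq X P0 P'
        rw [← hN0, ← hg]
        have hsn : ∀ Z : Sylow q X, Subgroup.normalizer ((Z : Subgroup X) : Set X) = MulAction.stabilizer X Z :=
          fun Z => (Sylow.stabilizer_eq_normalizer Z).symm
        rw [hsn, hsn]
        exact Nat.card_congr (MulAction.stabilizerEquivStabilizer rfl).toEquiv.symm
      rw [← hNP', ← Subgroup.card_map_of_injective (K := Nl) L.subtype_injective]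
      refine Subgroup.card_dvd_of_le ?_
      rw [← heq, hR]
      exact Subgroup.le_normalizer_map L.subtype
    · rw [← hPc]; exact Subgroup.card_dvd_of_le Subgroup.le_normalizer
    · rw [Sylow.card_eq_index_normalizer P]
      exact Nl.card_mul_index
  refine ⟨fun hL => ?_, fun hL => ?_⟩
  · -- order 180
    haveI : Fact (Nat.Prime 5) := ⟨by norm_num⟩
    haveI : Fact (Nat.Prime 3) := ⟨Nat.prime_three⟩
    obtain ⟨P0, hP0, hC0, hN0⟩ := CfsgLib.Order2520.prime_data h (q := 5) (by norm_num) (by norm_num) (by norm_num)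
      (CfsgLib.Order2520.five_check h) rfl
    obtain ⟨d, hd, h5, hdn⟩ := hloc (q := 5) (by rw [hL]; norm_num) (by norm_num) ⟨P0, hP0, hN0⟩
    rw [hL] at hdn
    have hd20 : d ≤ 20 := Nat.le_of_dvd (by norm_num) hd
    have hmod := card_sylow_modEq_one 5 L
    have hd5 : d = 5 := by
      obtain ⟨e, rfl⟩ := h5
      have : e ≤ 4 := by omega
      rcases (show e = 0 ∨ e = 1 ∨ e = 2 ∨ e = 3 ∨ e = 4 by omega) with rfl | rfl | rfl | rfl | rfl <;>
        simp only [Nat.ModEq] at hmod <;> omega
    subst hd5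
    obtain ⟨P⟩ := (inferInstance : Nonempty (Sylow 5 L))
    have hPc : Nat.card P = 5 := by
      rw [Sylow.card_eq_multiplicity P, hL, show (180 : ℕ) = 5 * 36 by norm_num,
        Nat.factorization_mul (by norm_num) (by norm_num), Finsupp.add_apply, Nat.Prime.factorization_self (by norm_num),
        Nat.factorization_eq_zero_of_not_dvd (by norm_num : ¬ 5 ∣ 36), add_zero, pow_one]
    have hNP : Nat.card (Subgroup.normalizer ((P : Subgroup L) : Set L)) = 5 := by
      have h1 := (Subgroup.normalizer ((P : Subgroup L) : Set L)).card_mul_index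
      rw [show (Subgroup.normalizer ((P : Subgroup L) : Set L)).index = Nat.card (Sylow 5 L) from
        (Sylow.card_eq_index_normalizer P).symm, hL, show Nat.card (Sylow 5 L) = 36 by omega] at h1
      omega
    have hPN : (P : Subgroup L) = Subgroup.normalizer ((P : Subgroup L) : Set L) :=
      Subgroup.eq_of_le_of_card_ge Subgroup.le_normalizer (by rw [hNP]; exact hPc.ge)
    haveI : IsMulCommutative (P : Subgroup L) :=
      haveI := isCyclic_of_prime_card (p := 5) hPc
      ⟨⟨fun a b => (IsCyclic.commGroup (α := (P : Subgroup L))).mul_comm a b⟩⟩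
    have hnc : Subgroup.normalizer ((P : Subgroup L) : Set L) ≤ Subgroup.centralizer ((P : Subgroup L) : Set L) := by
      rw [← hPN]
      intro g hg
      exact Subgroup.mem_centralizer_iff.2 fun z hz =>
        congrArg Subtype.val (IsMulCommutative.is_comm.comm (⟨z, hz⟩ : (P : Subgroup L)) ⟨g, hg⟩)
    set K := (MonoidHom.transferSylow P hnc).ker with hK
    have hKc : Nat.card K = 36 := by
      have h' := (MonoidHom.ker_transferSylow_isComplement' P hnc).card_mul_card
      rw [hPc, hL, ← hK] at h'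
      omega
    obtain ⟨T⟩ := (inferInstance : Nonempty (Sylow 3 K))
    have hTc : Nat.card T = 9 := by
      rw [Sylow.card_eq_multiplicity T, hKc, show (36 : ℕ) = 3 ^ 2 * 4 by norm_num,
        Nat.factorization_mul (by norm_num) (by norm_num), Finsupp.add_apply,
        Nat.Prime.factorization_pow Nat.prime_three,
        Nat.factorization_eq_zero_of_not_dvd (by norm_num : ¬ 3 ∣ 4), add_zero]
      simp
    have hsup := Sylow.normalizer_sup_eq_top T
    set NT := Subgroup.normalizer (((T : Subgroup K).map K.subtype : Subgroup L) : Set L) with hNT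
    have h5N : 5 ∣ Nat.card NT := by
      have h1 : Function.Surjective ((QuotientGroup.mk' K).comp NT.subtype) := by
        intro q
        obtain ⟨g, rfl⟩ := QuotientGroup.mk'_surjective _ q
        have hg : g ∈ (↑(NT ⊔ K) : Set L) := by rw [hsup]; trivial
        rw [Subgroup.mul_normal] at hg
        obtain ⟨n, hn, k, hk, rfl⟩ := hg
        refine ⟨⟨n, hn⟩, ?_⟩
        show QuotientGroup.mk' K n = _
        rw [map_mul, show QuotientGroup.mk' K k = 1 from (QuotientGroup.eq_one_iff k).2 hk, mul_one]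
      have h2 := Subgroup.card_dvd_of_surjective _ h1
      have h3 := K.card_mul_index
      rw [hKc, hL] at h3
      rwa [show Nat.card (L ⧸ K) = K.index from rfl, show K.index = 5 by omega] at h2
    obtain ⟨y, hy⟩ := exists_prime_orderOf_dvd_card' 5 h5N
    set W : Subgroup X := ((T : Subgroup K).map K.subtype).map L.subtype with hW
    have hWc : Nat.card W = 9 := by
      rw [hW, Subgroup.card_map_of_injective L.subtype_injective, Subgroup.card_map_of_injective K.subtype_injective]
      exact hTc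
    set y' : X := ((y : L) : X) with hy'
    have hyo : orderOf y' = 5 := by rw [hy', Subgroup.orderOf_coe, Subgroup.orderOf_coe, hy]
    have hmod' := card_fixed_mod (p := 5) (S := (W : Set X)) (z := y') (by rw [← hyo, pow_orderOf_eq_one]) (by
      rintro _ ⟨z, hz, rfl⟩
      exact ⟨(y : L) * z * (y : L)⁻¹, (Subgroup.mem_normalizer_iff.1 y.2 z).1 hz, rfl⟩)
    set F := W ⊓ Subgroup.centralizer ({y'} : Set X) with hF
    have hFeq : {s : X | s ∈ (W : Set X) ∧ Commute s y'} = (F : Set X) := by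
      ext s
      simp only [Set.mem_setOf_eq, SetLike.mem_coe, F, Subgroup.mem_inf, Subgroup.mem_centralizer_singleton_iff]
      exact Iff.rfl
    rw [hFeq] at hmod'
    change Nat.card W % 5 = Nat.card F % 5 at hmod'
    rw [hWc] at hmod'
    have hF9 : Nat.card F ∣ 9 := hWc ▸ Subgroup.card_dvd_of_le inf_le_left
    have hFF : Nat.card F = 9 := by
      have := Nat.le_of_dvd (by norm_num) hF9
      interval_cases hFc : Nat.card F <;> omega
    obtain ⟨w, hw, hwo⟩ := exists_order (K := F) Nat.prime_three (by rw [hFF]; norm_num)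
    obtain ⟨P', hP'⟩ := (IsPGroup.of_card (n := 1) (by rw [Nat.card_zpowers, hyo, pow_one]) :
      IsPGroup 5 (Subgroup.zpowers y')).exists_le_sylow
    have hcP : Nat.card P' = 5 := (Sylow.card_eq_multiplicity P').trans ((Sylow.card_eq_multiplicity P0).symm.trans hP0)
    have hwne : w ≠ 1 := fun e => by rw [e, orderOf_one] at hwo; norm_num at hwo
    have hnd := CfsgLib.Order2520.not_dvd_cent h (q := 5) hP0 hC0 hwne (by rw [hwo]; norm_num)
    refine hnd ?_
    rw [← hyo]
    exact Subgroup.orderOf_dvd_natCard _ (Subgroup.mem_centralizer_singleton_iff.2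
      (Subgroup.mem_centralizer_singleton_iff.1 hw.2).symm)
  · -- order 210
    haveI : Fact (Nat.Prime 7) := ⟨by norm_num⟩
    obtain ⟨P0, hP0, -, hN0⟩ := CfsgLib.Order2520.prime_data h (q := 7) (by norm_num) (by norm_num) (by norm_num)
      (CfsgLib.Order2520.seven_check h) rfl
    obtain ⟨d, hd, h7, hdn⟩ := hloc (q := 7) (by rw [hL]; norm_num) (by norm_num) ⟨P0, hP0, hN0⟩
    rw [hL] at hdn
    have hd21 : d ≤ 21 := Nat.le_of_dvd (by norm_num) hd
    have hmod := card_sylow_modEq_one 7 L
    obtain ⟨e, rfl⟩ := h7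
    rcases (show e = 0 ∨ e = 1 ∨ e = 2 ∨ e = 3 by omega) with rfl | rfl | rfl | rfl <;>
      simp only [Nat.ModEq] at hmod <;> omega

namespace Sixteen

variable (S : Sixteen G)

/-- The order of the image in the quotient. -/
theorem image_card {D : Subgroup G} (hD : D ≤ S.N) :
    ∃ R : Subgroup S.Q, Nat.card R * Nat.card (D ⊓ S.E : Subgroup G) = Nat.card D := by
  set ψ : D →* S.Q := (QuotientGroup.mk' S.E').comp (Subgroup.inclusion hD) with hψ
  refine ⟨ψ.range, ?_⟩
  have hker : Nat.card ψ.ker = Nat.card (D ⊓ S.E : Subgroup G) := Nat.card_congr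
    { toFun := fun z => ⟨z.1.1, z.1.2, Subgroup.mem_subgroupOf.1
        ((QuotientGroup.eq_one_iff (Subgroup.inclusion hD z.1)).1 z.2)⟩
      invFun := fun z => ⟨⟨z.1, z.2.1⟩, (QuotientGroup.eq_one_iff _).2 (Subgroup.mem_subgroupOf.2 z.2.2)⟩
      left_inv := fun _ => rfl
      right_inv := fun _ => rfl }
  rw [← Subgroup.index_ker, ← hker, mul_comm, Subgroup.card_mul_index]

/-- The possible intersections with the normaliser. -/
theorem meet_cases (hG : IsM23 G) (T : Tbl G) {D : Subgroup G} (hD : D ≤ S.N) :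
    (5 ∣ Nat.card D → Nat.card (D ⊓ S.E : Subgroup G) = 1 ∨ Nat.card (D ⊓ S.E : Subgroup G) = 16) ∧
    (7 ∣ Nat.card D → Nat.card (D ⊓ S.E : Subgroup G) ≠ 4) := by
  classical
  set I := D ⊓ S.E with hI
  have hId : Nat.card I ∣ 16 := S.card ▸ Subgroup.card_dvd_of_le inf_le_right
  have hfix : ∀ {p : ℕ} [Fact p.Prime] {y : G}, y ∈ D → orderOf y = p →
      Nat.card I % p = Nat.card {s : G | s ∈ (I : Set G) ∧ Commute s y} % p := by
    intro p _ y hy hoy
    refine card_fixed_mod (by rw [← hoy, pow_orderOf_eq_one]) fun s hs => Subgroup.mem_inf.2 ⟨?_, ?_⟩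
    · exact D.mul_mem (D.mul_mem hy (Subgroup.mem_inf.1 hs).1) (D.inv_mem hy)
    · exact (Subgroup.mem_normalizer_iff.1 (hD hy) s).1 (Subgroup.mem_inf.1 hs).2
  refine ⟨fun h5 => ?_, fun h7 h4 => ?_⟩
  · haveI : Fact (Nat.Prime 5) := ⟨by norm_num⟩
    obtain ⟨y, hy, hoy⟩ := exists_order (by norm_num : Nat.Prime 5) h5
    have h := hfix hy hoy
    have hone : Nat.card {s : G | s ∈ (I : Set G) ∧ Commute s y} = 1 := by
      rw [Nat.card_eq_one_iff_unique]
      refine ⟨⟨fun a b => Subtype.ext ?_⟩, ⟨⟨1, one_mem I, Commute.one_left y⟩⟩⟩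
      have key : ∀ s : G, s ∈ (I : Set G) → Commute s y → s = 1 := fun s hs hc => by
        by_contra hs1
        have := orderOf_dvd_five hG hoy (g := s) hc.eq
        rw [S.orderOf_mem (Subgroup.mem_inf.1 hs).2 hs1] at this
        norm_num at this
      rw [key _ a.2.1 a.2.2, key _ b.2.1 b.2.2]
    rw [hone] at h
    obtain ⟨k, hk, hk'⟩ := (Nat.dvd_prime_pow Nat.prime_two).1 (show Nat.card I ∣ 2 ^ 4 from hId)
    rw [hk'] at h ⊢
    interval_cases k <;> simp_all
  · haveI : Fact (Nat.Prime 7) := ⟨by norm_num⟩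
    obtain ⟨y, hy, hoy⟩ := exists_order (by norm_num : Nat.Prime 7) h7
    have h := hfix hy hoy
    obtain ⟨R, hR⟩ := (IsPGroup.of_card (n := 1) (by rw [Nat.card_zpowers, hoy, pow_one]) :
      IsPGroup 7 (Subgroup.zpowers y)).exists_le_sylow
    have hR7 : Nat.card R = 7 := card_sylow_prime hG (by decide) R
    obtain ⟨t, -, -, -, -, -, huniq⟩ := T.seven_local hG R
    have hy1 : y ≠ 1 := fun e => by rw [e, orderOf_one] at hoy; norm_num at hoy
    have hle : Nat.card {s : G | s ∈ (I : Set G) ∧ Commute s y} ≤ 2 := by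
      rw [Nat.card_eq_card_toFinset]
      refine (Finset.card_le_card (t := {1, t}) fun s hs => ?_).trans Finset.card_le_two
      obtain ⟨hs, hc⟩ := Set.mem_toFinset.1 hs
      by_cases hs1 : s = 1
      · simp [hs1]
      · refine Finset.mem_insert_of_mem (Finset.mem_singleton.2 (huniq s ?_ (S.orderOf_mem (Subgroup.mem_inf.1 hs).2 hs1)))
        rw [← (CfsgLib.Blocks.DefectOne.setup_sylow R hR7).star y (hR (Subgroup.mem_zpowers y)) hy1]
        exact Subgroup.mem_centralizer_singleton_iff.2 hc.eq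
    rw [h4] at h
    omega

end Sixteen

/-- The intersection with a conjugate. -/
def meet (H : Subgroup G) (g : G) : Subgroup G := H ⊓ H.map (MulAut.conj g).toMonoidHom

theorem Sixteen.suborbit (hG : IsM23 G) (T : Tbl G) (S : Sixteen G) :
    (∃ g : G, Nat.card (meet S.N g) = 360) ∧ ∀ g : G, Nat.card (meet S.N g) = 360 → meet S.N g ⊓ S.E = ⊥ := by
  classical
  haveI := S.simple_Q hG T
  set H := S.N with hH
  set X := G ⧸ H
  set x0 : X := ((1 : G) : G ⧸ H) with hx0
  haveI : Fintype X := Fintype.ofFinite X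
  haveI := Fintype.ofFinite (orbitRel.Quotient H X)
  obtain ⟨h3, h29, -⟩ := T.perm253 hG (H := H) S.card_norm
  have hq : (Finset.univ : Finset (orbitRel.Quotient H X)).card = 3 := by
    rw [Finset.card_univ, ← Nat.card_eq_fintype_card]; exact h3
  have hX : Fintype.card X = 253 := by
    rw [← Nat.card_eq_fintype_card]
    have h := H.card_mul_index
    rw [S.card_norm, card_eq hG] at h
    show H.index = 253
    omega
  let π : X → orbitRel.Quotient H X := fun R => Quotient.mk _ R
  have hπ : ∀ Q R, π R = π Q ↔ R ∈ orbit H Q := fun Q R =>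
    ⟨fun h => orbitRel_apply.mp (Quotient.exact h), fun h => Quotient.sound (orbitRel_apply.mpr h)⟩
  have hst0 : stabilizer G x0 = H := by rw [hx0, MulAction.stabilizer_quotient]
  have hP : ∀ R, π R = π x0 → R = x0 := by
    intro R h
    obtain ⟨g, rfl⟩ := (hπ x0 R).1 h
    show ((g : G) • x0) = x0
    exact mem_stabilizer_iff.1 (hst0.symm ▸ g.2)
  obtain ⟨q1, q2, hq12, hpair⟩ := Finset.card_eq_two.mp (show (Finset.univ.erase (π x0)).card = 2 by
    rw [Finset.card_erase_of_mem (Finset.mem_univ _), hq])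
  set F : orbitRel.Quotient H X → Finset X := fun q => Finset.univ.filter (fun R => π R = q) with hF
  -- the stabilisers of the pairs
  set D : X → Subgroup G := fun Q => H ⊓ stabilizer G Q with hD
  set sE : X → ℕ := fun Q => Nat.card (D Q ⊓ S.E : Subgroup G) with hsE
  have hDorb : ∀ q, ∀ Q ∈ F q, (F q).card * Nat.card (D Q) = 40320 := by
    intro q Q hQ
    have horb : Nat.card (orbit H Q) = (F q).card := by
      rw [← (Finset.mem_filter.1 hQ).2, Nat.card_eq_fintype_card, ← Set.toFinset_card]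
      refine congrArg Finset.card ?_
      ext R
      simp [hF, hπ]
    have h := (stabilizer H Q).card_mul_index
    rw [MulAction.index_stabilizer, ← Nat.card_coe_set_eq, horb] at h
    rw [← S.card_norm]
    show _ = Nat.card H
    rw [← h, mul_comm]
    congr 1
    rw [show stabilizer H Q = (stabilizer G Q).subgroupOf H from rfl, ← Subgroup.inf_subgroupOf_left,
      Nat.card_congr (Subgroup.subgroupOfEquivOfLe inf_le_left).toEquiv]
  have hconst : ∀ q, ∀ Q ∈ F q, ∀ R ∈ F q, sE R = sE Q := by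
    intro q Q hQ R hR
    obtain ⟨⟨g, hg⟩, rfl⟩ := (hπ Q R).1 ((Finset.mem_filter.1 hR).2.trans (Finset.mem_filter.1 hQ).2.symm)
    simp only [hsE]
    symm
    refine Nat.card_congr ((MulAut.conj g).toEquiv.subtypeEquiv fun z => ?_)
    simp only [hD, Subgroup.mem_inf, MulAction.mem_stabilizer_iff]
    show _ ↔ ((g * z * g⁻¹ ∈ H) ∧ (g * z * g⁻¹) • g • Q = g • Q) ∧ g * z * g⁻¹ ∈ S.E
    rw [← Subgroup.mem_normalizer_iff.1 hg z]
    simp only [mul_smul, inv_smul_smul, smul_left_cancel_iff, mul_mem_cancel_left hg,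
      mul_mem_cancel_right (inv_mem hg)]
  -- counting fixed points
  have hcount : ∑ Q ∈ Finset.univ.erase x0, sE Q = 672 := by
    have hside : ∀ Q, sE Q = ((S.E : Set G).toFinset.filter fun e => e • Q = Q).card := by
      intro Q
      simp only [hsE]
      rw [← Nat.card_eq_finsetCard]
      refine Nat.card_congr (Equiv.subtypeEquivRight fun e => ?_)
      simp only [hD, Subgroup.mem_inf, MulAction.mem_stabilizer_iff, Finset.mem_filter, Set.mem_toFinset,
        SetLike.mem_coe]
      exact ⟨fun h => ⟨h.2, h.1.2⟩, fun h => ⟨⟨S.E_le h.1, h.2⟩, h.1⟩⟩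
    have htot : ∑ Q : X, sE Q = 688 := by
      simp only [hside]
      simp_rw [Finset.card_filter]
      rw [Finset.sum_comm, ← Finset.add_sum_erase _ _ (Set.mem_toFinset.2 (one_mem S.E) : (1 : G) ∈ _)]
      have h1 : (∑ Q : X, if (1 : G) • Q = Q then 1 else 0) = 253 := by simp [hX]
      have h2 : ∀ e ∈ (S.E : Set G).toFinset.erase 1, (∑ Q : X, if e • Q = Q then 1 else 0) = 29 := by
        intro e he
        obtain ⟨he1, he⟩ := Finset.mem_erase.1 he
        rw [Finset.sum_boole, Nat.cast_id, ← h29 e (S.orderOf_mem (Set.mem_toFinset.1 he) he1),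
          Nat.card_eq_fintype_card, Fintype.card_subtype]
      rw [h1, Finset.sum_congr rfl h2, Finset.sum_const, Finset.card_erase_of_mem (Set.mem_toFinset.2 (one_mem S.E)),
        Set.toFinset_card, ← Nat.card_eq_fintype_card, smul_eq_mul]
      change 253 + (Nat.card S.E - 1) * 29 = 688
      rw [S.card]
    have h16 : sE x0 = 16 := by
      simp only [hsE, hD]
      rw [hst0, inf_idem, inf_eq_right.2 S.E_le, S.card]
    rw [← Finset.add_sum_erase _ _ (Finset.mem_univ x0), h16] at htot
    omega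
  have hne : ∀ q ∈ Finset.univ.erase (π x0), ∀ Q ∈ F q, Q ≠ x0 := fun q hq' Q hQ h =>
    (Finset.mem_erase.1 hq').1 ((Finset.mem_filter.1 hQ).2.symm.trans (h ▸ rfl))
  obtain ⟨Q1, hQ1⟩ : ∃ Q, Q ∈ F q1 := by
    obtain ⟨Q, hQ⟩ := Quotient.exists_rep q1
    exact ⟨Q, Finset.mem_filter.2 ⟨Finset.mem_univ _, hQ⟩⟩
  obtain ⟨Q2, hQ2⟩ : ∃ Q, Q ∈ F q2 := by
    obtain ⟨Q, hQ⟩ := Quotient.exists_rep q2
    exact ⟨Q, Finset.mem_filter.2 ⟨Finset.mem_univ _, hQ⟩⟩
  have hunion : Finset.univ.erase x0 = F q1 ∪ F q2 := by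
    ext R
    constructor
    · intro hR
      have : π R ∈ Finset.univ.erase (π x0) :=
        Finset.mem_erase.2 ⟨fun h => (Finset.mem_erase.1 hR).1 (hP R h), Finset.mem_univ _⟩
      rw [hpair, Finset.mem_insert, Finset.mem_singleton] at this
      rcases this with h | h
      · exact Finset.mem_union_left _ (Finset.mem_filter.2 ⟨Finset.mem_univ _, h⟩)
      · exact Finset.mem_union_right _ (Finset.mem_filter.2 ⟨Finset.mem_univ _, h⟩)
    · intro hR
      refine Finset.mem_erase.2 ⟨?_, Finset.mem_univ _⟩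
      rcases Finset.mem_union.1 hR with h | h
      · exact hne q1 (by rw [hpair]; simp) R h
      · exact hne q2 (by rw [hpair]; simp) R h
  have hdisj : Disjoint (F q1) (F q2) := Finset.disjoint_left.2 fun R h1 h2 =>
    hq12 ((Finset.mem_filter.1 h1).2.symm.trans (Finset.mem_filter.1 h2).2)
  have hsum : (F q1).card + (F q2).card = 252 := by
    rw [← Finset.card_union_of_disjoint hdisj, ← hunion, Finset.card_erase_of_mem (Finset.mem_univ _),
      Finset.card_univ, hX]
  have hw : (F q1).card * sE Q1 + (F q2).card * sE Q2 = 672 := by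
    rw [← hcount, hunion, Finset.sum_union hdisj, Finset.sum_congr rfl (hconst q1 Q1 hQ1),
      Finset.sum_congr rfl (hconst q2 Q2 hQ2), Finset.sum_const, Finset.sum_const, smul_eq_mul, smul_eq_mul]
  have hOK : ∀ q Q, Q ∈ F q → subOK (F q).card (sE Q) = true ∧ sE Q ∈ [1, 2, 4, 8, 16] := by
    intro q Q hQ
    have hc := hDorb q Q hQ
    have hDN : D Q ≤ S.N := inf_le_left
    obtain ⟨R, hR⟩ := S.image_card hDN
    obtain ⟨h5, h7⟩ := S.meet_cases hG T hDN
    change Nat.card R * sE Q = Nat.card (D Q) at hR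
    change 5 ∣ Nat.card (D Q) → sE Q = 1 ∨ sE Q = 16 at h5
    change 7 ∣ Nat.card (D Q) → sE Q ≠ 4 at h7
    have hx0' : 0 < (F q).card := Finset.card_pos.2 ⟨Q, hQ⟩
    have hdiv : 40320 / (F q).card = Nat.card (D Q) := by
      rw [← hc, Nat.mul_div_cancel_left _ hx0']
    have hs : sE Q ∈ [1, 2, 4, 8, 16] := by
      obtain ⟨k, hk, hk'⟩ := (Nat.dvd_prime_pow Nat.prime_two).1
        (show sE Q ∣ 2 ^ 4 from (Subgroup.card_dvd_of_le inf_le_right).trans S.card.dvd)
      rw [hk']
      interval_cases k <;> decide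
    have hs0 : 0 < sE Q := Nat.card_pos
    obtain ⟨n180, n210⟩ := no_180_210 S.card_Q R
    have hR' : Nat.card (D Q) / sE Q = Nat.card R := by rw [← hR, Nat.mul_div_cancel _ hs0]
    refine ⟨?_, hs⟩
    simp only [subOK, hdiv, hR', Bool.and_eq_true, Bool.or_eq_true, beq_iff_eq, bne_iff_ne, ne_eq]
    refine ⟨⟨⟨⟨⟨⟨?_, ?_⟩, ?_⟩, ?_⟩, ?_⟩, n180⟩, n210⟩
    · exact Nat.mod_eq_zero_of_dvd (Dvd.intro _ hc)
    · exact Nat.mod_eq_zero_of_dvd (Dvd.intro_left _ hR)
    · by_cases h : 5 ∣ Nat.card (D Q)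
      · rcases h5 h with e | e
        · exact Or.inl (Or.inr e)
        · exact Or.inr e
      · exact Or.inl (Or.inl fun e => h (Nat.dvd_of_mod_eq_zero e))
    · by_cases h : 7 ∣ Nat.card (D Q)
      · exact Or.inr (h7 h)
      · exact Or.inl fun e => h (Nat.dvd_of_mod_eq_zero e)
    · exact Nat.mod_eq_zero_of_dvd (S.card_Q ▸ Subgroup.card_subgroup_dvd_card R)
  have hchk : ∀ a b Qa Qb, Qa ∈ F a → Qb ∈ F b → (F a).card + (F b).card = 252 →
      (F a).card * sE Qa + (F b).card * sE Qb = 672 →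
      ((F a).card = 112 ∧ sE Qa = 1) ∨ ((F a).card = 140 ∧ sE Qa = 4 ∧ sE Qb = 1) := by
    intro a b Qa Qb ha hb hs hw
    obtain ⟨o1, m1⟩ := hOK a Qa ha
    obtain ⟨o2, m2⟩ := hOK b Qb hb
    have hbe : 252 - (F a).card = (F b).card := by omega
    have h := List.all_eq_true.1 (List.all_eq_true.1 (List.all_eq_true.1 suborbit253 (F a).card
      (List.mem_range.2 (by omega))) _ m1) _ m2
    rw [hbe, o1, o2] at h
    simp only [hw, beq_self_eq_true, Bool.and_self, Bool.not_true, Bool.false_or, Bool.or_eq_true, Bool.and_eq_true,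
      beq_iff_eq] at h
    rcases h with h | h
    · exact Or.inl h
    · exact Or.inr ⟨h.1.1, h.1.2, h.2⟩
  obtain ⟨A, QA, hQA, hA112, hA1, hB140⟩ : ∃ A QA, QA ∈ F A ∧ (F A).card = 112 ∧ sE QA = 1 ∧
      ∀ R, R ≠ x0 → R ∈ F A ∨ Nat.card (D R) = 288 := by
    have hcov : ∀ R, R ≠ x0 → R ∈ F q1 ∨ R ∈ F q2 := fun R hR =>
      Finset.mem_union.1 (hunion ▸ Finset.mem_erase.2 ⟨hR, Finset.mem_univ R⟩)
    have h288 : ∀ q R, R ∈ F q → (F q).card = 140 → Nat.card (D R) = 288 := fun q R hR h => by
      have := hDorb q R hR; rw [h] at this; omega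
    rcases hchk q1 q2 Q1 Q2 hQ1 hQ2 hsum hw with ⟨a, b⟩ | ⟨a, b, c⟩
    · exact ⟨q1, Q1, hQ1, a, b, fun R hR => (hcov R hR).imp id fun h => h288 q2 R h (by omega)⟩
    · exact ⟨q2, Q2, hQ2, by omega, c, fun R hR => (hcov R hR).symm.imp id fun h => h288 q1 R h a⟩
  have hmeet : ∀ g : G, meet H g = D (g • x0) := by
    intro g
    simp only [hD]
    rw [meet, stabilizer_smul_eq_stabilizer_map_conj, hst0]
  refine ⟨?_, fun g hg => ?_⟩
  · obtain ⟨g, rfl⟩ := MulAction.exists_smul_eq G x0 QA
    exact ⟨g, by rw [hmeet]; have := hDorb A _ hQA; rw [hA112] at this; omega⟩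
  · have hgne : g • x0 ≠ x0 := fun e => by
      rw [hmeet, e] at hg
      simp only [hD, hst0, inf_idem] at hg
      rw [hH, S.card_norm] at hg
      norm_num at hg
    rcases hB140 _ hgne with h | h
    · refine Subgroup.eq_bot_of_card_eq _ ?_
      rw [hmeet]
      show sE (g • x0) = 1
      rw [hconst A QA hQA _ h, hA1]
    · rw [hmeet, h] at hg; norm_num at hg

end CfsgSimpleM23
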