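/-
Simple groups of order 10200960: a subgroup of index twenty-three.
-/
import Cfsg.Agent.Lib.SimpleM23.Suborbit
import Cfsg.Agent.Lib.SimpleM23.QuotChar
import Cfsg.Agent.Lib.SimpleM23.SmallVal
import Cfsg.Agent.Lib.CharTheory.Gallagher

set_option autoImplicit false
set_option linter.style.haveILetI false
set_option linter.unusedSectionVars false

namespace CfsgSimpleM23

open Cfsg CfsgLib.CharTheory CfsgSimpleM11
open scoped ComplexConjugate

universe u v

/-- A sum pulled back along a homomorphism. -/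
theorem sum_comp_hom {A B : Type*} [Group A] [Group B] [Fintype A] (φ : A →* B) [Fintype φ.range] (f : B → ℂ) :
    ∑ a : A, f (φ a) = (Nat.card φ.ker : ℂ) * ∑ b : φ.range, f b := by
  classical
  rw [← Finset.sum_fiberwise Finset.univ φ.rangeRestrict, Finset.mul_sum]
  refine Finset.sum_congr rfl fun b _ => ?_
  obtain ⟨b, a0, rfl⟩ := b
  rw [Finset.sum_congr rfl (g := fun _ => f (φ a0)) fun a ha => by
    rw [show φ a = φ a0 from congrArg Subtype.val (Finset.mem_filter.1 ha).2], Finset.sum_const, nsmul_eq_mul]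
  congr 1
  rw [← Nat.card_eq_finsetCard]
  congr 1
  refine Nat.card_congr
    { toFun := fun a => ⟨a0⁻¹ * a.1, MonoidHom.mem_ker.2 (by
        rw [map_mul, map_inv, show φ a.1 = φ a0 from congrArg Subtype.val (Finset.mem_filter.1 a.2).2, inv_mul_cancel])⟩
      invFun := fun k => ⟨a0 * k.1, Finset.mem_filter.2 ⟨Finset.mem_univ _, Subtype.ext (by
        show φ (a0 * k.1) = φ a0
        rw [map_mul, MonoidHom.mem_ker.1 k.2, mul_one])⟩⟩
      left_inv := fun a => Subtype.ext (mul_inv_cancel_left _ _)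
      right_inv := fun k => Subtype.ext (inv_mul_cancel_left _ _) }

section
variable {A : Type v} [Group A] [Fintype A]

theorem perm_deg_gen (H : Subgroup A) [Fintype H] (n : IrrCharacter A → ℕ)
    (hn : ∀ χ : IrrCharacter A, ∑ y : H, (χ : A → ℂ) y = (Nat.card H : ℂ) * n χ) {m : ℕ} (hidx : H.index = m) :
    ∑ χ, n χ * dg χ = m := by
  have h := mult_column H n hn 1
  rw [Nat.card_congr (Equiv.subtypeUnivEquiv (p := fun h : A => h⁻¹ * 1 * h ∈ H) (fun h : A => by
    rw [mul_one, inv_mul_cancel]; exact one_mem H)), ← H.card_mul_index, hidx] at h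
  simp only [irr_degree, map_natCast, Nat.cast_mul] at h
  exact_mod_cast mul_left_cancel₀ (Nat.cast_ne_zero.2 Nat.card_pos.ne') h

/-- The decomposition of a character. -/
theorem exists_coeff {f : A → ℂ} (hf : IsCharacter A f) :
    ∃ a : IrrCharacter A → ℕ, (∀ x, f x = ∑ η : IrrCharacter A, (a η : ℂ) * (η : A → ℂ) x) ∧
      ∑ x, f x = (Nat.card A : ℂ) * a (triv A) := by
  classical
  choose a ha using fun η : IrrCharacter A => classInner_char_nat hf (isCharacter_of_irr η.2)
  have hexp : ∀ x, f x = ∑ η : IrrCharacter A, (a η : ℂ) * (η : A → ℂ) x := fun x => by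
    conv_lhs => rw [eq_sum_irr (isClassFunction_char hf)]
    simp only [Finset.sum_apply, Pi.smul_apply, smul_eq_mul, ha]
  refine ⟨a, hexp, ?_⟩
  rw [← ha (triv A), classInner]
  simp only [triv_apply, map_one, mul_one]
  rw [← mul_assoc, mul_inv_cancel₀ (Nat.cast_ne_zero.2 Nat.card_pos.ne'), one_mul]

/-- The sum over a subgroup. -/
theorem sum_subgroup_coeff {f : A → ℂ} {a : IrrCharacter A → ℕ}
    (ha : ∀ x, f x = ∑ η : IrrCharacter A, (a η : ℂ) * (η : A → ℂ) x) (H : Subgroup A) [Fintype H]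
    (n : IrrCharacter A → ℕ) (hn : ∀ χ : IrrCharacter A, ∑ y : H, (χ : A → ℂ) y = (Nat.card H : ℂ) * n χ) :
    ∑ y : H, f y = (Nat.card H : ℂ) * ((∑ η, a η * n η : ℕ) : ℂ) := by
  simp only [ha]
  rw [Finset.sum_comm]
  push_cast
  rw [Finset.mul_sum]
  refine Finset.sum_congr rfl fun η _ => ?_
  rw [← Finset.mul_sum, hn η]
  ring

end

variable {G : Type u} [Group G] [Fintype G]

/-- The order of the product with a normalised subgroup meeting trivially. -/
theorem card_sup_of_disjoint {A B : Subgroup G} (hn : A ≤ Subgroup.normalizer (B : Set G)) (hd : A ⊓ B = ⊥) :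
    Nat.card (A ⊔ B : Subgroup G) = Nat.card A * Nat.card B := by
  rw [← Nat.card_prod]
  symm
  refine Nat.card_congr (Equiv.ofBijective (fun p : A × B => (⟨p.1.1 * p.2.1,
    mul_mem (Subgroup.mem_sup_left p.1.2) (Subgroup.mem_sup_right p.2.2)⟩ : (A ⊔ B : Subgroup G))) ⟨?_, ?_⟩)
  · intro p q h
    have h' : p.1.1 * p.2.1 = q.1.1 * q.2.1 := congrArg Subtype.val h
    have e : q.1.1⁻¹ * p.1.1 = q.2.1 * p.2.1⁻¹ := by
      calc q.1.1⁻¹ * p.1.1 = q.1.1⁻¹ * (p.1.1 * p.2.1) * p.2.1⁻¹ := by group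
        _ = q.2.1 * p.2.1⁻¹ := by rw [h']; group
    have h1 : q.1.1⁻¹ * p.1.1 = 1 := by
      have hm : q.1.1⁻¹ * p.1.1 ∈ A ⊓ B := Subgroup.mem_inf.2 ⟨mul_mem (inv_mem q.1.2) p.1.2,
        by rw [e]; exact mul_mem q.2.2 (inv_mem p.2.2)⟩
      rw [hd] at hm
      exact Subgroup.mem_bot.1 hm
    have e1 : p.1 = q.1 := Subtype.ext (inv_mul_eq_one.1 h1).symm
    refine Prod.ext e1 (Subtype.ext ?_)
    rw [e1] at h'
    exact mul_left_cancel h'
  · rintro ⟨z, hz⟩
    have hz' : z ∈ (↑(A ⊔ B) : Set G) := hz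
    rw [Subgroup.coe_mul_of_left_le_normalizer_right _ _ hn] at hz'
    obtain ⟨a, ha, b, hb, rfl⟩ := hz'
    exact ⟨(⟨a, ha⟩, ⟨b, hb⟩), rfl⟩

namespace Sixteen

variable (S : Sixteen G)

/-- A complement of order 360 is transitive on the involutions. -/
theorem transitive_of_complement (T : Tbl G) {D : Subgroup G} (hDN : D ≤ S.N) (hD : Nat.card D = 360)
    (hd : D ⊓ S.E = ⊥) : ∀ a ∈ S.E, ∀ b ∈ S.E, a ≠ 1 → b ≠ 1 → ∃ d ∈ D, d * a * d⁻¹ = b := by
  classical
  intro a ha b hb ha1 hb1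
  letI : MulAction D G := MulAction.compHom G ((MulAut.conj : G →* MulAut G).comp D.subtype)
  have hsmul : ∀ (g : D) (z : G), g • z = (g : G) * z * (g : G)⁻¹ := fun g z => rfl
  set O := MulAction.orbit D a with hO
  set I := D ⊓ Subgroup.centralizer ({a} : Set G) with hI
  have hstab : Nat.card (MulAction.stabilizer D a) = Nat.card I := by
    rw [← Nat.card_congr (Subgroup.subgroupOfEquivOfLe (inf_le_left : I ≤ D)).toEquiv]
    refine Nat.card_congr (Equiv.subtypeEquivRight fun g => ?_)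
    rw [MulAction.mem_stabilizer_iff, hsmul, mul_inv_eq_iff_eq_mul, Subgroup.mem_subgroupOf]
    exact ⟨fun h => ⟨g.2, Subgroup.mem_centralizer_singleton_iff.2 h⟩,
      fun h => Subgroup.mem_centralizer_singleton_iff.1 h.2⟩
  have hoc : Nat.card I * Nat.card O = 360 := by
    rw [← hD, ← hstab, hO, Nat.card_congr (MulAction.orbitEquivQuotientStabilizer D a)]
    exact (MulAction.stabilizer D a).card_mul_index
  have hIE : I ⊓ S.E = ⊥ := le_bot_iff.1 (hd ▸ inf_le_inf_right _ inf_le_left)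
  have hId : Nat.card I * 16 ∣ 2688 := by
    rw [← S.card, ← card_sup_of_disjoint ((inf_le_left : I ≤ D).trans hDN) hIE,
      ← T.cc_inv a (S.orderOf_mem ha ha1)]
    refine Subgroup.card_dvd_of_le (sup_le inf_le_right fun z hz => Subgroup.mem_centralizer_singleton_iff.2 ?_)
    exact S.comm z hz a ha
  have hI24 : Nat.card I ≤ 24 := by
    have h1 : Nat.card I ∣ 168 :=
      Nat.dvd_of_mul_dvd_mul_right (by norm_num : 0 < 16) (show Nat.card I * 16 ∣ 168 * 16 from hId)
    have h2 : Nat.card I ∣ 24 := (show Nat.gcd 360 168 = 24 by rfl) ▸ Nat.dvd_gcd (Dvd.intro _ hoc) h1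
    exact Nat.le_of_dvd (by norm_num) h2
  have hsub : O.toFinset ⊆ (S.E : Set G).toFinset.erase 1 := by
    intro z hz
    obtain ⟨g, rfl⟩ := Set.mem_toFinset.1 hz
    simp only [hsmul]
    refine Finset.mem_erase.2 ⟨fun h => ha1 ?_, Set.mem_toFinset.2 ((Subgroup.mem_normalizer_iff.1 (hDN g.2) a).1 ha)⟩
    rwa [mul_inv_eq_iff_eq_mul, one_mul, mul_eq_left] at h
  have heq := Finset.eq_of_subset_of_card_le hsub (by
    rw [Finset.card_erase_of_mem (Set.mem_toFinset.2 (one_mem S.E)), Set.toFinset_card, Set.toFinset_card,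
      ← Nat.card_eq_fintype_card, ← Nat.card_eq_fintype_card]
    change Nat.card S.E - 1 ≤ Nat.card O
    rw [S.card]
    nlinarith)
  have hbO : b ∈ O.toFinset := heq ▸ Finset.mem_erase.2 ⟨hb1, Set.mem_toFinset.2 hb⟩
  obtain ⟨g, hg⟩ := Set.mem_toFinset.1 hbO
  exact ⟨g, g.2, by rw [← hsmul]; exact hg⟩

/-- Fixed points of the product and of the complement in the representation of degree twenty-two. -/
theorem fix_two (hG : IsM23 G) (T : Tbl G) {D : Subgroup G} [Fintype D] [Fintype (D ⊔ S.E : Subgroup G)]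
    (hDN : D ≤ S.N) (hD : Nat.card D = 360) (hd : D ⊓ S.E = ⊥) :
    ∑ k : (D ⊔ S.E : Subgroup G), (T.χ 1 : G → ℂ) k = ((5760 * 2 : ℕ) : ℂ) ∧
      ∃ m ≤ 3, ∑ k : D, (T.χ 1 : G → ℂ) k = ((360 * m : ℕ) : ℂ) := by
  classical
  haveI := S.simple_Q hG T
  haveI : Fintype S.E' := Fintype.ofFinite _
  haveI : Fintype S.Q := Fintype.ofFinite _
  haveI : Fintype S.N := Fintype.ofFinite _
  set χ := (T.χ 1 : G → ℂ) with hχ
  have hχc : IsCharacter G χ := isCharacter_of_irr (T.χ 1).2
  set f := cosetAvg S.E' (fun g : S.N => χ g) with hf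
  have hfc : IsCharacter S.N f := isCharacter_cosetAvg S.E' (isCharacter_restrict hχc S.N)
  have hfk : ∀ e ∈ S.E', f e = f 1 := fun e he => by
    have := cosetAvg_mul_left S.E' (fun g : S.N => χ g) ⟨e, he⟩ 1
    rwa [mul_one] at this
  obtain ⟨dim, ρ, hρ⟩ := hfc
  have hlift : S.E' ≤ ρ.ker := fun e he => MonoidHom.mem_ker.2
    (rep_apply_eq_one_of_char_eq ρ (by rw [hρ]; exact hfk e he))
  let ρ' : Representation ℂ S.Q (Fin dim → ℂ) := QuotientGroup.lift S.E' ρ hlift
  set F := ρ'.character with hF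
  set π := QuotientGroup.mk' S.E' with hπ
  have hFf : ∀ g : S.N, F (π g) = f g := fun g => by rw [← hρ]; rfl
  obtain ⟨m, hm, hmsum⟩ := exists_coeff (isCharacter_character ρ')
  have hE16 : Nat.card S.E' = 16 := by
    rw [Nat.card_congr (Subgroup.subgroupOfEquivOfLe S.E_le).toEquiv, S.card]
  have havg : ∀ (H : Subgroup S.N) [Fintype H], S.E' ≤ H → ∑ k : H, f k = ∑ k : H, χ (k : S.N) := by
    intro H _ hEH
    simp only [hf, cosetAvg]
    rw [← Finset.mul_sum, Finset.sum_comm]
    have e : ∀ n : S.E', (∑ k : H, χ (((n : S.N) * (k : S.N) : S.N) : G)) = ∑ k : H, χ (k : S.N) := fun n =>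
      Fintype.sum_equiv (Equiv.mulLeft (⟨(n : S.N), hEH n.2⟩ : H)) _ _ fun k => rfl
    simp only [e, Finset.sum_const, Finset.card_univ, nsmul_eq_mul, Nat.card_eq_fintype_card]
    rw [← mul_assoc, inv_mul_cancel₀ (Nat.cast_ne_zero.2 Fintype.card_ne_zero), one_mul]
  have hpull : ∀ (H : Subgroup S.N) [Fintype H] [Fintype (H.map π)], S.E' ≤ H →
      ∑ k : H, χ (k : S.N) = 16 * ∑ q : H.map π, F q := by
    intro H _ _ hEH
    rw [← havg H hEH]
    simp only [← hFf]
    haveI : Fintype (π.comp H.subtype).range := Fintype.ofFinite _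
    have h := sum_comp_hom (π.comp H.subtype) F
    have hk : Nat.card (π.comp H.subtype).ker = 16 := by
      rw [← hE16, ← Nat.card_congr (Subgroup.subgroupOfEquivOfLe hEH).toEquiv]
      congr 2
      ext z
      rw [MonoidHom.mem_ker, Subgroup.mem_subgroupOf]
      exact QuotientGroup.eq_one_iff _
    rw [hk] at h
    push_cast at h
    refine h.trans ?_
    congr 1
    refine Fintype.sum_equiv (MulEquiv.subgroupCongr ?_).toEquiv _ _ fun q => rfl
    rw [MonoidHom.range_comp, Subgroup.range_subtype]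
  obtain ⟨-, -, h22⟩ := T.perm253 hG (H := S.N) S.card_norm
  -- the multiplicity of the trivial character
  have hmtriv : m (triv S.Q) = 1 := by
    haveI : Fintype ((⊤ : Subgroup S.N).map π) := Fintype.ofFinite _
    haveI : Fintype (⊤ : Subgroup S.N) := Fintype.ofFinite _
    have h := hpull ⊤ le_top
    have hl : ∑ k : (⊤ : Subgroup S.N), χ (k : S.N) = 40320 := by
      rw [← h22]
      exact Fintype.sum_equiv Subgroup.topEquiv.toEquiv _ _ fun k => rfl
    have hr : ∑ q : (⊤ : Subgroup S.N).map π, F q = ∑ q, F q := by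
      refine Fintype.sum_equiv ((MulEquiv.subgroupCongr ?_).trans Subgroup.topEquiv).toEquiv _ _ fun q => rfl
      rw [← MonoidHom.range_eq_map, MonoidHom.range_eq_top_of_surjective _ (QuotientGroup.mk'_surjective _)]
    rw [hl, hr, hmsum, S.card_Q] at h
    have h' : ((m (triv S.Q) : ℕ) : ℂ) = ((1 : ℕ) : ℂ) := by push_cast at h ⊢; linear_combination -h / 40320
    exact_mod_cast h'
  -- the degree
  have hF1 : F 1 = 7 := by
    rw [← map_one π, hFf, hf]
    simp only [cosetAvg, mul_one]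
    rw [← Finset.add_sum_erase _ _ (Finset.mem_univ (1 : S.E'))]
    have e : ∀ e ∈ Finset.univ.erase (1 : S.E'), χ ((e : S.N) : G) = 6 := fun e he => by
      rw [hχ, T.invRow _ (S.orderOf_mem (a := ((e : S.N) : G)) (Subgroup.mem_subgroupOf.1 e.2) fun h1 =>
        (Finset.mem_erase.1 he).1 (Subtype.ext (Subtype.ext h1))) 1]
      norm_num [tvals]
    rw [Finset.sum_congr rfl e, Finset.sum_const, Finset.card_erase_of_mem (Finset.mem_univ _), Finset.card_univ,
      ← Nat.card_eq_fintype_card, hE16, show χ ((((1 : S.E') : S.N)) : G) = 22 from by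
        rw [hχ]
        show (T.χ 1 : G → ℂ) 1 = 22
        rw [irr_degree, show charDegree (T.χ 1 : G → ℂ) = 22 from T.deg 1]
        norm_num]
    norm_num
  have hdeg : ∑ η, m η * dg η = 7 := by
    have h := hm 1
    change F 1 = _ at h
    rw [hF1] at h
    simp only [irr_degree] at h
    exact_mod_cast h.symm
  -- the value at an element of order five
  haveI : Fact (Nat.Prime 5) := ⟨by norm_num⟩
  obtain ⟨y, hyN, hy⟩ := exists_order (K := S.N) (by norm_num : Nat.Prime 5) (by rw [S.card_norm]; norm_num)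
  set yN : S.N := ⟨y, hyN⟩ with hyN'
  have hy5 : orderOf (π yN) = 5 := by
    refine orderOf_eq_prime ?_ fun h => ?_
    · rw [← map_pow, show yN ^ 5 = 1 from Subtype.ext (by show y ^ 5 = 1; rw [← hy, pow_orderOf_eq_one]), map_one]
    · have hyE : y ∈ S.E := Subgroup.mem_subgroupOf.1 ((QuotientGroup.eq_one_iff yN).1 h)
      have := S.orderOf_mem hyE fun e => by rw [e, orderOf_one] at hy; norm_num at hy
      omega
  have hFy : F (π yN) = 2 := by
    rw [hFf, hf]
    simp only [cosetAvg]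
    let σ : S.E' → S.E' := fun a => ⟨a * (yN * a⁻¹ * yN⁻¹), mul_mem a.2 (Subgroup.Normal.conj_mem inferInstance _ (inv_mem a.2) yN)⟩
    have hσ : Function.Bijective σ := Finite.injective_iff_bijective.1 fun a b hab => by
      have h : (a : S.N) * (yN * (a : S.N)⁻¹ * yN⁻¹) = (b : S.N) * (yN * (b : S.N)⁻¹ * yN⁻¹) := congrArg Subtype.val hab
      have hc : Commute ((b : S.N)⁻¹ * (a : S.N)) yN := by
        show (b : S.N)⁻¹ * a * yN = yN * ((b : S.N)⁻¹ * a)
        calc (b : S.N)⁻¹ * a * yN = (b : S.N)⁻¹ * ((a : S.N) * (yN * (a : S.N)⁻¹ * yN⁻¹)) * (yN * a) := by group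
          _ = (b : S.N)⁻¹ * ((b : S.N) * (yN * (b : S.N)⁻¹ * yN⁻¹)) * (yN * a) := by rw [h]
          _ = yN * ((b : S.N)⁻¹ * a) := by group
      have hmem : (((b : S.N)⁻¹ * a : S.N) : G) ∈ S.E := Subgroup.mem_subgroupOf.1 (mul_mem (inv_mem b.2) a.2)
      by_contra hne
      have h1 : (((b : S.N)⁻¹ * a : S.N) : G) ≠ 1 := fun e => hne (Subtype.ext
        (inv_mul_eq_one.1 (Subtype.ext e : (b : S.N)⁻¹ * a = 1)).symm)
      have := orderOf_dvd_five hG hy (g := (((b : S.N)⁻¹ * a : S.N) : G)) (congrArg Subtype.val hc.eq)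
      rw [S.orderOf_mem hmem h1] at this
      norm_num at this
    have e : ∀ a : S.E', χ (((σ a : S.N) * yN : S.N) : G) = 2 := fun a => by
      have hc : ((σ a : S.N) * yN : S.N) = (a : S.N) * yN * (a : S.N)⁻¹ := by
        show (a : S.N) * (yN * (a : S.N)⁻¹ * yN⁻¹) * yN = _
        group
      rw [hc, hχ]
      have := irr_of_isConj (T.χ 1) (isConj_iff.2 ⟨((a : S.N) : G), rfl⟩ :
        IsConj y (((a : S.N) : G) * y * ((a : S.N) : G)⁻¹))
      rw [← T.val22_five hG hy]
      exact this.symm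
    rw [← (Equiv.ofBijective σ hσ).sum_comp]
    simp only [Equiv.ofBijective_apply, e]
    rw [Finset.sum_const, Finset.card_univ, ← Nat.card_eq_fintype_card, hE16]
    norm_num
  have hmval : ∑ η : IrrCharacter S.Q, (m η : ℂ) * (η : S.Q → ℂ) (π yN) = 2 := (hm _).symm.trans hFy
  obtain ⟨ψ, hψ6, hψ⟩ := deg7_unique S.card_Q
  obtain ⟨hmψ, hm0⟩ := hψ m _ hy5 hmtriv hdeg hmval
  -- the product
  set K := D ⊔ S.E with hK
  have hKN : K ≤ S.N := sup_le hDN S.E_le
  have hKc : Nat.card K = 5760 := by rw [hK, card_sup_of_disjoint hDN hd, hD, S.card]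
  haveI : Fintype (K.subgroupOf S.N) := Fintype.ofFinite _
  set R := (K.subgroupOf S.N).map π with hR
  haveI : Fintype R := Fintype.ofFinite _
  have hEK : S.E' ≤ K.subgroupOf S.N := fun e he => Subgroup.mem_subgroupOf.2
    (Subgroup.mem_sup_right (Subgroup.mem_subgroupOf.1 he))
  have hRi : R.index = 7 := by
    rw [hR, Subgroup.index_map_eq _ (QuotientGroup.mk'_surjective _) (by rw [QuotientGroup.ker_mk']; exact hEK)]
    have h := (K.subgroupOf S.N).card_mul_index
    rw [Nat.card_congr (Subgroup.subgroupOfEquivOfLe hKN).toEquiv, hKc, S.card_norm] at h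
    omega
  have hRc : Nat.card R = 360 := by
    have h := R.card_mul_index
    rw [hRi, S.card_Q] at h
    omega
  choose n hn using exists_fix_mult R
  have hntriv : n (triv S.Q) = 1 := by
    have h := hn (triv S.Q)
    simp only [triv_apply] at h
    rw [Finset.sum_const, Finset.card_univ, ← Nat.card_eq_fintype_card, nsmul_eq_mul] at h
    exact_mod_cast (mul_left_cancel₀ (Nat.cast_ne_zero.2 Nat.card_pos.ne') h).symm
  obtain ⟨hnψ, hn0⟩ := hψ n _ hy5 hntriv (perm_deg R n hn hRi) (perm_val S.card_Q R n hn hRi hy5)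
  have hψt : ψ ≠ triv S.Q := fun e => by rw [e, dg_triv] at hψ6; norm_num at hψ6
  have hmn : ∑ η, m η * n η = 2 := by
    rw [← Finset.add_sum_erase _ _ (Finset.mem_univ (triv S.Q)),
      ← Finset.add_sum_erase _ _ (Finset.mem_erase.2 ⟨hψt, Finset.mem_univ ψ⟩), hmtriv, hntriv, hmψ, hnψ,
      Finset.sum_eq_zero fun η hη => by
        rw [Finset.mem_erase, Finset.mem_erase] at hη
        rw [hm0 η hη.2.1 hη.1, zero_mul]]
    all_goals norm_num
  have hsumK : ∑ k : K, χ k = ((5760 * 2 : ℕ) : ℂ) := by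
    have h := hpull (K.subgroupOf S.N) hEK
    have h1 : ∑ k : K.subgroupOf S.N, χ (k : S.N) = ∑ k : K, χ k :=
      Fintype.sum_equiv (Subgroup.subgroupOfEquivOfLe hKN).toEquiv _ _ fun k => rfl
    rw [h1, sum_subgroup_coeff hm R n hn, hRc, hmn] at h
    rw [h]
    norm_num
  refine ⟨by convert hsumK, ?_⟩
  -- the complement
  set D' := D.subgroupOf K with hD'
  have hDK : D ≤ K := le_sup_left
  haveI : Fintype D' := Fintype.ofFinite _
  obtain ⟨a, ha, hasum⟩ := exists_coeff (isCharacter_restrict hχc K)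
  choose r hr using exists_fix_mult D'
  have hD'c : Nat.card D' = 360 := by rw [Nat.card_congr (Subgroup.subgroupOfEquivOfLe hDK).toEquiv, hD]
  have hD'i : D'.index = 16 := by
    have h := D'.card_mul_index
    rw [hD'c, hKc] at h
    omega
  have hrtriv : r (triv K) = 1 := by
    have h := hr (triv K)
    simp only [triv_apply] at h
    rw [Finset.sum_const, Finset.card_univ, ← Nat.card_eq_fintype_card, nsmul_eq_mul] at h
    exact_mod_cast (mul_left_cancel₀ (Nat.cast_ne_zero.2 Nat.card_pos.ne') h).symm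
  have horb : Nat.card (MulAction.orbitRel.Quotient D' (K ⧸ D')) ≤ 2 := by
    obtain ⟨e0, he0, he01, -⟩ := S.exists_ne 1
    let q : Bool → MulAction.orbitRel.Quotient D' (K ⧸ D') := fun b =>
      Quotient.mk _ (if b then QuotientGroup.mk (1 : K) else QuotientGroup.mk (⟨e0, Subgroup.mem_sup_right he0⟩ : K))
    have hq : Function.Surjective q := by
      intro o
      obtain ⟨c, rfl⟩ := Quotient.exists_rep o
      obtain ⟨⟨k, hk⟩, rfl⟩ := QuotientGroup.mk_surjective c
      have hk' : k ∈ (↑(D ⊔ S.E) : Set G) := hk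
      rw [Subgroup.coe_mul_of_left_le_normalizer_right _ _ hDN] at hk'
      obtain ⟨d, hdD, e, he, rfl⟩ := hk'
      by_cases he1 : e = 1
      · refine ⟨true, Quotient.sound (MulAction.orbitRel_apply.2 ⟨⟨⟨d⁻¹, hDK (inv_mem hdD)⟩, inv_mem hdD⟩, ?_⟩)⟩
        show QuotientGroup.mk ((⟨d⁻¹, hDK (inv_mem hdD)⟩ : K) * ⟨d * e, hk⟩) = QuotientGroup.mk (1 : K)
        congr 1
        refine Subtype.ext ?_
        show d⁻¹ * (d * e) = 1
        rw [he1, mul_one, inv_mul_cancel]
      · obtain ⟨d2, hd2, hd2e⟩ := S.transitive_of_complement T hDN hD hd e he e0 he0 he1 he01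
        refine ⟨false, Quotient.sound (MulAction.orbitRel_apply.2
          ⟨⟨⟨d2 * d⁻¹, hDK (mul_mem hd2 (inv_mem hdD))⟩, mul_mem hd2 (inv_mem hdD)⟩, ?_⟩)⟩
        show QuotientGroup.mk ((⟨d2 * d⁻¹, _⟩ : K) * ⟨d * e, hk⟩) =
          QuotientGroup.mk (⟨e0, Subgroup.mem_sup_right he0⟩ : K)
        refine QuotientGroup.eq.2 (Subgroup.mem_subgroupOf.2 ?_)
        show (d2 * d⁻¹ * (d * e))⁻¹ * e0 ∈ D
        rw [← hd2e, show (d2 * d⁻¹ * (d * e))⁻¹ * (d2 * e * d2⁻¹) = d2⁻¹ by group]
        exact inv_mem hd2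
    have h := Nat.card_le_card_of_surjective q hq
    rwa [Nat.card_eq_fintype_card (α := Bool), Fintype.card_bool] at h
  rw [CfsgSimpleM22.card_orbits_cosets D' r hr] at horb
  have hrdeg : ∑ η, r η * dg η = 16 := perm_deg_gen D' r hr hD'i
  have hnz : ∃ ξ, ξ ≠ triv K ∧ r ξ ≠ 0 := by
    by_contra hno
    push Not at hno
    rw [← Finset.add_sum_erase _ _ (Finset.mem_univ (triv K)), hrtriv, dg_triv,
      Finset.sum_eq_zero fun η hη => by rw [hno η (Finset.mem_erase.1 hη).1, zero_mul]] at hrdeg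
    norm_num at hrdeg
  obtain ⟨ξ, hξt, hξ⟩ := hnz
  rw [← Finset.add_sum_erase _ _ (Finset.mem_univ (triv K)),
    ← Finset.add_sum_erase _ _ (Finset.mem_erase.2 ⟨hξt, Finset.mem_univ ξ⟩), hrtriv] at horb
  have hξ1 : r ξ = 1 := by
    have : r ξ ^ 2 ≤ 1 := by omega
    have : r ξ ≤ 1 := by nlinarith
    omega
  have hr0 : ∀ η, η ≠ triv K → η ≠ ξ → r η = 0 := by
    rw [hξ1] at horb
    have h0 : ∑ η ∈ (Finset.univ.erase (triv K)).erase ξ, r η ^ 2 = 0 := by omega
    intro η h1 h2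
    have := (Finset.sum_eq_zero_iff.1 h0) η (Finset.mem_erase.2 ⟨h2, Finset.mem_erase.2 ⟨h1, Finset.mem_univ η⟩⟩)
    exact pow_eq_zero_iff two_ne_zero |>.1 this
  rw [← Finset.add_sum_erase _ _ (Finset.mem_univ (triv K)),
    ← Finset.add_sum_erase _ _ (Finset.mem_erase.2 ⟨hξt, Finset.mem_univ ξ⟩), hrtriv, hξ1, dg_triv,
    Finset.sum_eq_zero fun η hη => by
      rw [Finset.mem_erase, Finset.mem_erase] at hη
      rw [hr0 η hη.2.1 hη.1, zero_mul]] at hrdeg
  have haξ : a ξ ≤ 1 := by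
    have h := ha 1
    simp only [irr_degree] at h
    have h' : ∑ η, a η * dg η = 22 := by
      rw [show χ ((1 : K) : G) = 22 from by
        rw [hχ, OneMemClass.coe_one, irr_degree, show charDegree (T.χ 1 : G → ℂ) = 22 from T.deg 1]
        norm_num] at h
      exact_mod_cast h.symm
    have h1 := Finset.single_le_sum (f := fun η => a η * dg η) (fun _ _ => Nat.zero_le _) (Finset.mem_univ ξ)
    rw [h', show dg ξ = 15 by omega] at h1
    omega
  have hatriv : a (triv K) = 2 := by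
    rw [hsumK, hKc] at hasum
    have h' : ((5760 * 2 : ℕ) : ℂ) = ((5760 * a (triv K) : ℕ) : ℂ) := by push_cast at hasum ⊢; exact hasum
    have h'' : 5760 * 2 = 5760 * a (triv K) := by exact_mod_cast h'
    omega
  refine ⟨∑ η, a η * r η, ?_, ?_⟩
  · rw [← Finset.add_sum_erase _ _ (Finset.mem_univ (triv K)),
      ← Finset.add_sum_erase _ _ (Finset.mem_erase.2 ⟨hξt, Finset.mem_univ ξ⟩), hrtriv, hξ1, hatriv,
      Finset.sum_eq_zero fun η hη => by
        rw [Finset.mem_erase, Finset.mem_erase] at hη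
        rw [hr0 η hη.2.1 hη.1, mul_zero]]
    omega
  · have h := sum_subgroup_coeff ha D' r hr
    rw [hD'c] at h
    rw [Nat.cast_mul, ← h]
    exact (Fintype.sum_equiv (Subgroup.subgroupOfEquivOfLe hDK).toEquiv _ _ fun k => rfl).symm

end Sixteen

/-- The dimension of the fixed space of a subgroup. -/
theorem finrank_invariants {d : ℕ} (ρ : Representation ℂ G (Fin d → ℂ)) (H : Subgroup G) [Fintype H] {s : ℕ}
    (h : ∑ k : H, ρ.character (k : G) = (s : ℂ)) :
    Nat.card H * Module.finrank ℂ (Representation.invariants (ρ.comp H.subtype : Representation ℂ H (Fin d → ℂ))) = s := by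
  let σ : Representation ℂ H (Fin d → ℂ) := ρ.comp H.subtype
  haveI : Invertible (Nat.card H : ℂ) := invertibleOfNonzero (Nat.cast_ne_zero.2 Nat.card_pos.ne')
  have hh := σ.card_inv_mul_sum_char_eq_finrank
  rw [inv_mul_eq_iff_eq_mul₀ (Nat.cast_ne_zero.2 Nat.card_pos.ne')] at hh
  have : ((Nat.card H * Module.finrank ℂ σ.invariants : ℕ) : ℂ) = (s : ℂ) := by
    rw [Nat.cast_mul, ← hh, ← h]
    rfl
  exact_mod_cast this

theorem relIndex_bound {H K M D : Subgroup G} (hK : K ≤ M) (hH : H ≤ M) (h : K ⊓ H ≤ D) :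
    Nat.card H * Nat.card K ≤ Nat.card D * Nat.card M := by
  have h1 : K.relIndex H ≤ K.relIndex M := Subgroup.relIndex_le_of_le_right hH
    (Subgroup.index_ne_zero_of_finite (H := K.subgroupOf M))
  have e1 : Nat.card (K ⊓ H : Subgroup G) * K.relIndex H = Nat.card H := by
    have := (K.subgroupOf H).card_mul_index
    rwa [← Subgroup.inf_subgroupOf_right, Nat.card_congr (Subgroup.subgroupOfEquivOfLe inf_le_right).toEquiv,
      Subgroup.inf_subgroupOf_right] at this
  have e2 : Nat.card K * K.relIndex M = Nat.card M := by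
    have := (K.subgroupOf M).card_mul_index
    rwa [Nat.card_congr (Subgroup.subgroupOfEquivOfLe hK).toEquiv] at this
  calc Nat.card H * Nat.card K = Nat.card (K ⊓ H : Subgroup G) * K.relIndex H * Nat.card K := by rw [e1]
    _ ≤ Nat.card D * K.relIndex M * Nat.card K :=
        Nat.mul_le_mul_right _ (Nat.mul_le_mul (Subgroup.card_le_of_le h) h1)
    _ = Nat.card D * Nat.card M := by rw [← e2]; ring

/-- A subgroup of index twenty-three meeting the normaliser in the product of a complement with the subgroup. -/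
theorem exists_index23 (hG : IsM23 G) (T : Tbl G) (S : Sixteen G) :
    ∃ M : Subgroup G, M.index = 23 ∧ S.E ≤ M ∧ Nat.card (M ⊓ S.N : Subgroup G) = 5760 := by
  classical
  obtain ⟨⟨g, hg⟩, htriv⟩ := Sixteen.suborbit hG T S
  set D := meet S.N g with hDdef
  have hDN : D ≤ S.N := inf_le_left
  have hd : D ⊓ S.E = ⊥ := htriv g hg
  set c := (MulAut.conj g).toMonoidHom with hc
  have hcinj : Function.Injective c := (MulAut.conj g).injective
  set D2 := meet S.N g⁻¹ with hD2def
  have hD2map : D2.map c = D := by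
    rw [hD2def, hDdef, meet, meet, Subgroup.map_inf _ _ _ hcinj, Subgroup.map_map,
      show (c.comp (MulAut.conj g⁻¹).toMonoidHom) = MonoidHom.id G from MonoidHom.ext fun x => by
        show g * (g⁻¹ * x * g⁻¹⁻¹) * g⁻¹ = x
        group, Subgroup.map_id, inf_comm]
  have hD2c : Nat.card D2 = 360 := by rw [← hg, ← hD2map, Subgroup.card_map_of_injective hcinj]
  have hD2N : D2 ≤ S.N := inf_le_left
  have hd2 : D2 ⊓ S.E = ⊥ := htriv g⁻¹ hD2c
  haveI : Fintype D := Fintype.ofFinite _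
  haveI : Fintype D2 := Fintype.ofFinite _
  haveI : Fintype (D ⊔ S.E : Subgroup G) := Fintype.ofFinite _
  haveI : Fintype (D2 ⊔ S.E : Subgroup G) := Fintype.ofFinite _
  obtain ⟨hK, m, hm3, hDs⟩ := S.fix_two hG T hDN hg hd
  obtain ⟨hK2, -⟩ := S.fix_two hG T hD2N hD2c hd2
  set K := D ⊔ S.E with hKdef
  set K' := (D2 ⊔ S.E).map c with hK'def
  haveI : Fintype K' := Fintype.ofFinite _
  obtain ⟨d, ρ, hirr, hρ⟩ := (T.χ 1).2
  have hρx : ∀ x, ρ.character x = (T.χ 1 : G → ℂ) x := fun x => by rw [← hρ]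
  have hDK : D ≤ K := le_sup_left
  have hDK' : D ≤ K' := hD2map ▸ Subgroup.map_mono le_sup_left
  have hKc : Nat.card K = 5760 := by rw [hKdef, card_sup_of_disjoint hDN hd, hg, S.card]
  have hK2c : Nat.card (D2 ⊔ S.E : Subgroup G) = 5760 := by rw [card_sup_of_disjoint hD2N hd2, hD2c, S.card]
  have hK'c : Nat.card K' = 5760 := by rw [hK'def, Subgroup.card_map_of_injective hcinj, hK2c]
  have fK := finrank_invariants ρ K (s := 5760 * 2) (by simp only [hρx]; convert hK)
  have fK' := finrank_invariants ρ K' (s := 5760 * 2) (by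
    simp only [hρx]
    rw [← hK2]
    symm
    refine Fintype.sum_equiv ((D2 ⊔ S.E).equivMapOfInjective c hcinj).toEquiv _ _ fun k => ?_
    exact irr_of_isConj (T.χ 1) (isConj_iff.2 ⟨g, rfl⟩))
  have fD := finrank_invariants ρ D (s := 360 * m) (by simp only [hρx]; exact hDs)
  rw [hKc] at fK; rw [hK'c] at fK'; rw [hg] at fD
  set A := Representation.invariants (ρ.comp K.subtype : Representation ℂ K (Fin d → ℂ)) with hA
  set B := Representation.invariants (ρ.comp K'.subtype : Representation ℂ K' (Fin d → ℂ)) with hB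
  set C := Representation.invariants (ρ.comp D.subtype : Representation ℂ D (Fin d → ℂ)) with hC
  have hAC : A ≤ C := fun x hx k => hx ⟨k, hDK k.2⟩
  have hBC : B ≤ C := fun x hx k => hx ⟨k, hDK' k.2⟩
  have h1 := Submodule.finrank_sup_add_finrank_inf_eq A B
  have h2 := Submodule.finrank_mono (sup_le hAC hBC)
  obtain ⟨v, hv, hv0⟩ := (Submodule.ne_bot_iff (A ⊓ B)).1 fun e => by
    rw [e, finrank_bot] at h1; omega
  let M : Subgroup G :=
    { carrier := {x | ρ x v = v}
      one_mem' := by simp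
      mul_mem' := fun {a b} (ha : ρ a v = v) (hb : ρ b v = v) => by
        show ρ (a * b) v = v
        rw [map_mul, Module.End.mul_apply, hb, ha]
      inv_mem' := fun {a} (ha : ρ a v = v) => by
        show ρ a⁻¹ v = v
        conv_lhs => rw [← ha, ← Module.End.mul_apply, ← map_mul, inv_mul_cancel, map_one, Module.End.one_apply] }
  have hKM : K ≤ M := fun k hk => hv.1 ⟨k, hk⟩
  have hK'M : K' ≤ M := fun k hk => hv.2 ⟨k, hk⟩
  have hMne : M ≠ ⊤ := fun e => by
    haveI : Fintype (⊤ : Subgroup G) := Fintype.ofFinite _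
    have hz := finrank_invariants ρ ⊤ (s := 0) (by
      simp only [hρx]
      have hne : T.χ 1 ≠ triv G := fun e => by rw [← T.first] at e; exact absurd (T.bij.1 e) (by decide)
      have h := classInner_irr_ne (T.χ 1).2 (triv G).2 (fun e => hne (Subtype.ext e))
      simp only [classInner, triv_apply, map_one, mul_one, mul_eq_zero, inv_eq_zero, Nat.cast_eq_zero,
        Nat.card_pos.ne', false_or] at h
      rw [Nat.cast_zero, ← h]
      exact Fintype.sum_equiv Subgroup.topEquiv.toEquiv _ _ fun k => rfl)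
    have h0 := (Nat.mul_eq_zero.1 hz).resolve_left Nat.card_pos.ne'
    have hmem : v ∈ Representation.invariants (ρ.comp (⊤ : Subgroup G).subtype : Representation ℂ _ (Fin d → ℂ)) := by
      intro x
      exact (show (x : G) ∈ M by rw [e]; exact Subgroup.mem_top _)
    rw [Submodule.finrank_eq_zero.1 h0] at hmem
    exact hv0 ((Submodule.mem_bot ℂ).1 hmem)
  -- the order
  have hint : ∀ {H : Subgroup G}, H ≤ S.N → H ⊓ K' ≤ D := by
    intro H hH z hz
    refine Subgroup.mem_inf.2 ⟨hH hz.1, ?_⟩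
    obtain ⟨w, hw, rfl⟩ := hz.2
    exact ⟨w, (sup_le hD2N S.E_le) hw, rfl⟩
  have hKN : K ≤ S.N := sup_le hDN S.E_le
  have hbig : 92160 ≤ Nat.card M := by
    have h := relIndex_bound hKM hK'M (hint hKN)
    rw [hK'c, hKc, hg] at h
    omega
  have hdvd : 5760 ∣ Nat.card M := hKc ▸ Subgroup.card_dvd_of_le hKM
  have hmi := M.card_mul_index
  rw [card_eq hG] at hmi
  have h23 := index_ge hG hMne
  have hidx : M.index = 23 ∨ M.index = 77 := by
    obtain ⟨k, hk⟩ := hdvd
    rw [hk] at hmi hbig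
    have hki : k * M.index = 1771 := by
      rw [mul_assoc] at hmi
      omega
    have hd : M.index ∣ 1771 := Dvd.intro_left _ hki
    have hle : M.index ≤ 110 := by nlinarith
    have key : ∀ i < 111, 1771 % i = 0 → i < 23 ∨ i = 23 ∨ i = 77 := by decide +kernel
    rcases key _ (by omega) (Nat.mod_eq_zero_of_dvd hd) with h | h | h
    · omega
    · exact Or.inl h
    · exact Or.inr h
  refine ⟨M, hidx.resolve_right fun h77 => ?_, le_sup_right.trans hKM, ?_⟩
  · haveI := Fintype.ofFinite M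
    choose n hn using exists_fix_mult M
    have hMc : Nat.card M = 132480 := by rw [h77] at hmi; omega
    have htriv' : n (triv G) = 1 := by
      have h := hn (triv G)
      simp only [triv_apply] at h
      rw [Finset.sum_const, Finset.card_univ, ← Nat.card_eq_fintype_card, nsmul_eq_mul] at h
      exact_mod_cast (mul_left_cancel₀ (Nat.cast_ne_zero.2 Nat.card_pos.ne') h).symm
    have hdeg := perm_deg_gen M n hn h77
    rw [← Equiv.sum_comp (Equiv.ofBijective T.χ T.bij)] at hdeg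
    simp only [Equiv.ofBijective_apply, T.deg, sum17, D17, Matrix.cons_val] at hdeg
    rw [T.first, htriv'] at hdeg
    generalize n (T.χ 1) = a, n (T.χ 2) = b, n (T.χ 3) = b', n (T.χ 4) = c, n (T.χ 5) = d, n (T.χ 6) = d',
      n (T.χ 7) = d'', n (T.χ 8) = z8, n (T.χ 9) = z9, n (T.χ 10) = z10, n (T.χ 11) = z11, n (T.χ 12) = z12,
      n (T.χ 13) = z13, n (T.χ 14) = z14, n (T.χ 15) = z15, n (T.χ 16) = z16 at hdeg
    obtain ⟨rfl, rfl, rfl, rfl, rfl, rfl, rfl, rfl, rfl⟩ : z8 = 0 ∧ z9 = 0 ∧ z10 = 0 ∧ z11 = 0 ∧ z12 = 0 ∧ z13 = 0 ∧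
        z14 = 0 ∧ z15 = 0 ∧ z16 = 0 := by omega
    obtain ⟨rfl, rfl, rfl, rfl⟩ : c = 0 ∧ d = 0 ∧ d' = 0 ∧ d'' = 0 := by omega
    obtain ⟨ha, hb⟩ : a ≤ 3 ∧ b + b' ≤ 1 := by omega
    interval_cases a <;> omega
  · have hle : K ≤ M ⊓ S.N := le_inf hKM hKN
    have hne : ¬ S.N ≤ M := fun hNM => by
      have h := relIndex_bound hK'M hNM (show K' ⊓ S.N ≤ D by rw [inf_comm]; exact hint le_rfl)
      rw [hK'c, S.card_norm, hg] at h
      have := card_subgroup_le hG hMne
      omega
    obtain ⟨k, hk⟩ : 5760 ∣ Nat.card (M ⊓ S.N : Subgroup G) := hKc ▸ Subgroup.card_dvd_of_le hle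
    have h7 : k ∣ 7 := by
      have hdv : Nat.card (M ⊓ S.N : Subgroup G) ∣ 5760 * 7 :=
        (Subgroup.card_dvd_of_le inf_le_right).trans S.card_norm.dvd
      rw [hk] at hdv
      exact Nat.dvd_of_mul_dvd_mul_left (by norm_num) hdv
    rcases (Nat.dvd_prime (by norm_num : Nat.Prime 7)).1 h7 with e | e
    · rw [hk, e]
    · exfalso
      refine hne (fun z hz => ?_)
      have heq : M ⊓ S.N = S.N := Subgroup.eq_of_le_of_card_ge inf_le_right (by rw [hk, e, S.card_norm])
      exact (heq.symm ▸ hz : z ∈ M ⊓ S.N).1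

end CfsgSimpleM23
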