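/-
A simple group of order 10200960 acts on a Steiner system S(4, 7, 23).
-/
import Cfsg.Agent.Lib.SimpleM23.Fix
import Cfsg.Agent.Lib.GolayUnique.Model

set_option autoImplicit false
set_option linter.style.haveILetI false
set_option linter.unusedSectionVars false

namespace CfsgSimpleM23

open Cfsg CfsgLib.CharTheory CfsgSimpleM11 MulAction
open CfsgSimpleM22 (cc)
open scoped Pointwise

universe u
variable {G : Type u} [Group G] [Fintype G]

/-- The conjugates of an element inside a subgroup. -/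
theorem card_conj_mem_le (M : Subgroup G) (y : G) :
    Nat.card {h : G // h⁻¹ * y * h ∈ M} ≤ Nat.card M * cc y := by
  classical
  set r : G → G := Function.invFun fun h => h⁻¹ * y * h with hr
  have hspec : ∀ h : G, (r (h⁻¹ * y * h))⁻¹ * y * r (h⁻¹ * y * h) = h⁻¹ * y * h := fun h =>
    Function.invFun_eq (f := fun h => h⁻¹ * y * h) ⟨h, rfl⟩
  have hcen : ∀ h : G, h * (r (h⁻¹ * y * h))⁻¹ ∈ Subgroup.centralizer ({y} : Set G) := fun h => by
    refine Subgroup.mem_centralizer_singleton_iff.2 ?_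
    have e := hspec h
    generalize r (h⁻¹ * y * h) = h0 at e ⊢
    calc h * h0⁻¹ * y = h * (h0⁻¹ * y * h0) * h0⁻¹ := by group
      _ = h * (h⁻¹ * y * h) * h0⁻¹ := by rw [e]
      _ = y * (h * h0⁻¹) := by group
  show _ ≤ Nat.card M * Nat.card (Subgroup.centralizer ({y} : Set G))
  rw [← Nat.card_prod]
  refine Nat.card_le_card_of_injective (fun h : {h : G // h⁻¹ * y * h ∈ M} =>
    ((⟨_, h.2⟩, ⟨_, hcen h.1⟩) : M × Subgroup.centralizer ({y} : Set G))) ?_
  rintro ⟨a, ha⟩ ⟨b, hb⟩ h
  obtain ⟨h1, h2⟩ := Prod.mk.inj h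
  have e1 : a⁻¹ * y * a = b⁻¹ * y * b := congrArg Subtype.val h1
  have e2 : a * (r (a⁻¹ * y * a))⁻¹ = b * (r (b⁻¹ * y * b))⁻¹ := congrArg Subtype.val h2
  rw [e1] at e2
  exact Subtype.ext (mul_right_cancel e2)

theorem cc_eleven_le (hG : IsM23 G) {y : G} (hy : orderOf y = 11) : cc y ≤ 11 := by
  haveI : Fact (Nat.Prime 11) := ⟨by norm_num⟩
  obtain ⟨P, hP⟩ := (IsPGroup.of_card (n := 1) (by rw [Nat.card_zpowers, hy, pow_one]) :
    IsPGroup 11 (Subgroup.zpowers y)).exists_le_sylow
  have hcard : Nat.card P = 11 := card_sylow_prime hG (by decide) P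
  have hy1 : y ≠ 1 := fun e => by rw [e, orderOf_one] at hy; norm_num at hy
  obtain ⟨-, -, hC⟩ := eleven hG P
  show Nat.card (Subgroup.centralizer ({y} : Set G)) ≤ 11
  rw [(CfsgLib.Blocks.DefectOne.setup_sylow P hcard).star y (hP (Subgroup.mem_zpowers y)) hy1, hC]
  exact hcard.le

/-- Involutions fix seven of twenty-three cosets. -/
theorem Tbl.fix_seven (T : Tbl G) (hG : IsM23 G) {M : Subgroup G} (hidx : M.index = 23) {t : G}
    (ht : orderOf t = 2) : Nat.card {Q : G ⧸ M // t • Q = Q} = 7 := by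
  classical
  haveI := Fintype.ofFinite M
  choose n hn using exists_fix_mult M
  have hM0 : (Nat.card M : ℂ) ≠ 0 := Nat.cast_ne_zero.2 Nat.card_pos.ne'
  have htriv : n (triv G) = 1 := by
    have h := hn (triv G)
    simp only [triv_apply] at h
    rw [Finset.sum_const, Finset.card_univ, ← Nat.card_eq_fintype_card, nsmul_eq_mul] at h
    exact_mod_cast (mul_left_cancel₀ hM0 h).symm
  have hdeg := perm_deg_gen M n hn hidx
  rw [← Equiv.sum_comp (Equiv.ofBijective T.χ T.bij)] at hdeg
  simp only [Equiv.ofBijective_apply, T.deg, sum17, D17, Matrix.cons_val] at hdeg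
  rw [T.first, htriv] at hdeg
  have h := mult_column M n hn t
  rw [card_conj_mem M t, ← Equiv.sum_comp (Equiv.ofBijective T.χ T.bij)] at h
  simp only [Equiv.ofBijective_apply, T.invRow t ht, map_intCast, sum17] at h
  rw [T.first, htriv] at h
  generalize n (T.χ 1) = a, n (T.χ 2) = b, n (T.χ 3) = b', n (T.χ 4) = c, n (T.χ 5) = d, n (T.χ 6) = d',
    n (T.χ 7) = d'', n (T.χ 8) = z8, n (T.χ 9) = z9, n (T.χ 10) = z10, n (T.χ 11) = z11, n (T.χ 12) = z12,
    n (T.χ 13) = z13, n (T.χ 14) = z14, n (T.χ 15) = z15, n (T.χ 16) = z16 at hdeg h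
  obtain ⟨rfl, rfl, rfl, rfl, rfl, rfl, rfl, rfl, rfl⟩ : z8 = 0 ∧ z9 = 0 ∧ z10 = 0 ∧ z11 = 0 ∧ z12 = 0 ∧ z13 = 0 ∧
      z14 = 0 ∧ z15 = 0 ∧ z16 = 0 := by omega
  obtain ⟨rfl, rfl, rfl, rfl, rfl, rfl, rfl⟩ : a = 1 ∧ b = 0 ∧ b' = 0 ∧ c = 0 ∧ d = 0 ∧ d' = 0 ∧ d'' = 0 := by omega
  simp only [tvals, Matrix.cons_val] at h
  push_cast at h
  have h' : (Nat.card {Q : G ⧸ M // t • Q = Q} : ℂ) * Nat.card M = (7 : ℕ) * Nat.card M := by
    push_cast
    linear_combination -h
  exact_mod_cast mul_right_cancel₀ hM0 h'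

open scoped Classical in
/-- A seven point set with the normaliser as stabiliser. -/
theorem exists_block (hG : IsM23 G) (T : Tbl G) (S : Sixteen G) :
    ∃ (M : Subgroup G) (B : Finset (G ⧸ M)),
      M.index = 23 ∧ B.card = 7 ∧ stabilizer G B = S.N := by
  classical
  obtain ⟨M, hidx, hEM, hMN⟩ := exists_index23 hG T S
  haveI := Fintype.ofFinite (G ⧸ M)
  set p : (G ⧸ M) := QuotientGroup.mk (1 : G) with hp
  have hMst : stabilizer G p = M := MulAction.stabilizer_quotient _
  set B : Finset (G ⧸ M) := (orbit S.N p).toFinset with hB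
  have hB7 : B.card = 7 := by
    rw [hB, Set.toFinset_card, ← Nat.card_eq_fintype_card, Nat.card_coe_set_eq, ← index_stabilizer]
    have h := (stabilizer S.N p).card_mul_index
    have e : stabilizer S.N p = (M ⊓ S.N).subgroupOf S.N := by
      rw [Subgroup.inf_subgroupOf_right]
      refine Subgroup.ext fun z => ?_
      exact (mem_stabilizer_iff (G := G) (g := (z : G)) (a := p)).symm.trans (by rw [hMst, Subgroup.mem_subgroupOf])
    rw [S.card_norm, e, Nat.card_congr (Subgroup.subgroupOfEquivOfLe inf_le_right).toEquiv, hMN] at h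
    rw [e]
    omega
  have hfix : ∀ q ∈ B, ∀ e ∈ S.E, e • q = q := by
    intro q hq e he
    obtain ⟨⟨n, hn⟩, rfl⟩ := Set.mem_toFinset.1 hq
    show e • n • p = n • p
    have he' : n⁻¹ * e * n⁻¹⁻¹ ∈ S.E := (Subgroup.mem_normalizer_iff.1 (inv_mem hn) e).1 he
    have h1 : (n⁻¹ * e * n⁻¹⁻¹) • p = p := mem_stabilizer_iff.1 (hMst.symm ▸ hEM he')
    calc e • n • p = n • ((n⁻¹ * e * n⁻¹⁻¹) • p) := by simp only [← mul_smul]; congr 1; group
      _ = n • p := by rw [h1]
  have hFix : ∀ e ∈ S.E, e ≠ 1 → ∀ q, e • q = q → q ∈ B := by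
    intro e he he1 q hq
    have hsub : B ⊆ Finset.univ.filter fun q => e • q = q := fun q hq => Finset.mem_filter.2
      ⟨Finset.mem_univ _, hfix q hq e he⟩
    rw [Finset.eq_of_subset_of_card_le hsub (by
      rw [hB7, ← Fintype.card_subtype, ← Nat.card_eq_fintype_card, T.fix_seven hG hidx (S.orderOf_mem he he1)])]
    exact Finset.mem_filter.2 ⟨Finset.mem_univ _, hq⟩
  refine ⟨M, B, hidx, hB7, ?_⟩
  have hNle : S.N ≤ stabilizer G B := by
    intro n hn
    refine mem_stabilizer_iff.2 (Finset.eq_of_subset_of_card_le ?_ (by rw [Finset.card_smul_finset]))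
    intro q hq
    obtain ⟨q', hq', rfl⟩ := Finset.mem_smul_finset.1 hq
    obtain ⟨m, rfl⟩ := Set.mem_toFinset.1 hq'
    exact Set.mem_toFinset.2 ⟨⟨n, hn⟩ * m, mul_smul _ _ _⟩
  have hne : stabilizer G B ≠ ⊤ := fun htop => by
    obtain ⟨q, hq⟩ := Finset.card_pos.1 (show 0 < B.card by omega)
    have hall : ∀ r : (G ⧸ M), r ∈ B := fun r => by
      obtain ⟨g, rfl⟩ := exists_smul_eq G q r
      have hg : g • B = B := mem_stabilizer_iff.1 (htop.symm ▸ Subgroup.mem_top g)
      exact hg ▸ Finset.smul_mem_smul_finset hq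
    have := congrArg Finset.card (Finset.eq_univ_of_forall hall)
    rw [hB7, Finset.card_univ, ← Nat.card_eq_fintype_card] at this
    rw [show Nat.card (G ⧸ M) = M.index from rfl, hidx] at this
    norm_num at this
  -- an element of order eleven cannot stabilise the set
  have h11 : ¬ 11 ∣ Nat.card (stabilizer G B) := fun h => by
    obtain ⟨y, hy, hyo⟩ := exists_order (by norm_num : Nat.Prime 11) h
    haveI : Fact (Nat.Prime 11) := ⟨by norm_num⟩
    have hys : Subgroup.zpowers y ≤ stabilizer G B := Subgroup.zpowers_le.2 hy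
    set Y := Subgroup.zpowers y with hY
    have hYc : Nat.card Y = 11 := by rw [hY, Nat.card_zpowers, hyo]
    have hyfix : ∀ q ∈ B, y • q = q := by
      intro q hq
      have hsub : orbit Y q ⊆ (B : Set (G ⧸ M)) := by
        rintro _ ⟨z, rfl⟩
        have hz : (z : G) • B = B := mem_stabilizer_iff.1 (hys z.2)
        exact hz ▸ Finset.smul_mem_smul_finset hq
      have hle : (orbit Y q).ncard ≤ 7 := by
        rw [← hB7, ← Set.ncard_coe_finset]
        exact Set.ncard_le_ncard hsub B.finite_toSet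
      rw [← index_stabilizer] at hle
      have hd : (stabilizer Y q).index ∣ 11 := hYc ▸ Subgroup.index_dvd_card _
      rcases (Nat.dvd_prime (by norm_num : Nat.Prime 11)).1 hd with e | e
      · have := Subgroup.index_eq_one.1 e
        have hm : (⟨y, Subgroup.mem_zpowers y⟩ : Y) ∈ stabilizer Y q := this.symm ▸ Subgroup.mem_top _
        exact hm
      · omega
    set F := Nat.card {Q : (G ⧸ M) // y • Q = Q} with hF
    have hF7 : 7 ≤ F := by
      rw [← hB7, ← Nat.card_eq_finsetCard]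
      exact Nat.card_le_card_of_injective (fun q : B => (⟨q.1, hyfix q.1 q.2⟩ : {Q : (G ⧸ M) // y • Q = Q}))
        fun a b hab => by
          simp only [Subtype.mk.injEq] at hab
          exact Subtype.ext hab
    have hF11 : F ≤ 11 := by
      refine Nat.le_of_mul_le_mul_right ?_ (Nat.card_pos (α := M))
      rw [hF, ← card_conj_mem M y, mul_comm 11]
      exact (card_conj_mem_le M y).trans (Nat.mul_le_mul_left _ (cc_eleven_le hG hyo))
    have hmod := (IsPGroup.of_card (n := 1) (by rw [hYc, pow_one]) : IsPGroup 11 Y).card_modEq_card_fixedPoints (G ⧸ M)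
    have hFc : Nat.card (fixedPoints Y (G ⧸ M)) = F := Nat.card_congr (Equiv.subtypeEquivRight fun q =>
      ⟨fun h => h ⟨y, Subgroup.mem_zpowers y⟩, fun h z => by
        have : (z : G) ∈ stabilizer G q := Subgroup.zpowers_le.2 (mem_stabilizer_iff.2 h) z.2
        exact this⟩)
    rw [hFc, show Nat.card (G ⧸ M) = M.index from rfl, hidx, Nat.ModEq] at hmod
    omega
  obtain ⟨k, hk⟩ : 40320 ∣ Nat.card (stabilizer G B) := S.card_norm ▸ Subgroup.card_dvd_of_le hNle
  have hk253 : k ∣ 253 := by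
    have h := Subgroup.card_subgroup_dvd_card (stabilizer G B)
    rw [hk, card_eq hG, show 10200960 = 40320 * 253 by norm_num] at h
    exact Nat.dvd_of_mul_dvd_mul_left (by norm_num) h
  have hkle : k ≤ 11 := by
    have := card_subgroup_le hG hne
    omega
  have hk1 : k = 1 := by
    have key : ∀ i < 12, 253 % i = 0 → i = 1 ∨ i = 11 := by decide +kernel
    rcases key k (by omega) (Nat.mod_eq_zero_of_dvd hk253) with h | h
    · exact h
    · exact absurd (hk ▸ h ▸ (by norm_num : 11 ∣ 40320 * 11)) h11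
  exact (Subgroup.eq_of_le_of_card_ge hNle (by rw [hk, hk1]; exact S.card_norm.ge)).symm

/-- The system of blocks. -/
theorem exists_system (hG : IsM23 G) :
    ∃ (α : Type u) (_ : Fintype α) (_ : DecidableEq α) (B : Set (Finset α)), Fintype.card α = 23 ∧
      IsSteinerSystem 4 7 B ∧ ∃ f : G →* setSystemAut B, Function.Injective f := by
  classical
  obtain ⟨T⟩ := exists_tbl hG
  obtain ⟨S⟩ := exists_sixteen_norm hG T
  obtain ⟨M, B, hidx, hB7, hst⟩ := exists_block hG T S
  haveI := Fintype.ofFinite (G ⧸ M)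
  haveI := Fintype.ofFinite (G ⧸ S.N)
  have hX : Fintype.card (G ⧸ M) = 23 := by
    rw [← Nat.card_eq_fintype_card]; exact hidx
  have hI : Fintype.card (G ⧸ S.N) = 253 := by
    rw [← Nat.card_eq_fintype_card]
    have h := S.N.card_mul_index
    rw [S.card_norm, card_eq hG] at h
    show S.N.index = 253
    omega
  set blk : (G ⧸ S.N) → Finset (G ⧸ M) := fun Q => Q.out • B with hblkdef
  have hblk : ∀ g : G, blk (QuotientGroup.mk g) = g • B := by
    intro g
    obtain ⟨h, hh⟩ := QuotientGroup.mk_out_eq_mul S.N g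
    simp only [hblkdef]
    rw [hh, mul_smul, mem_stabilizer_iff.1 (show (h : G) ∈ stabilizer G B by rw [hst]; exact h.2)]
  have hequiv : ∀ (g : G) (Q : (G ⧸ S.N)), blk (g • Q) = g • blk Q := by
    intro g Q
    obtain ⟨k, rfl⟩ := QuotientGroup.mk_surjective Q
    rw [hblk, ← mul_smul]
    exact hblk (g * k)
  have hinj : Function.Injective blk := by
    intro Q R h
    obtain ⟨a, rfl⟩ := QuotientGroup.mk_surjective Q
    obtain ⟨b, rfl⟩ := QuotientGroup.mk_surjective R
    rw [hblk, hblk] at h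
    refine QuotientGroup.eq.2 (hst ▸ mem_stabilizer_iff.2 ?_)
    rw [mul_smul, ← h, inv_smul_smul]
  have hcard : ∀ Q, (blk Q).card = 7 := fun Q => by rw [hblkdef, Finset.card_smul_finset, hB7]
  -- the blocks through a point
  have hdeg : ∀ q : (G ⧸ M), (Finset.univ.filter fun Q => q ∈ blk Q).card = 77 := by
    have hconst : ∀ q r : (G ⧸ M), (Finset.univ.filter fun Q => r ∈ blk Q).card =
        (Finset.univ.filter fun Q => q ∈ blk Q).card := by
      intro q r
      obtain ⟨g, rfl⟩ := exists_smul_eq G q r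
      refine (Finset.card_equiv (MulAction.toPerm g) fun Q => ?_).symm
      simp [hequiv, Finset.smul_mem_smul_finset_iff]
    have htot : ∑ q : (G ⧸ M), (Finset.univ.filter fun Q => q ∈ blk Q).card = 1771 := by
      simp only [Finset.card_filter]
      rw [Finset.sum_comm]
      simp only [Finset.sum_boole, Nat.cast_id, Finset.filter_mem_eq_inter, Finset.univ_inter, hcard, Finset.sum_const,
        Finset.card_univ, hI, smul_eq_mul]
    intro q
    rw [Finset.sum_congr rfl fun r _ => hconst q r, Finset.sum_const, Finset.card_univ, hX, smul_eq_mul] at htot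
    omega
  -- the intersections with a fixed block
  set x0 : (G ⧸ S.N) := QuotientGroup.mk (1 : G) with hx0
  have hblk0 : blk x0 = B := by rw [hblk, one_smul]
  set f : (G ⧸ S.N) → ℕ := fun Q => (B ∩ blk Q).card with hf
  have hfsum : ∑ Q ∈ Finset.univ.erase x0, f Q = 532 := by
    have h : ∑ Q, f Q = 539 := by
      simp only [hf]
      have e : ∀ Q, (B ∩ blk Q).card = (B.filter fun q => q ∈ blk Q).card := fun Q => by
        rw [Finset.filter_mem_eq_inter]
      simp only [e, Finset.card_filter]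
      rw [Finset.sum_comm]
      simp only [Finset.sum_boole, Nat.cast_id, hdeg, Finset.sum_const, hB7, smul_eq_mul]
    rw [← Finset.add_sum_erase _ _ (Finset.mem_univ x0)] at h
    simp only [hf, hblk0, Finset.inter_self, hB7] at h ⊢
    omega
  have hfinv : ∀ (h : S.N) (Q : (G ⧸ S.N)), f (h • Q) = f Q := by
    intro h Q
    simp only [hf]
    rw [show h • Q = (h : G) • Q from rfl, hequiv]
    have hB' : (h : G) • B = B := mem_stabilizer_iff.1 (hst.symm ▸ h.2)
    conv_lhs => rw [← hB', ← Finset.smul_finset_inter, Finset.card_smul_finset]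
  -- the three orbits
  obtain ⟨h3, -, -⟩ := T.perm253 hG (H := S.N) S.card_norm
  obtain ⟨⟨g, hg⟩, -⟩ := Sixteen.suborbit hG T S
  set Q1 : (G ⧸ S.N) := g • x0 with hQ1
  have hst0 : stabilizer G x0 = S.N := MulAction.stabilizer_quotient _
  set O1 : Finset (G ⧸ S.N) := (orbit S.N Q1).toFinset with hO1
  have hO1c : O1.card = 112 := by
    rw [hO1, Set.toFinset_card, ← Nat.card_eq_fintype_card, Nat.card_coe_set_eq, ← index_stabilizer]
    have h := (stabilizer S.N Q1).card_mul_index
    have hstQ : stabilizer G Q1 = S.N.map (MulAut.conj g).toMonoidHom := by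
      rw [hQ1, stabilizer_smul_eq_stabilizer_map_conj, hst0]
    have e : stabilizer S.N Q1 = (meet S.N g).subgroupOf S.N := by
      rw [meet, Subgroup.inf_subgroupOf_left]
      refine Subgroup.ext fun z => ?_
      exact (mem_stabilizer_iff (G := G) (g := (z : G)) (a := Q1)).symm.trans (by rw [hstQ, Subgroup.mem_subgroupOf])
    have hle : meet S.N g ≤ S.N := inf_le_left
    rw [S.card_norm, e, Nat.card_congr (Subgroup.subgroupOfEquivOfLe hle).toEquiv, hg] at h
    rw [e]
    omega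
  have hfix0 : ∀ h : S.N, h • x0 = x0 := fun h => mem_stabilizer_iff.1 (hst0.symm ▸ h.2 : (h : G) ∈ stabilizer G x0)
  have hQ10 : Q1 ≠ x0 := fun e => by
    have h1 : (orbit S.N Q1).toFinset ⊆ {x0} := fun Q hQ => by
      obtain ⟨h, rfl⟩ := Set.mem_toFinset.1 hQ
      rw [Finset.mem_singleton]
      show h • Q1 = x0
      rw [e, hfix0]
    have := Finset.card_le_card h1
    rw [← hO1, hO1c, Finset.card_singleton] at this
    omega
  have hx0O : x0 ∉ O1 := fun h => by
    obtain ⟨k, hk⟩ := Set.mem_toFinset.1 h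
    refine hQ10 ?_
    have hk' : k • Q1 = k • x0 := hk.trans (hfix0 k).symm
    exact smul_left_cancel k hk'
  set O2 : Finset (G ⧸ S.N) := Finset.univ.erase x0 \ O1 with hO2
  have hO1sub : O1 ⊆ Finset.univ.erase x0 := fun Q hQ => Finset.mem_erase.2 ⟨fun e => hx0O (e ▸ hQ), Finset.mem_univ _⟩
  have hO2c : O2.card = 140 := by
    rw [hO2, Finset.card_sdiff_of_subset hO1sub, hO1c, Finset.card_erase_of_mem (Finset.mem_univ _), Finset.card_univ, hI]
  have hsame : ∀ Q ∈ O2, ∀ R ∈ O2, R ∈ orbit S.N Q := by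
    intro Q hQ R hR
    by_contra hRQ
    haveI := Fintype.ofFinite (orbitRel.Quotient S.N (G ⧸ S.N))
    let π : (G ⧸ S.N) → orbitRel.Quotient S.N (G ⧸ S.N) := fun R => Quotient.mk _ R
    have hπ : ∀ Q R, π R = π Q → R ∈ orbit S.N Q := fun Q R h => orbitRel_apply.mp (Quotient.exact h)
    have h0 : ∀ Q, π Q = π x0 → Q = x0 := fun Q h => by
      obtain ⟨k, rfl⟩ := hπ _ _ h
      exact hfix0 k
    obtain ⟨hQ', hQO⟩ := Finset.mem_sdiff.1 hQ
    obtain ⟨hR', hRO⟩ := Finset.mem_sdiff.1 hR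
    have n1 : π Q1 ≠ π x0 := fun e => hQ10 (h0 _ e)
    have n2 : π Q ≠ π x0 := fun e => (Finset.mem_erase.1 hQ').1 (h0 _ e)
    have n3 : π R ≠ π x0 := fun e => (Finset.mem_erase.1 hR').1 (h0 _ e)
    have n4 : π Q ≠ π Q1 := fun e => hQO (Set.mem_toFinset.2 (hπ _ _ e))
    have n5 : π R ≠ π Q1 := fun e => hRO (Set.mem_toFinset.2 (hπ _ _ e))
    have n6 : π R ≠ π Q := fun e => hRQ (hπ _ _ e)
    have h4 : ({π x0, π Q1, π Q, π R} : Finset (orbitRel.Quotient S.N (G ⧸ S.N))).card = 4 := by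
      simp [n1.symm, n2.symm, n3.symm, n4.symm, n5.symm, n6.symm]
    have := Finset.card_le_univ ({π x0, π Q1, π Q, π R} : Finset (orbitRel.Quotient S.N (G ⧸ S.N)))
    rw [h4, ← Nat.card_eq_fintype_card, h3] at this
    omega
  obtain ⟨Q2, hQ2⟩ := Finset.card_pos.1 (show 0 < O2.card by omega)
  have hf1 : ∀ Q ∈ O1, f Q = f Q1 := fun Q hQ => by
    obtain ⟨k, rfl⟩ := Set.mem_toFinset.1 hQ
    exact hfinv k Q1
  have hf2 : ∀ Q ∈ O2, f Q = f Q2 := fun Q hQ => by
    obtain ⟨k, rfl⟩ := hsame Q2 hQ2 Q hQ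
    exact hfinv k Q2
  have hf3 : ∀ Q, Q ≠ x0 → f Q ≤ 3 := by
    rw [← Finset.sum_sdiff hO1sub, ← hO2, Finset.sum_congr rfl hf2, Finset.sum_congr rfl hf1, Finset.sum_const,
      Finset.sum_const, hO1c, hO2c, smul_eq_mul, smul_eq_mul] at hfsum
    intro Q hQ
    by_cases hQO : Q ∈ O1
    · rw [hf1 Q hQO]; omega
    · rw [hf2 Q (Finset.mem_sdiff.2 ⟨Finset.mem_erase.2 ⟨hQ, Finset.mem_univ _⟩, hQO⟩)]; omega
  have hinter : ∀ Q R, Q ≠ R → (blk Q ∩ blk R).card ≤ 3 := by
    intro Q R hne
    obtain ⟨a, rfl⟩ := QuotientGroup.mk_surjective Q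
    have e1 : blk (QuotientGroup.mk a) = a • B := hblk a
    have e2 : blk R = a • blk (a⁻¹ • R) := by rw [← hequiv, smul_inv_smul]
    rw [e1, e2, ← Finset.smul_finset_inter, Finset.card_smul_finset]
    refine hf3 _ fun e => hne ?_
    rw [← smul_inv_smul a R, e, hx0]
    show QuotientGroup.mk a = QuotientGroup.mk (a * 1)
    rw [mul_one]
  -- the system
  have hdis : ((Finset.univ : Finset (G ⧸ S.N)) : Set (G ⧸ S.N)).PairwiseDisjoint fun Q => (blk Q).powersetCard 4 := by
    intro Q _ R _ hne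
    refine Finset.disjoint_left.mpr fun t ht ht' => ?_
    rw [Finset.mem_powersetCard] at ht ht'
    have h1 := Finset.card_le_card (Finset.subset_inter ht.1 ht'.1)
    have := hinter Q R hne
    omega
  have hall : (Finset.univ : Finset (G ⧸ S.N)).biUnion (fun Q => (blk Q).powersetCard 4) =
      (Finset.univ : Finset (G ⧸ M)).powersetCard 4 := by
    refine Finset.eq_of_subset_of_card_le (Finset.biUnion_subset.mpr fun Q _ =>
      Finset.powersetCard_mono (Finset.subset_univ _)) ?_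
    rw [Finset.card_powersetCard, Finset.card_univ, hX, Finset.card_biUnion hdis,
      Finset.sum_congr rfl fun Q _ => by rw [Finset.card_powersetCard, hcard], Finset.sum_const, Finset.card_univ, hI]
    decide
  have hsteiner : IsSteinerSystem 4 7 (Set.range blk) := by
    refine ⟨?_, fun s hs => ?_⟩
    · rintro - ⟨Q, rfl⟩; exact hcard Q
    · have hs' : s ∈ (Finset.univ : Finset (G ⧸ S.N)).biUnion (fun Q => (blk Q).powersetCard 4) := by
        rw [hall, Finset.mem_powersetCard]; exact ⟨Finset.subset_univ _, hs⟩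
      obtain ⟨Q, -, hQ⟩ := Finset.mem_biUnion.mp hs'
      refine ⟨blk Q, ⟨⟨Q, rfl⟩, (Finset.mem_powersetCard.mp hQ).1⟩, ?_⟩
      rintro - ⟨⟨R, rfl⟩, hR⟩
      by_contra hne
      exact Finset.disjoint_left.mp (hdis (Finset.mem_coe.mpr (Finset.mem_univ R))
        (Finset.mem_coe.mpr (Finset.mem_univ Q)) fun e => hne (e ▸ rfl))
        (Finset.mem_powersetCard.mpr ⟨hR, hs⟩) hQ
  set φ := MulAction.toPermHom G (G ⧸ M) with hφ
  have hrange : ∀ g, φ g ∈ setSystemAut (Set.range blk) := by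
    intro g
    show (fun b : Finset (G ⧸ M) => b.image (φ g)) '' Set.range blk = Set.range blk
    have himg : ∀ Q, (blk Q).image (φ g) = blk (g • Q) := fun Q => (hequiv g Q).symm
    ext b
    constructor
    · rintro ⟨_, ⟨Q, rfl⟩, rfl⟩
      exact ⟨g • Q, (himg Q).symm⟩
    · rintro ⟨Q, rfl⟩
      exact ⟨_, ⟨g⁻¹ • Q, rfl⟩, by
        show (blk (g⁻¹ • Q)).image (φ g) = _
        rw [himg, smul_inv_smul]⟩
  refine ⟨(G ⧸ M), inferInstance, inferInstance, Set.range blk, hX, hsteiner, φ.codRestrict _ hrange, ?_⟩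
  have hinjφ : Function.Injective φ := by
    rw [← MonoidHom.ker_eq_bot_iff]
    refine (normal_cases hG φ.normal_ker).resolve_right fun htop => ?_
    obtain ⟨q, r, hqr⟩ := Fintype.exists_pair_of_one_lt_card (show 1 < Fintype.card (G ⧸ M) by omega)
    obtain ⟨g, hg⟩ := exists_smul_eq G q r
    have h1 : φ g q = q := Equiv.ext_iff.mp (MonoidHom.mem_ker.mp (htop ▸ Subgroup.mem_top g)) q
    exact hqr (h1.symm.trans hg)
  exact fun a b hab => hinjφ (congrArg Subtype.val hab)

/-- Finite simple groups of order 10200960 are isomorphic. -/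
theorem unique10200960 {K : Type*} [Group K] [Finite K] (hG : IsM23 G) (hK : IsM23 K) : Nonempty (G ≃* K) := by
  classical
  haveI := Fintype.ofFinite K
  obtain ⟨α, _, _, B, hα, hB, f, hf⟩ := exists_system hG
  obtain ⟨β, _, _, B', hβ, hB', f', hf'⟩ := exists_system hK
  obtain ⟨e, he⟩ := CfsgCode.iso_23 hα hβ hB hB'
  have hf2 : Function.Surjective f := by
    refine (Nat.bijective_iff_injective_and_card f |>.2 ⟨hf, ?_⟩).2
    rw [hG.2, (CfsgCode.aut_23 hα hB).1.2]
  have hf'2 : Function.Surjective f' := by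
    refine (Nat.bijective_iff_injective_and_card f' |>.2 ⟨hf', ?_⟩).2
    rw [hK.2, (CfsgCode.aut_23 hβ hB').1.2]
  exact ⟨((MulEquiv.ofBijective f ⟨hf, hf2⟩).trans (CfsgCode.autEquiv e he)).trans
    (MulEquiv.ofBijective f' ⟨hf', hf'2⟩).symm⟩

end CfsgSimpleM23
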